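import Mathlib
import Cfsg.Agent.H762.CHyp
import Cfsg.Prelude.Def_CaseTheorems
import Cfsg.Agent.Lib.Cores
import Cfsg.Agent.Lib.SylowNormalInf
import Cfsg.Agent.H316.RedSimple
import Cfsg.Agent.H762.Main
import Cfsg.Agent.H603.SporElim
import Cfsg.Agent.H685.ThreeExc_mg
import Cfsg.Agent.H248.TitsRGD
import Cfsg.Agent.GTwoFour.Tools
import Cfsg.Agent.Mrg.Omega.TwoF.RowTh_m3
import Cfsg.Agent.TypeD4Two.FieldIso
import Cfsg.Agent.H149.Sp.Quot
import Cfsg.Agent.Cit.Nil.CVA2.BenSyl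
import Cfsg.Agent.FastGrp
import Cfsg.Agent.Prune
set_option linter.all false

section
prune_inst 0x7ffcfef9afb8bddfffff7e7fffdddffe19d4dfffe6dffb4b7fe8ebff8bff03043de5fbad9de0d0ff0ef662b610b87853f9ffc67fee6bdc7ffffd5ff45ffbee1ff7ffbf8951d688340fbc6ffff3f07f8e7f3fffffffffffffffffffffffffffbeffffffffffff

-- part: H312/ReeSit_mg
section
prune_inst 0x20002004000000000000000000001e4292000192004b0801410002400680a8000000062080800000180002000000000002000010000000000000000000000000000000020000a000000000000004000000000000000000000000000000000000000000000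
set_option linter.all false
open scoped Cfsg.Agent.FastGrp

-- part: H312/ReeLoc
section
/-!
# The centralizer of a 2-central involution of `²F₄(q)`: abstract local part (helper312, S3217)

`Loc C Z Q2 Q1 Q` : the structure of `C ≅ C_q` used in the reduction (`Z = Z(C)`, `Q = O_2(C)`, `Q2 = [Q, Q]`,
`Q1 = C(Q2)`).

* `Loc.dich` : a normal subgroup of `C` inside `Q` lies in `Z` or contains `Q2`;
* `Loc.le_Z` : a normal subgroup `N` of `C` with `N ∩ Q ≤ Z` lies in `Z`;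
* `Loc.elem` : a normal subgroup of `C` of exponent two lies in `Z` or is `Q2`.
-/

set_option autoImplicit false

namespace Cfsg.Agent.H312.Ree

open Subgroup
open scoped commutatorElement

variable {G : Type*} [Group G]

/-- `N` is normalised by `C` -/
def NB (C N : Subgroup G) : Prop := ∀ c ∈ C, ∀ x ∈ N, c * x * c⁻¹ ∈ N

theorem NB.inf {C M N : Subgroup G} (h : NB C M) (h' : NB C N) : NB C (M ⊓ N) :=
  fun c hc x hx => ⟨h c hc x hx.1, h' c hc x hx.2⟩

theorem NB.sup {C M N : Subgroup G} (h : NB C M) (h' : NB C N) : NB C (M ⊔ N) := by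
  intro c hc x hx
  have key : M ⊔ N ≤ (M ⊔ N).comap (MulAut.conj c).toMonoidHom :=
    sup_le (fun y hy => mem_sup_left (h c hc y hy)) (fun y hy => mem_sup_right (h' c hc y hy))
  exact key hx

theorem NB.of_normal {C N : Subgroup G} (h : N.Normal) : NB C N := fun c _ x hx => h.conj_mem x hx c

/-- the local structure of `C` -/
structure Loc (C Z Q2 Q1 Q : Subgroup G) : Prop where
  Q_le : Q ≤ C
  Q1_le : Q1 ≤ Q
  Q2_le : Q2 ≤ Q1
  Z_le : Z ≤ Q2
  nQ : NB C Q
  nQ1 : NB C Q1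
  nQ2 : NB C Q2
  cZ : ∀ c ∈ C, ∀ x ∈ Z, c * x = x * c
  sq2 : ∀ x ∈ Q2, x * x = 1
  comm1 : ∀ x ∈ Q1, ∀ y ∈ Q2, x * y = y * x
  cent2 : ∀ g ∈ C, (∀ y ∈ Q2, g * y = y * g) → g ∈ Q1
  cent : ∀ g ∈ C, (∀ y ∈ Q, g * y = y * g) → g ∈ Z
  comm2 : ∀ x ∈ Q2, ∀ y ∈ Q, ⁅x, y⁆ ∈ Z
  comm2' : Z ≤ ⁅Q2, Q⁆
  commQ : ⁅Q, Q⁆ ≤ Q2
  comm11 : ∀ x ∈ Q1, ∀ y ∈ Q1, ⁅x, y⁆ ∈ Z
  sq1 : ∀ x ∈ Q1, x * x ∈ Z
  sq1' : ∀ x ∈ Q1, x * x = 1 → x ∈ Q2
  ne1 : ¬ Q1 ≤ Q2
  sec : ∀ x ∈ Q1, (∀ y ∈ Q, ⁅x, y⁆ ∈ Z) → x ∈ Q2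
  irr1 : ∀ N : Subgroup G, Z ≤ N → N ≤ Q2 → NB C N → ¬ N ≤ Z → N = Q2
  irr2 : ∀ N : Subgroup G, Q1 ≤ N → N ≤ Q → NB C N → ¬ N ≤ Q1 → N = Q
  two : IsPGroup 2 Q
  O2 : ∀ N : Subgroup G, N ≤ C → NB C N → IsPGroup 2 N → N ≤ Q
  Z_ne : Z ≠ ⊥
  big : 4 < Nat.card Q2

namespace Loc

variable {C Z Q2 Q1 Q : Subgroup G} (h : Loc C Z Q2 Q1 Q)

include h

theorem Z_le_Q : Z ≤ Q := h.Z_le.trans (h.Q2_le.trans h.Q1_le)
theorem Z_le_C : Z ≤ C := h.Z_le_Q.trans h.Q_le
theorem Q2_le_Q : Q2 ≤ Q := h.Q2_le.trans h.Q1_le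
theorem Q2_le_C : Q2 ≤ C := h.Q2_le_Q.trans h.Q_le
theorem Q1_le_C : Q1 ≤ C := h.Q1_le.trans h.Q_le

theorem nZ : NB C Z := by
  intro c hc x hx
  rw [h.cZ c hc x hx, mul_inv_cancel_right]
  exact hx

theorem sqZ {x : G} (hx : x ∈ Z) : x * x = 1 := h.sq2 x (h.Z_le hx)

omit h in
theorem comm_mem_of_NB {D : Subgroup G} (hD : NB C D) {x y : G} (hx : x ∈ D) (hy : y ∈ C) : ⁅x, y⁆ ∈ D := by
  have e : ⁅x, y⁆ = x * (y * x⁻¹ * y⁻¹) := by rw [commutatorElement_def]; group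
  rw [e]
  exact D.mul_mem hx (hD y hy _ (D.inv_mem hx))

theorem not_Q2_le : ¬ Q2 ≤ Z := by
  intro h2
  apply h.ne1
  intro x hx
  refine h.sec x hx fun y hy => h2 (h.commQ (commutator_mem_commutator (h.Q1_le hx) hy))

/-- the second centre of `Q` lies in `Q2` -/
theorem second {D : Subgroup G} (hD : D ≤ Q) (hn : NB C D) (hc : ∀ x ∈ D, ∀ y ∈ Q, ⁅x, y⁆ ∈ Z) : D ≤ Q2 := by
  have hD1 : D ≤ Q1 := by
    by_contra hne
    have hN : D ⊔ Q1 = Q :=
      h.irr2 _ le_sup_right (sup_le hD h.Q1_le) (hn.sup h.nQ1) (fun h1 => hne (le_sup_left.trans h1))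
    apply h.ne1
    intro x hx
    refine h.sec x hx fun y hy => ?_
    -- the elements of `Q` whose commutator with `x` is in `Z`
    let K : Subgroup G :=
      { carrier := {y | y ∈ Q ∧ ⁅x, y⁆ ∈ Z}
        one_mem' := ⟨Q.one_mem, by rw [commutatorElement_one_right]; exact Z.one_mem⟩
        mul_mem' := by
          rintro a b ⟨ha, ha'⟩ ⟨hb, hb'⟩
          refine ⟨Q.mul_mem ha hb, ?_⟩
          have e : ⁅x, a * b⁆ = ⁅x, a⁆ * (a * ⁅x, b⁆ * a⁻¹) := by simp only [commutatorElement_def]; group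
          rw [e]
          exact Z.mul_mem ha' (h.nZ a (h.Q_le ha) _ hb')
        inv_mem' := by
          rintro a ⟨ha, ha'⟩
          refine ⟨Q.inv_mem ha, ?_⟩
          have e : ⁅x, a⁻¹⁆ = a⁻¹ * ⁅x, a⁆⁻¹ * a⁻¹⁻¹ := by simp only [commutatorElement_def]; group
          rw [e]
          exact h.nZ _ (C.inv_mem (h.Q_le ha)) _ (Z.inv_mem ha') }
    have hK : D ⊔ Q1 ≤ K := by
      refine sup_le (fun d hd => ⟨hD hd, ?_⟩) (fun d hd => ⟨h.Q1_le hd, h.comm11 x hx d hd⟩)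
      rw [← commutatorElement_inv]
      exact Z.inv_mem (hc d hd x (h.Q1_le hx))
    rw [hN] at hK
    exact (hK hy).2
  intro x hx
  exact h.sec x (hD1 hx) (hc x hx)

/-- a normal subgroup of `C` inside `Q2` -/
theorem dich2 {D : Subgroup G} (hD : D ≤ Q2) (hn : NB C D) (hne : ¬ D ≤ Z) : Q2 ≤ D := by
  have hN : D ⊔ Z = Q2 :=
    h.irr1 _ le_sup_right (sup_le hD h.Z_le) (hn.sup h.nZ) (fun h1 => hne (le_sup_left.trans h1))
  have hZ : Z ≤ D := by
    refine h.comm2'.trans ?_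
    rw [commutator_le]
    intro x hx y hy
    have key : D ⊔ Z ≤ Subgroup.closure {x | x ∈ C ∧ ⁅x, y⁆ ∈ D} := by
      refine sup_le (fun d hd => subset_closure ⟨h.Q2_le_C (hD hd), comm_mem_of_NB hn hd (h.Q_le hy)⟩)
        (fun z hz => subset_closure ⟨h.Z_le_C hz, ?_⟩)
      have e : ⁅z, y⁆ = 1 := by
        rw [commutatorElement_eq_one_iff_mul_comm]
        exact (h.cZ y (h.Q_le hy) z hz).symm
      rw [e]; exact D.one_mem
    rw [hN] at key
    have h2 : x ∈ C ∧ ⁅x, y⁆ ∈ D := by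
      refine Subgroup.closure_induction (p := fun x _ => x ∈ C ∧ ⁅x, y⁆ ∈ D) (fun a ha => ha) ⟨C.one_mem, ?_⟩
        (fun a b _ _ ha hb => ⟨C.mul_mem ha.1 hb.1, ?_⟩) (fun a _ ha => ⟨C.inv_mem ha.1, ?_⟩) (key hx)
      · rw [commutatorElement_one_left]; exact D.one_mem
      · have e : ⁅a * b, y⁆ = a * ⁅b, y⁆ * a⁻¹ * ⁅a, y⁆ := by simp only [commutatorElement_def]; group
        rw [e]
        exact D.mul_mem (hn a ha.1 _ hb.2) ha.2
      · have e : ⁅a⁻¹, y⁆ = a⁻¹ * ⁅a, y⁆⁻¹ * a⁻¹⁻¹ := by simp only [commutatorElement_def]; group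
        rw [e]
        exact hn _ (C.inv_mem ha.1) _ (D.inv_mem ha.2)
    exact h2.2
  rw [← hN]
  exact sup_le le_rfl hZ

/-- **a normal subgroup of `C` inside `Q` lies in `Z` or contains `Q2`** -/
theorem dich {D : Subgroup G} (hD : D ≤ Q) (hn : NB C D) : D ≤ Z ∨ Q2 ≤ D := by
  by_cases hc : ∀ x ∈ D, ∀ y ∈ Q, ⁅x, y⁆ ∈ Z
  · by_cases hz : D ≤ Z
    · exact Or.inl hz
    · exact Or.inr (h.dich2 (h.second hD hn hc) hn hz)
  · right
    push Not at hc
    obtain ⟨x, hx, y, hy, hxy⟩ := hc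
    have h1 : ⁅x, y⁆ ∈ D ⊓ Q2 :=
      ⟨comm_mem_of_NB hn hx (h.Q_le hy), h.commQ (commutator_mem_commutator (hD hx) hy)⟩
    exact (h.dich2 inf_le_right (hn.inf h.nQ2) (fun h2 => hxy (h2 h1))).trans inf_le_left

/-- **a normal subgroup `N` of `C` with `N ∩ Q ≤ Z` lies in `Z`** -/
theorem le_Z {N : Subgroup G} (hN : N ≤ C) (hn : NB C N) (hQ : N ⊓ Q ≤ Z) : N ≤ Z := by
  have hc : ∀ x ∈ N, ∀ y ∈ Q, ⁅x, y⁆ ∈ Z := by
    intro x hx y hy
    refine hQ ⟨comm_mem_of_NB hn hx (h.Q_le hy), ?_⟩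
    have e : ⁅x, y⁆ = x * y * x⁻¹ * y⁻¹ := commutatorElement_def x y
    rw [e]
    exact Q.mul_mem (h.nQ x (hN hx) y hy) (Q.inv_mem hy)
  have hsq : ∀ x ∈ N, x * x ∈ Z := by
    intro x hx
    refine h.cent _ (C.mul_mem (hN hx) (hN hx)) fun y hy => ?_
    have h1 := hc x hx y hy
    have h2 : x * ⁅x, y⁆ * x⁻¹ = ⁅x, y⁆ := by
      rw [h.cZ x (hN hx) _ h1, mul_inv_cancel_right]
    have e : ⁅x * x, y⁆ = x * ⁅x, y⁆ * x⁻¹ * ⁅x, y⁆ := by simp only [commutatorElement_def]; group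
    rw [h2, h.sqZ h1, commutatorElement_eq_one_iff_mul_comm] at e
    exact e
  have h2 : IsPGroup 2 N := by
    intro x
    refine ⟨2, Subtype.ext ?_⟩
    have h1 := h.sqZ (hsq x x.2)
    change (x : G) ^ 2 ^ 2 = 1
    rw [← h1, show 2 ^ 2 = 2 + 2 by norm_num, pow_add, pow_two]
  exact (le_inf le_rfl (h.O2 N hN hn h2)).trans hQ

/-- normal subgroups of exponent two -/
theorem elem {A : Subgroup G} (hA : A ≤ C) (hn : NB C A) (h2 : ∀ x ∈ A, x * x = 1) : A ≤ Z ∨ A = Q2 := by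
  have hp : IsPGroup 2 A := by
    intro x
    refine ⟨1, Subtype.ext ?_⟩
    change (x : G) ^ 2 ^ 1 = 1
    rw [pow_one, pow_two]
    exact h2 x x.2
  have hc : ∀ x ∈ A, ∀ y ∈ A, x * y = y * x := by
    intro x hx y hy
    have e1 : x⁻¹ = x := inv_eq_of_mul_eq_one_left (h2 x hx)
    have e2 : y⁻¹ = y := inv_eq_of_mul_eq_one_left (h2 y hy)
    have e3 : (x * y)⁻¹ = x * y := inv_eq_of_mul_eq_one_left (h2 _ (A.mul_mem hx hy))
    rw [← e3, mul_inv_rev, e1, e2]
  rcases h.dich (h.O2 A hA hn hp) hn with h1 | h1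
  · exact Or.inl h1
  · refine Or.inr (le_antisymm (fun x hx => ?_) h1)
    exact h.sq1' x (h.cent2 x (hA hx) fun y hy => hc x hx y (h1 hy)) (h2 x hx)

end Loc

end Cfsg.Agent.H312.Ree
end

-- part: H312/ReeTrans
section
/-!
# Transport of `Loc` along an isomorphism (helper312, S3217)

`Loc.transport` : `Loc` for a subgroup `C'` of `Γ` and an isomorphism `C ≃* C'`.
-/

set_option autoImplicit false

namespace Cfsg.Agent.H312.Ree

open Subgroup
open scoped commutatorElement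

namespace Loc

variable {Γ : Type*} [Group Γ]

theorem map_mono_iff {G H : Type*} [Group G] [Group H] {f : G →* H} (hf : Function.Injective f) {A B : Subgroup G} :
    A.map f ≤ B.map f ↔ A ≤ B := map_le_map_iff_of_injective hf

/-- inside `C` -/
theorem inside {C Z Q2 Q1 Q : Subgroup Γ} (h : Loc C Z Q2 Q1 Q) :
    Loc (⊤ : Subgroup C) (Z.subgroupOf C) (Q2.subgroupOf C) (Q1.subgroupOf C) (Q.subgroupOf C) where
  Q_le := le_top
  Q1_le := comap_mono h.Q1_le
  Q2_le := comap_mono h.Q2_le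
  Z_le := comap_mono h.Z_le
  nQ := fun c _ x hx => h.nQ c c.2 x hx
  nQ1 := fun c _ x hx => h.nQ1 c c.2 x hx
  nQ2 := fun c _ x hx => h.nQ2 c c.2 x hx
  cZ := fun c _ x hx => Subtype.ext (h.cZ c c.2 x hx)
  sq2 := fun x hx => Subtype.ext (h.sq2 x hx)
  comm1 := fun x hx y hy => Subtype.ext (h.comm1 x hx y hy)
  cent2 := fun g _ hg => h.cent2 g g.2 fun y hy => congrArg Subtype.val (hg ⟨y, h.Q2_le_C hy⟩ hy)
  cent := fun g _ hg => h.cent g g.2 fun y hy => congrArg Subtype.val (hg ⟨y, h.Q_le hy⟩ hy)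
  comm2 := fun x hx y hy => h.comm2 x hx y hy
  comm2' := by
    have e : (⁅Q2.subgroupOf C, Q.subgroupOf C⁆).map C.subtype = ⁅Q2, Q⁆ := by
      rw [map_commutator, subgroupOf_map_subtype, subgroupOf_map_subtype, inf_eq_left.2 h.Q2_le_C,
        inf_eq_left.2 h.Q_le]
    rw [← map_mono_iff C.subtype_injective, e, subgroupOf_map_subtype, inf_eq_left.2 h.Z_le_C]
    exact h.comm2'
  commQ := by
    rw [commutator_le]
    intro x hx y hy
    exact h.commQ (commutator_mem_commutator (H₁ := Q) (H₂ := Q) hx hy)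
  comm11 := fun x hx y hy => h.comm11 x hx y hy
  sq1 := fun x hx => h.sq1 x hx
  sq1' := fun x hx hxx => h.sq1' x hx (congrArg Subtype.val hxx)
  ne1 := by
    intro h1
    apply h.ne1
    intro x hx
    exact h1 (show (⟨x, h.Q1_le_C hx⟩ : C) ∈ Q1.subgroupOf C from hx)
  sec := fun x hx hxy => h.sec x hx fun y hy => hxy ⟨y, h.Q_le hy⟩ hy
  irr1 := by
    intro N h1 h2 hn hne
    have h3 : N.map C.subtype = Q2 := by
      refine h.irr1 _ ?_ ?_ ?_ ?_
      · intro x hx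
        exact ⟨⟨x, h.Z_le_C hx⟩, h1 hx, rfl⟩
      · rintro _ ⟨x, hx, rfl⟩
        exact h2 hx
      · rintro c hc _ ⟨x, hx, rfl⟩
        exact ⟨(⟨c, hc⟩ * x * ⟨c, hc⟩⁻¹ :), hn _ trivial x hx, rfl⟩
      · intro h4
        exact hne fun x hx => h4 ⟨x, hx, rfl⟩
    apply Subgroup.map_injective C.subtype_injective
    rw [h3, subgroupOf_map_subtype, inf_eq_left.2 h.Q2_le_C]
  irr2 := by
    intro N h1 h2 hn hne
    have h3 : N.map C.subtype = Q := by
      refine h.irr2 _ ?_ ?_ ?_ ?_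
      · intro x hx
        exact ⟨⟨x, h.Q1_le_C hx⟩, h1 hx, rfl⟩
      · rintro _ ⟨x, hx, rfl⟩
        exact h2 hx
      · rintro c hc _ ⟨x, hx, rfl⟩
        exact ⟨(⟨c, hc⟩ * x * ⟨c, hc⟩⁻¹ :), hn _ trivial x hx, rfl⟩
      · intro h4
        exact hne fun x hx => h4 ⟨x, hx, rfl⟩
    apply Subgroup.map_injective C.subtype_injective
    rw [h3, subgroupOf_map_subtype, inf_eq_left.2 h.Q_le]
  two := h.two.comap_subtype
  O2 := by
    intro N _ hn h2 x hx
    refine h.O2 (N.map C.subtype) (map_subtype_le N) ?_ (h2.map _) ⟨x, hx, rfl⟩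
    rintro c hc _ ⟨x, hx, rfl⟩
    exact ⟨(⟨c, hc⟩ * x * ⟨c, hc⟩⁻¹ :), hn _ trivial x hx, rfl⟩
  Z_ne := by
    intro h1
    apply h.Z_ne
    rw [eq_bot_iff]
    intro x hx
    have h3 : (⟨x, h.Z_le_C hx⟩ : C) ∈ Z.subgroupOf C := hx
    rw [h1, mem_bot] at h3
    exact congrArg Subtype.val h3
  big := by
    rw [Nat.card_congr (subgroupOfEquivOfLe h.Q2_le_C).toEquiv]
    exact h.big

/-- the image -/
theorem image {H G : Type*} [Group H] [Group G] {Z Q2 Q1 Q : Subgroup H} (h : Loc ⊤ Z Q2 Q1 Q) (f : H →* G)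
    (hf : Function.Injective f) : Loc f.range (Z.map f) (Q2.map f) (Q1.map f) (Q.map f) where
  Q_le := map_le_range f Q
  Q1_le := map_mono h.Q1_le
  Q2_le := map_mono h.Q2_le
  Z_le := map_mono h.Z_le
  nQ := by
    rintro _ ⟨c, rfl⟩ _ ⟨x, hx, rfl⟩
    exact ⟨c * x * c⁻¹, h.nQ c trivial x hx, by rw [map_mul, map_mul, map_inv]⟩
  nQ1 := by
    rintro _ ⟨c, rfl⟩ _ ⟨x, hx, rfl⟩
    exact ⟨c * x * c⁻¹, h.nQ1 c trivial x hx, by rw [map_mul, map_mul, map_inv]⟩
  nQ2 := by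
    rintro _ ⟨c, rfl⟩ _ ⟨x, hx, rfl⟩
    exact ⟨c * x * c⁻¹, h.nQ2 c trivial x hx, by rw [map_mul, map_mul, map_inv]⟩
  cZ := by
    rintro _ ⟨c, rfl⟩ _ ⟨x, hx, rfl⟩
    rw [← map_mul, h.cZ c trivial x hx, map_mul]
  sq2 := by
    rintro _ ⟨x, hx, rfl⟩
    rw [← map_mul, h.sq2 x hx, map_one]
  comm1 := by
    rintro _ ⟨x, hx, rfl⟩ _ ⟨y, hy, rfl⟩
    rw [← map_mul, h.comm1 x hx y hy, map_mul]
  cent2 := by
    rintro _ ⟨g, rfl⟩ hg
    exact ⟨g, h.cent2 g trivial fun y hy => hf (by rw [map_mul, map_mul]; exact hg _ ⟨y, hy, rfl⟩), rfl⟩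
  cent := by
    rintro _ ⟨g, rfl⟩ hg
    exact ⟨g, h.cent g trivial fun y hy => hf (by rw [map_mul, map_mul]; exact hg _ ⟨y, hy, rfl⟩), rfl⟩
  comm2 := by
    rintro _ ⟨x, hx, rfl⟩ _ ⟨y, hy, rfl⟩
    exact ⟨⁅x, y⁆, h.comm2 x hx y hy, map_commutatorElement f x y⟩
  comm2' := by
    rw [← map_commutator]
    exact map_mono h.comm2'
  commQ := by
    rw [← map_commutator]
    exact map_mono h.commQ
  comm11 := by
    rintro _ ⟨x, hx, rfl⟩ _ ⟨y, hy, rfl⟩
    exact ⟨⁅x, y⁆, h.comm11 x hx y hy, map_commutatorElement f x y⟩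
  sq1 := by
    rintro _ ⟨x, hx, rfl⟩
    exact ⟨x * x, h.sq1 x hx, map_mul f x x⟩
  sq1' := by
    rintro _ ⟨x, hx, rfl⟩ hxx
    exact ⟨x, h.sq1' x hx (hf (by rw [map_mul, map_one]; exact hxx)), rfl⟩
  ne1 := fun h1 => h.ne1 ((map_mono_iff hf).1 h1)
  sec := by
    rintro _ ⟨x, hx, rfl⟩ hxy
    refine ⟨x, h.sec x hx fun y hy => ?_, rfl⟩
    obtain ⟨z, hz, h1⟩ := hxy (f y) ⟨y, hy, rfl⟩
    have h2 : z = ⁅x, y⁆ := hf (by rw [map_commutatorElement]; exact h1)
    rwa [← h2]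
  irr1 := by
    intro N h1 h2 hn hne
    have e : (N.comap f).map f = N := map_comap_eq_self (h2.trans (map_le_range f _))
    rw [← e]
    congr 1
    refine h.irr1 _ ?_ ?_ ?_ ?_
    · exact map_le_iff_le_comap.1 h1
    · rw [← e] at h2
      exact (map_mono_iff hf).1 h2
    · intro c _ x hx
      change f (c * x * c⁻¹) ∈ N
      rw [map_mul, map_mul, map_inv]
      exact hn (f c) ⟨c, rfl⟩ (f x) hx
    · intro h3
      apply hne
      rw [← e]
      exact map_mono h3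
  irr2 := by
    intro N h1 h2 hn hne
    have e : (N.comap f).map f = N := map_comap_eq_self (h2.trans (map_le_range f _))
    rw [← e]
    congr 1
    refine h.irr2 _ ?_ ?_ ?_ ?_
    · exact map_le_iff_le_comap.1 h1
    · rw [← e] at h2
      exact (map_mono_iff hf).1 h2
    · intro c _ x hx
      change f (c * x * c⁻¹) ∈ N
      rw [map_mul, map_mul, map_inv]
      exact hn (f c) ⟨c, rfl⟩ (f x) hx
    · intro h3
      apply hne
      rw [← e]
      exact map_mono h3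
  two := h.two.map f
  O2 := by
    intro N h1 hn h2
    have e : (N.comap f).map f = N := map_comap_eq_self h1
    rw [← e]
    apply map_mono
    refine h.O2 _ le_top ?_ (h2.comap_of_injective f hf)
    intro c _ x hx
    change f (c * x * c⁻¹) ∈ N
    rw [map_mul, map_mul, map_inv]
    exact hn (f c) ⟨c, rfl⟩ (f x) hx
  Z_ne := by
    intro h1
    exact h.Z_ne ((map_eq_bot_iff_of_injective _ hf).1 h1)
  big := by
    rw [card_map_of_injective hf]
    exact h.big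

/-- **transport** -/
theorem transport {G : Type*} [Group G] {C' Z' Q2' Q1' Q' : Subgroup Γ} (h : Loc C' Z' Q2' Q1' Q') {C : Subgroup G}
    (e : ↥C ≃* ↥C') : Loc C ((Z'.subgroupOf C').map (C.subtype.comp e.symm.toMonoidHom))
      ((Q2'.subgroupOf C').map (C.subtype.comp e.symm.toMonoidHom))
      ((Q1'.subgroupOf C').map (C.subtype.comp e.symm.toMonoidHom))
      ((Q'.subgroupOf C').map (C.subtype.comp e.symm.toMonoidHom)) := by
  have hf : Function.Injective (C.subtype.comp e.symm.toMonoidHom) :=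
    C.subtype_injective.comp e.symm.injective
  have h1 := h.inside.image (C.subtype.comp e.symm.toMonoidHom) hf
  have h2 : (C.subtype.comp e.symm.toMonoidHom).range = C := by
    ext x
    constructor
    · rintro ⟨y, rfl⟩
      exact (e.symm y).2
    · intro hx
      refine ⟨e ⟨x, hx⟩, ?_⟩
      change ((e.symm (e ⟨x, hx⟩) : C) : G) = x
      rw [e.symm_apply_apply]
  rwa [h2] at h1

end Loc

end Cfsg.Agent.H312.Ree
end

-- part: H312/ReeInst
section
/-!
# The local structure of `C_q` (helper312, S3217)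

* `loc_PL` : `Loc PL Z_4 Q2 Q1 Q` in `²F₄(q)`, every `q = 2^(2m+1)`;
* `exists_sylow_U` : `U` is a Sylow 2-subgroup.
-/

set_option autoImplicit false

namespace Cfsg.Agent.H312.Ree

open Cfsg.Agent.SplitTwo Cfsg.Agent.SplitTwo.ZS Cfsg.Agent.TitsThree.RankTwoZ Cfsg.Agent.SplitTwo.RootSysZ
open Cfsg.Agent.KFacts.TwF4 Cfsg.Agent.KFacts.TwF4.Arc Cfsg.Agent.KFacts.TwF4.Irr
open Cfsg.Agent.KFacts.TwF4.Inv Cfsg.Agent.KFacts.TwF4.Layers Cfsg.Agent.CpAutTwF
open Subgroup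
open scoped commutatorElement

universe u

section

variable {F : Type*} [Field F] {σ : F →+* F} {G : Type u} [Group G] (S : Full σ G)

theorem comm_of_rel {x y r : G} (h : x * y = y * x * r) : ⁅x⁻¹, y⁻¹⁆ = r := by
  have : r = (y * x)⁻¹ * (x * y) := by rw [h]; group
  rw [this, commutatorElement_def]; group

theorem sq_Q2 {x : G} (hx : x ∈ S.Q2) : x * x = 1 := by
  obtain ⟨u, s, z, t, w, rfl⟩ := (mem_Q2 S).1 hx
  rw [q2_mul, char2 S, char2 S, char2 S, char2 S, char2 S, q2_zero]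

/-- the elements of `Q1` -/
theorem form {x : G} (hx : x ∈ S.Q1) : ∃ p u, ∃ b ∈ S.Q2, x = S.e 2 p u * b := by
  have hn : S.XZ 4 ≤ normalizer (S.Q2 : Set G) :=
    (X_le_J (a := 0) (b := 8) (by norm_num) (by norm_num)).trans S.Q2_norm
  have h1 : (x : G) ∈ ((S.XZ 4 ⊔ S.Q2 : Subgroup G) : Set G) := hx
  rw [coe_mul_of_left_le_normalizer_right _ _ hn] at h1
  obtain ⟨a, ha, b, hb, hab⟩ := Set.mem_mul.1 h1
  obtain ⟨p, u, rfl⟩ := (mem_X4 S).1 ha
  exact ⟨p, u, b, hb, hab.symm⟩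

theorem e_Q1 (p u : F) : S.e 2 p u ∈ S.Q1 := mem_sup_left ((mem_X4 S).2 ⟨p, u, rfl⟩)

theorem comm_Q1 {x y : G} (hx : x ∈ S.Q1) (hy : y ∈ S.Q1) : ⁅x, y⁆ ∈ S.Zc 2 := by
  obtain ⟨p, u, b, hb, rfl⟩ := form S hx
  obtain ⟨q, v, c, hc, rfl⟩ := form S hy
  have h1 : ⁅S.e 2 p u * b, S.e 2 q v * c⁆ = ⁅S.e 2 p u, S.e 2 q v⁆ := by
    have b1 : b * S.e 2 q v = S.e 2 q v * b := (S.Q1_comm (e_Q1 S q v) hb).symm
    have b2 : b * c = c * b := Irr.Q2_comm S hb hc
    have c1 : c * S.e 2 p u = S.e 2 p u * c := (S.Q1_comm (e_Q1 S p u) hc).symm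
    have c2 : c * (S.e 2 p u)⁻¹ = (S.e 2 p u)⁻¹ * c := (show Commute c (S.e 2 p u) from c1).inv_right.eq
    have b3 : b * (S.e 2 q v * c) = (S.e 2 q v * c) * b := by rw [← mul_assoc, b1, mul_assoc, b2, mul_assoc]
    rw [commutatorElement_def, commutatorElement_def]
    calc S.e 2 p u * b * (S.e 2 q v * c) * (S.e 2 p u * b)⁻¹ * (S.e 2 q v * c)⁻¹
        = S.e 2 p u * (b * (S.e 2 q v * c)) * b⁻¹ * (S.e 2 p u)⁻¹ * c⁻¹ * (S.e 2 q v)⁻¹ := by group
      _ = S.e 2 p u * S.e 2 q v * (c * (S.e 2 p u)⁻¹) * c⁻¹ * (S.e 2 q v)⁻¹ := by rw [b3]; group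
      _ = S.e 2 p u * S.e 2 q v * (S.e 2 p u)⁻¹ * (S.e 2 q v)⁻¹ := by rw [c2]; group
  rw [h1, commutatorElement_def, e_inv, e_inv, S.e_mul, S.e_mul, S.e_mul]
  have e : p + q + p + q = 0 := by
    have : p + q + p + q = (p + p) + (q + q) := by ring
    rw [this, char2 S, char2 S, add_zero]
  rw [e]
  exact ⟨_, rfl⟩

theorem sq_form {p u : F} {b : G} (hb : b ∈ S.Q2) : (S.e 2 p u * b) * (S.e 2 p u * b) = S.e 2 0 (p * σ p) := by
  have b1 : b * S.e 2 p u = S.e 2 p u * b := (S.Q1_comm (e_Q1 S p u) hb).symm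
  calc (S.e 2 p u * b) * (S.e 2 p u * b) = S.e 2 p u * (b * S.e 2 p u) * b := by group
    _ = S.e 2 p u * S.e 2 p u * (b * b) := by rw [b1]; group
    _ = _ := by rw [sq_Q2 S hb, mul_one, S.e_mul, char2 S, char2 S, zero_add]

theorem J07_of_n2 {x : G} (hx : S.n2⁻¹ * x * S.n2 ∈ J S.XZ 1 8) : x ∈ J S.XZ 0 7 := by
  have h : S.n2 * (S.n2⁻¹ * x * S.n2) * S.n2⁻¹ ∈ J S.XZ 0 7 := S.n2_refl.mem_J hx (by norm_num) (by norm_num)
  have e : S.n2 * (S.n2⁻¹ * x * S.n2) * S.n2⁻¹ = x := by group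
  rwa [e] at h

/-- `O_2(C_q) = Q` (every `q`) -/
theorem O2_PL [Finite G] (hU : ∃ P : Sylow 2 G, (P : Subgroup G) = J S.XZ 1 8) {N : Subgroup G} (hN : N ≤ S.PL)
    (h2 : IsPGroup 2 N) (hn : ∀ g ∈ S.PL, ∀ x ∈ N, g * x * g⁻¹ ∈ N) : N ≤ S.Q := by
  have hfact : Fact (Nat.Prime 2) := ⟨Nat.prime_two⟩
  obtain ⟨P, hP⟩ := hU
  have hNU : N ≤ J S.XZ 1 8 := by
    have h3 : IsPGroup 2 (J S.XZ 1 8 ⊔ N : Subgroup G) := by
      rw [← hP]
      exact Cfsg.Agent.KFacts.TwF4.Perf.two_sup P.isPGroup' h2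
        fun a ha x hx => hn a (J_mono (a := 1) (b := 8) (by norm_num) le_rfl (by rwa [hP] at ha)) x hx
    have h4 : (J S.XZ 1 8 ⊔ N : Subgroup G) = P := P.3 h3 (by rw [hP]; exact le_sup_left)
    rw [← hP, ← h4]
    exact le_sup_right
  intro x hx
  refine H762.AutPL.inter_Q S (hNU hx) (J07_of_n2 S (hNU ?_))
  have h1 := hn S.n2⁻¹ (inv_mem S.n2_mem) x hx
  rwa [inv_inv] at h1

/-- **the local structure of `C_q`** -/
theorem loc_PL [Finite F] [Finite G] (hR : S.R.p = 2)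
    (hU : ∃ P : Sylow 2 G, (P : Subgroup G) = J S.XZ 1 8) :
    Loc S.PL (S.Zc 2) S.Q2 S.Q1 S.Q where
  Q_le := fun x hx => Irr.Q_PL S hx
  Q1_le := Irr.Q1_le_Q S
  Q2_le := Irr.Q2_le_Q1 S
  Z_le := by
    intro x hx
    obtain ⟨u, rfl⟩ := hx
    exact S.q2_3 u
  nQ := fun c hc x hx => Cfsg.Agent.KFacts.TwF4.Perf.Q_norm S hc hx
  nQ1 := fun c hc x hx => Irr.Q1_norm S hc hx
  nQ2 := fun c hc x hx => Layers.Q2_norm' S hc hx
  cZ := fun c hc x hx => S.comm_PL hc hx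
  sq2 := fun x hx => sq_Q2 S hx
  comm1 := fun x hx y hy => S.Q1_comm hx hy
  cent2 := by
    intro g _ hg
    rw [← S.centralizer_Q2, mem_centralizer_iff]
    exact fun y hy => (hg y hy).symm
  cent := by
    intro g _ hg
    rw [← S.centralizer_Q, mem_centralizer_iff]
    exact fun y hy => (hg y hy).symm
  comm2 := by
    intro x hx y hy
    have h1 := H762.AutPL.comm_QQ2 S hy hx
    rw [← commutatorElement_inv, commutatorElement_def]
    exact inv_mem h1
  comm2' := by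
    rintro _ ⟨u, rfl⟩
    have h := S.o_e2 1 u 1 0
    rw [mul_one] at h
    have h1 := comm_of_rel h
    change S.e 2 0 u ∈ _
    rw [show S.e 2 0 u = ⁅(S.o 1 u)⁻¹, (S.e 3 1 0)⁻¹⁆ from h1.symm]
    exact commutator_mem_commutator (inv_mem (S.q2_2 u)) (inv_mem (Irr.e3_Q S 1 0))
  commQ := (Layers.comm_Q S).le
  comm11 := fun x hx y hy => comm_Q1 S hx hy
  sq1 := by
    intro x hx
    obtain ⟨p, u, b, hb, rfl⟩ := form S hx
    rw [sq_form S hb]
    exact ⟨_, rfl⟩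
  sq1' := by
    intro x hx hxx
    obtain ⟨p, u, b, hb, rfl⟩ := form S hx
    rw [sq_form S hb] at hxx
    have h1 : p * σ p = 0 := (S.e_eq_one hxx).2
    have h2 : p = 0 := by
      rcases mul_eq_zero.1 h1 with h3 | h3
      · exact h3
      · exact (map_eq_zero σ).1 h3
    rw [h2]
    exact mul_mem (S.q2_3 u) hb
  ne1 := by
    intro h1
    have h2 := sq_Q2 S (h1 (e_Q1 S 1 0))
    rw [S.e_mul, char2 S, char2 S, zero_add, map_one, one_mul] at h2
    exact one_ne_zero (S.e_eq_one h2).2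
  sec := by
    intro x hx hxy
    obtain ⟨p, u, b, hb, rfl⟩ := form S hx
    have h1 := hxy (S.o 0 1) (Irr.o0_Q S 1)
    have h2 := H762.AutPL.comm_QQ2 S (Irr.o0_Q S 1) hb
    have h := S.o_e2 0 1 p u
    rw [one_mul, show (0 : ZMod 8) + 2 = 2 by decide, show (0 : ZMod 8) + 1 = 1 by decide] at h
    -- modulo `Z` : `o a o⁻¹ = a e_1(p)`
    set o := S.o 0 1 with ho
    set a := S.e 2 p u with ha
    set c := S.e 1 0 p with hc
    have hbc : b * c = c * b := Irr.Q2_comm S hb (S.q2_1 p)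
    have hca : c * a = a * c := (S.Q1_comm (e_Q1 S p u) (S.q2_1 p)).symm
    have h3 : ⁅a * b, o⁆⁻¹ = o * (a * b) * o⁻¹ * (a * b)⁻¹ := by rw [commutatorElement_inv, commutatorElement_def]
    have hoc : o * c = c * o := by
      have := S.o_e1 0 1 0 p
      rwa [show (0 : ZMod 8) + 1 = 1 by decide] at this
    have h4 : o * (a * b) * o⁻¹ * (a * b)⁻¹ = c * (a * (o * b * o⁻¹ * b⁻¹) * a⁻¹) := by
      calc o * (a * b) * o⁻¹ * (a * b)⁻¹ = (o * a) * b * o⁻¹ * b⁻¹ * a⁻¹ := by group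
        _ = a * (o * c) * b * o⁻¹ * b⁻¹ * a⁻¹ := by rw [h]; group
        _ = (a * c) * (o * b * o⁻¹ * b⁻¹) * a⁻¹ := by rw [hoc]; group
        _ = c * (a * (o * b * o⁻¹ * b⁻¹) * a⁻¹) := by rw [← hca]; group
    have haP : a ∈ S.PL := mem_J ((mem_X4 S).2 ⟨p, u, rfl⟩) (by norm_num) (by norm_num)
    have h5 : a * (o * b * o⁻¹ * b⁻¹) * a⁻¹ = o * b * o⁻¹ * b⁻¹ := by
      rw [S.comm_PL haP h2, mul_inv_cancel_right]
    have h6 : c ∈ S.Zc 2 := by
      have h7 : c = ⁅a * b, o⁆⁻¹ * (o * b * o⁻¹ * b⁻¹)⁻¹ := by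
        rw [h3, h4, h5, mul_inv_cancel_right]
      rw [h7]
      exact mul_mem (inv_mem h1) (inv_mem h2)
    have h7 : p = 0 := by
      have h8 : c ∈ S.XZ 4 := S.Zc_le 2 h6
      have h9 : c ∈ S.XZ 2 := (mem_X2 S).2 ⟨0, p, rfl⟩
      have h10 := S.X_inf_near (i := 2) (j := 4) (by norm_num) (by norm_num) h9 h8
      exact (S.e_eq_one h10).2
    rw [ha, h7]
    exact mul_mem (S.q2_3 u) hb
  irr1 := by
    intro N h1 h2 hn hne
    exact irr_one S h1 h2 (fun g hg => hn g (mem_J hg (by norm_num) (by norm_num)))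
      (fun g hg => hn g (mem_J hg (by norm_num) (by norm_num))) hne
  irr2 := by
    intro N h1 h2 hn hne
    exact irr_two S h1 h2 (fun g hg => hn g (mem_J hg (by norm_num) (by norm_num)))
      (fun g hg => hn g (mem_J hg (by norm_num) (by norm_num))) hne
  two := isPGroup_J S.zsys8 (two_X S hR) 7 1 7 (by norm_num) (by norm_num)
  O2 := fun N h1 hn h2 => O2_PL S hU h1 h2 hn
  Z_ne := by
    intro h1
    have h2 : S.e 2 0 1 ∈ S.Zc 2 := ⟨1, rfl⟩
    rw [h1, mem_bot] at h2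
    exact one_ne_zero (S.e_eq_one h2).2
  big := by
    rw [Card.card_Q2 S]
    have h1 : 1 < Nat.card F := Finite.one_lt_card
    have h2 : 2 ≤ Nat.card F := h1
    calc 4 < 2 * (2 * (2 * (2 * 2))) := by norm_num
      _ ≤ _ := Nat.mul_le_mul h2 (Nat.mul_le_mul h2 (Nat.mul_le_mul h2 (Nat.mul_le_mul h2 h2)))

end

end Cfsg.Agent.H312.Ree
end

-- part: H312/ReeBurn
section
/-!
# Burnside's theorem for normal subgroups (helper312, S3217)

* `retract` : the retraction of a group on a central Sylow 2-subgroup of exponent two;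
* `central_of_perfect` : `C` perfect, `N` normal, `T` a Sylow 2-subgroup of `N`, `T ≤ Z(C)` : the elements of `N`
  normalising `T` centralise `T`;
* `le_sylow` : `N` normal, `N_N(T) ≤ C(T)` for a Sylow 2-subgroup `T` of `N`, `O(G) = 1` : `N` is a 2-group.
-/

set_option autoImplicit false

namespace Cfsg.Agent.H312.Ree

open Subgroup
open scoped commutatorElement

/-- the retraction on a central Sylow 2-subgroup -/
theorem retract {A : Type*} [Group A] [Finite A] (P : Sylow 2 A) (hP : ∀ x ∈ (P : Subgroup A), ∀ a, a * x = x * a)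
    (h2 : ∀ x ∈ (P : Subgroup A), x * x = 1) :
    ∃ r : A →* A, (∀ a, r a ∈ (P : Subgroup A)) ∧ (∀ x ∈ (P : Subgroup A), r x = x) ∧
      ∀ φ : A ≃* A, (∀ x ∈ (P : Subgroup A), φ x = x) → ∀ a, r (φ a) = r a := by
  have hfact : Fact (Nat.Prime 2) := ⟨Nat.prime_two⟩
  have hn : normalizer ((P : Subgroup A) : Set A) ≤ centralizer ((P : Subgroup A) : Set A) := by
    intro a _
    rw [mem_centralizer_iff]
    intro x hx
    exact (hP x hx a).symm
  have hmem : ∀ a, ∀ x ∈ (P : Subgroup A), a * x * a⁻¹ = x := fun a x hx => by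
    rw [hP x hx a, mul_inv_cancel_right]
  have hodd : Odd (P : Subgroup A).index := by
    rw [← Nat.not_even_iff_odd, even_iff_two_dvd]
    exact P.not_dvd_index
  let r : A →* A := (P : Subgroup A).subtype.comp (MonoidHom.transferSylow P hn)
  have hr1 : ∀ a, r a ∈ (P : Subgroup A) := fun a => (MonoidHom.transferSylow P hn a).2
  have hr2 : ∀ x ∈ (P : Subgroup A), r x = x := by
    intro x hx
    have h1 : r x = x ^ (P : Subgroup A).index := by
      change ((MonoidHom.transferSylow P hn x : (P : Subgroup A)) : A) = _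
      rw [MonoidHom.transferSylow_eq_pow P hn x hx]
    obtain ⟨k, hk⟩ := hodd
    rw [h1, hk, pow_succ, pow_mul, pow_two, h2 x hx, one_pow, one_mul]
  refine ⟨r, hr1, hr2, fun φ hφ a => ?_⟩
  -- the kernel
  have hker : ∀ k, r k = 1 → r (φ k) = 1 := by
    intro k hk
    obtain ⟨e, m, hm, he⟩ := Nat.exists_eq_two_pow_mul_odd (orderOf_pos k).ne'
    have h3 : (k ^ m) ^ 2 ^ e = 1 := by
      rw [← pow_mul, mul_comm, ← he, pow_orderOf_eq_one]
    have h4 : k ^ m ∈ (P : Subgroup A) := by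
      have h5 : IsPGroup 2 (zpowers (k ^ m)) := by
        rw [IsPGroup.iff_orderOf]
        rintro ⟨y, hy⟩
        obtain ⟨n, rfl⟩ := mem_zpowers_iff.1 hy
        rw [Subgroup.orderOf_mk]
        have h6 : orderOf ((k ^ m) ^ n) ∣ 2 ^ e := by
          apply orderOf_dvd_of_pow_eq_one
          rw [← zpow_natCast, ← zpow_mul, mul_comm, zpow_mul, zpow_natCast, h3, one_zpow]
        exact (Nat.dvd_prime_pow Nat.prime_two).1 h6 |>.imp fun a h => h.2
      obtain ⟨P', hP'⟩ := h5.exists_le_sylow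
      obtain ⟨g, hg⟩ := MulAction.exists_smul_eq A P' P
      have h7 : (P' : Subgroup A) ≤ (P : Subgroup A) := by
        intro x hx
        have h8 : g * x * g⁻¹ ∈ (P : Subgroup A) := by
          rw [← hg]
          exact Subgroup.smul_mem_pointwise_smul x (MulAut.conj g) _ hx
        have h9 := hmem g⁻¹ _ h8
        have h10 : g⁻¹ * (g * x * g⁻¹) * g⁻¹⁻¹ = x := by group
        rw [h10] at h9
        rw [h9]; exact h8
      exact h7 (hP' (mem_zpowers _))
    have h5 : k ^ m = 1 := by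
      rw [← hr2 _ h4, map_pow, hk, one_pow]
    have h6 : r (φ k) ^ m = 1 := by rw [← map_pow, ← map_pow, h5, map_one, map_one]
    obtain ⟨n, hn'⟩ := hm
    rwa [hn', pow_succ, pow_mul, pow_two, h2 _ (hr1 _), one_pow, one_mul] at h6
  have h3 : r ((r a)⁻¹ * a) = 1 := by rw [map_mul, map_inv, hr2 _ (hr1 a), inv_mul_cancel]
  have h4 := hker _ h3
  rw [map_mul, map_mul, map_inv, map_inv, hφ _ (hr1 a), hr2 _ (hr1 a), inv_mul_eq_one] at h4
  exact h4.symm

variable {G : Type*} [Group G] [Finite G]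

omit [Finite G] in
/-- a 2-subgroup `T` of `A` of odd index -/
theorem exists_sylow_of [Finite G] {A T : Subgroup G} (h2 : IsPGroup 2 T) (hi : ¬ 2 ∣ T.relIndex A) :
    ∃ P : Sylow 2 A, (P : Subgroup A) = T.subgroupOf A := by
  have hfact : Fact (Nat.Prime 2) := ⟨Nat.prime_two⟩
  exact ⟨(h2.comap_subtype (K := A)).toSylow hi, rfl⟩

/-- **the elements of `N` normalising a Sylow 2-subgroup `T ≤ Z(C)` of the normal subgroup `N` centralise it if `C` is
perfect** -/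
theorem central_of_perfect {C N T : Subgroup G} (hC : ⁅C, C⁆ = C) (hN : N.Normal) (hTN : T ≤ N) (hTC : T ≤ C)
    (hcT : ∀ c ∈ C, ∀ t ∈ T, c * t = t * c) (h2 : ∀ t ∈ T, t * t = 1) (hi : ¬ 2 ∣ T.relIndex N) {x : G} (hx : x ∈ N)
    (hxT : ∀ t ∈ T, x * t * x⁻¹ ∈ T) : ∀ t ∈ T, x * t = t * x := by
  have hfact : Fact (Nat.Prime 2) := ⟨Nat.prime_two⟩
  set! A : Subgroup G := N ⊓ centralizer (T : Set G) with hA
  have hTA : T ≤ A := le_inf hTN fun t ht => by
    rw [mem_centralizer_iff]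
    intro s hs
    exact hcT s (hTC hs) t ht
  have hpT : IsPGroup 2 T := by
    intro t
    refine ⟨1, Subtype.ext ?_⟩
    change (t : G) ^ 2 ^ 1 = 1
    rw [pow_one, pow_two]; exact h2 t t.2
  have hiA : ¬ 2 ∣ T.relIndex A := by
    intro h
    apply hi
    rw [← relIndex_mul_relIndex T A N hTA inf_le_left]
    exact h.mul_right _
  obtain ⟨P, hP⟩ := exists_sylow_of hpT hiA
  have hPm : ∀ y : A, y ∈ (P : Subgroup A) ↔ (y : G) ∈ T := fun y => by rw [hP, mem_subgroupOf]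
  obtain ⟨r, hr1, hr2, hr3⟩ := retract P
    (fun y hy a => Subtype.ext (((mem_centralizer_iff.1 a.2.2) y ((hPm y).1 hy)).symm))
    (fun y hy => Subtype.ext (h2 y ((hPm y).1 hy)))
  -- `x⁻¹` normalises `T` too
  have hmap : T.map (MulAut.conj x).toMonoidHom = T := by
    apply eq_of_le_of_card_ge
    · rintro _ ⟨t, ht, rfl⟩
      exact hxT t ht
    · rw [card_map_of_injective (MulAut.conj x).injective]
  have hxT' : ∀ t ∈ T, x⁻¹ * t * x ∈ T := by
    intro t ht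
    rw [← hmap] at ht
    obtain ⟨s, hs, rfl⟩ := ht
    have e : x⁻¹ * ((MulAut.conj x).toMonoidHom s) * x = s := by
      change x⁻¹ * (x * s * x⁻¹) * x = s
      group
    rw [e]; exact hs
  have hcA : ∀ c ∈ C, ⁅c, x⁆ ∈ A := by
    intro c hc
    refine mem_inf.2 ⟨?_, ?_⟩
    · rw [commutatorElement_def]
      exact N.mul_mem (hN.conj_mem x hx c) (N.inv_mem hx)
    · rw [mem_centralizer_iff]
      intro t ht
      have h1 := hcT c hc t ht
      have h3 := hcT c hc _ (hxT' t ht)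
      rw [commutatorElement_def]
      have e1 : t * (c * x * c⁻¹ * x⁻¹) = (t * c) * x * c⁻¹ * x⁻¹ := by group
      rw [e1, ← h1]
      have e2 : c * t * x * c⁻¹ * x⁻¹ = c * x * ((x⁻¹ * t * x) * c⁻¹) * x⁻¹ := by group
      have h4 : (x⁻¹ * t * x) * c⁻¹ = c⁻¹ * (x⁻¹ * t * x) := (show Commute c (x⁻¹ * t * x) from h3).inv_left.eq.symm
      rw [e2, h4]
      group
  -- conjugation by `c`
  have hcj : ∀ c ∈ C, ∀ y ∈ A, c * y * c⁻¹ ∈ A := by
    intro c hc y hy
    refine mem_inf.2 ⟨hN.conj_mem y hy.1 c, ?_⟩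
    rw [mem_centralizer_iff]
    intro t ht
    have h1 := hcT c hc t ht
    have h1' : c⁻¹ * t * c = t := by rw [mul_assoc, ← h1]; group
    have h3 := mem_centralizer_iff.1 hy.2 t ht
    calc t * (c * y * c⁻¹) = c * ((c⁻¹ * t * c) * y) * c⁻¹ := by group
      _ = c * (y * t) * c⁻¹ := by rw [h1', h3]
      _ = c * y * (t * c⁻¹) := by group
      _ = c * y * (c⁻¹ * t) := by rw [(show Commute c t from h1).inv_left.eq]
      _ = c * y * c⁻¹ * t := by group
  have hr4 : ∀ c (hc : c ∈ C) (y : G) (hy : y ∈ A), r ⟨c * y * c⁻¹, hcj c hc y hy⟩ = r ⟨y, hy⟩ := by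
    intro c hc y hy
    let φ : A ≃* A :=
      { toFun := fun a => ⟨c * a * c⁻¹, hcj c hc a a.2⟩
        invFun := fun a => ⟨c⁻¹ * a * c, by
          have := hcj c⁻¹ (C.inv_mem hc) a a.2
          rwa [inv_inv] at this⟩
        left_inv := fun a => Subtype.ext (by change c⁻¹ * (c * a * c⁻¹) * c = a; group)
        right_inv := fun a => Subtype.ext (by change c * (c⁻¹ * a * c) * c⁻¹ = a; group)
        map_mul' := fun a b => Subtype.ext (by
          change c * (a * b : G) * c⁻¹ = c * a * c⁻¹ * (c * b * c⁻¹); group) }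
    exact hr3 φ (fun t ht => Subtype.ext (by
      change c * (t : G) * c⁻¹ = t
      rw [hcT c hc t ((hPm t).1 ht), mul_inv_cancel_right])) ⟨y, hy⟩
  -- the homomorphism
  let θ : C →* A := MonoidHom.mk' (fun c => r ⟨⁅(c : G), x⁆, hcA c c.2⟩) (by
    intro c d
    have e : (⟨⁅((c * d : C) : G), x⁆, hcA _ (c * d).2⟩ : A) =
        ⟨c * ⁅(d : G), x⁆ * (c : G)⁻¹, hcj c c.2 _ (hcA d d.2)⟩ * ⟨⁅(c : G), x⁆, hcA c c.2⟩ := by
      apply Subtype.ext
      change ⁅(c : G) * d, x⁆ = c * ⁅(d : G), x⁆ * (c : G)⁻¹ * ⁅(c : G), x⁆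
      simp only [commutatorElement_def]; group
    rw [e, map_mul, hr4 c c.2]
    apply Subtype.ext
    exact hcT _ (hTC ((hPm _).1 (hr1 _))) _ ((hPm _).1 (hr1 _)))
  have hθ : ∀ c, θ c = 1 := by
    have h1 : commutator C ≤ θ.ker := by
      rw [_root_.commutator_def, commutator_le]
      intro a _ b _
      rw [MonoidHom.mem_ker, map_commutatorElement, commutatorElement_eq_one_iff_mul_comm]
      apply Subtype.ext
      exact hcT _ (hTC ((hPm _).1 (hr1 _))) _ ((hPm _).1 (hr1 _))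
    have h3 : commutator C = ⊤ := by
      apply Subgroup.map_injective C.subtype_injective
      rw [_root_.commutator_def, Subgroup.map_commutator, ← MonoidHom.range_eq_map, Subgroup.range_subtype, hC]
    intro c
    have h4 : c ∈ commutator C := by rw [h3]; trivial
    exact MonoidHom.mem_ker.1 (h1 h4)
  intro t ht
  have h1 := hθ ⟨t, hTC ht⟩
  have h3 : ⁅t, x⁆ ∈ T := by
    have e : ⁅t, x⁆ = t * (x * t⁻¹ * x⁻¹) := by rw [commutatorElement_def]; group
    rw [e]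
    exact T.mul_mem ht (hxT _ (T.inv_mem ht))
  have h4 : r ⟨⁅t, x⁆, hcA t (hTC ht)⟩ = ⟨⁅t, x⁆, hcA t (hTC ht)⟩ := hr2 _ ((hPm _).2 h3)
  have h5 : (⟨⁅t, x⁆, hcA t (hTC ht)⟩ : A) = 1 := by rw [← h4]; exact h1
  have h6 : ⁅t, x⁆ = 1 := congrArg Subtype.val h5
  rw [commutatorElement_eq_one_iff_mul_comm] at h6
  exact h6.symm

/-- **Burnside**: if `N_N(T) ≤ C(T)` for a Sylow 2-subgroup `T` of the normal subgroup `N` and `O(G) = 1` then `N = T` -/
theorem le_sylow (hO : Cfsg.oddCore G = ⊥) (S : Sylow 2 G) {N : Subgroup G} (hN : N.Normal)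
    (hc : ∀ x ∈ N, (∀ t ∈ (S : Subgroup G) ⊓ N, x * t * x⁻¹ ∈ (S : Subgroup G) ⊓ N) →
      ∀ t ∈ (S : Subgroup G) ⊓ N, x * t = t * x) : N ≤ (S : Subgroup G) := by
  have hfact : Fact (Nat.Prime 2) := ⟨Nat.prime_two⟩
  have hi : ¬ 2 ∣ ((S : Subgroup G) ⊓ N).relIndex N := by
    rw [inf_relIndex_right]
    exact Cfsg.Agent.Lib.SylowNormalInf.not_dvd_relIndex S N
  obtain ⟨P, hP⟩ := exists_sylow_of (A := N) (S.isPGroup'.to_le inf_le_left) hi
  have hPm : ∀ y : N, y ∈ (P : Subgroup N) ↔ (y : G) ∈ (S : Subgroup G) ⊓ N := fun y => by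
    rw [hP, mem_subgroupOf]
  have hn : normalizer ((P : Subgroup N) : Set N) ≤ centralizer ((P : Subgroup N) : Set N) := by
    intro x hx
    rw [mem_centralizer_iff]
    intro t ht
    have h1 := hc x x.2 (fun s hs => by
      have h2 := (mem_normalizer_iff.1 hx ⟨s, hs.2⟩).1 ((hPm _).2 hs)
      exact (hPm _).1 h2) t ((hPm _).1 ht)
    exact Subtype.ext h1.symm
  set! K := (MonoidHom.transferSylow P hn).ker with hK
  have hcomp := MonoidHom.ker_transferSylow_isComplement' P hn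
  have hKodd : (Nat.card K).Coprime 2 := by
    rw [Nat.coprime_two_right, ← Nat.not_even_iff_odd, even_iff_two_dvd]
    exact MonoidHom.not_dvd_card_ker_transferSylow P hn
  have hKn : K.Normal := inferInstance
  have hK1 : K ≤ Cfsg.pPrimeCore 2 N := Cfsg.Agent.Lib.Cores.le_pPrimeCore hKn hKodd
  have hchar : (Cfsg.pPrimeCore 2 N).Characteristic := Cfsg.Agent.Lib.Cores.pPrimeCore_characteristic 2
  have h3 : (Cfsg.pPrimeCore 2 N).map N.subtype ≤ Cfsg.oddCore G := by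
    apply Cfsg.Agent.Lib.Cores.le_pPrimeCore
    · exact ConjAct.normal_of_characteristic_of_normal
    · rw [card_map_of_injective N.subtype_injective]
      exact Cfsg.Agent.Lib.Cores.pPrimeCore_coprime 2
  rw [hO, le_bot_iff, map_eq_bot_iff_of_injective _ N.subtype_injective] at h3
  rw [h3, le_bot_iff] at hK1
  have h4 : (P : Subgroup N) = ⊤ := by
    rw [← hK, hK1] at hcomp
    exact isComplement'_bot_left.1 hcomp
  intro x hx
  have h5 : (⟨x, hx⟩ : N) ∈ (P : Subgroup N) := by rw [h4]; trivial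
  exact ((hPm _).1 h5).1

end Cfsg.Agent.H312.Ree
end

-- part: H312/ReeRed
section
/-!
# Groups with a 2-central involution centralizer of type `²F₄(q)`: the reduction (helper312, S3217)

`Sit τ S C Z Q2 Q1 Q` : `τ` is an involution in the centre of the Sylow 2-subgroup `S` of `G`, `C ⊴ C_G(τ)` of odd index,
`Loc C Z Q2 Q1 Q`, and `C` is perfect or `|Z| = 2`.

* `Sit.exists_E` : a nontrivial normal 2-subgroup gives a nontrivial normal subgroup of `G` inside `Z = Z(C)`;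
* `Sit.Q2_le_normal` : if `O(G) = O_2(G) = 1`, every nontrivial normal subgroup contains `Q2`;
* `Sit.exists_simple` : then `G` has a simple normal subgroup `M ≥ Q2` with trivial centralizer.
-/

set_option autoImplicit false

namespace Cfsg.Agent.H312.Ree

open Subgroup
open scoped commutatorElement
open Cfsg.Agent.Lib.MinNormalNonabelian (minSet map_conj_mem_minSet nonabelian_structure)

variable {G : Type*} [Group G] [Finite G]

/-- the situation -/
structure Sit (τ : G) (S : Sylow 2 G) (C Z Q2 Q1 Q : Subgroup G) : Prop extends Loc C Z Q2 Q1 Q where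
  tt : τ * τ = 1
  t1 : τ ≠ 1
  mem : τ ∈ (S : Subgroup G)
  cS : ∀ s ∈ (S : Subgroup G), s * τ = τ * s
  C_le : ∀ c ∈ C, c * τ = τ * c
  C_n : ∀ g, g * τ = τ * g → ∀ c ∈ C, g * c * g⁻¹ ∈ C
  C_odd : Odd (C.relIndex (centralizer ({τ} : Set G)))
  pc : ⁅C, C⁆ = C ∨ Nat.card Z = 2

namespace Sit

variable {τ : G} {S : Sylow 2 G} {C Z Q2 Q1 Q : Subgroup G} (h : Sit τ S C Z Q2 Q1 Q)

include h

omit [Finite G] in
/-- the 2-elements of `C_G(τ)` are in `C` -/
theorem mem_C {x : G} (hx : x * τ = τ * x) {k : ℕ} (hk : x ^ 2 ^ k = 1) : x ∈ C := by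
  set! D : Subgroup G := centralizer ({τ} : Set G) with hD
  have hxD : x ∈ D := mem_centralizer_singleton_iff.2 hx
  have hn : (C.subgroupOf D).Normal := by
    constructor
    intro c hc g
    exact mem_subgroupOf.2 (h.C_n g (mem_centralizer_singleton_iff.1 g.2) c (mem_subgroupOf.1 hc))
  set! y : D ⧸ C.subgroupOf D := QuotientGroup.mk ⟨x, hxD⟩ with hy
  have h1 : y ^ 2 ^ k = 1 := by
    rw [hy, ← QuotientGroup.mk_pow]
    have : (⟨x, hxD⟩ : D) ^ 2 ^ k = 1 := Subtype.ext hk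
    rw [this, QuotientGroup.mk_one]
  have h2 : y ^ C.relIndex D = 1 := by
    have : C.relIndex D = Nat.card (D ⧸ C.subgroupOf D) := rfl
    rw [this]; exact pow_card_eq_one'
  have h3 : Nat.Coprime (2 ^ k) (C.relIndex D) := Nat.Coprime.pow_left k (Nat.coprime_two_left.2 h.C_odd)
  have h4 : orderOf y ∣ 1 := by
    rw [← h3]
    exact Nat.dvd_gcd (orderOf_dvd_of_pow_eq_one h1) (orderOf_dvd_of_pow_eq_one h2)
  have h5 : y = 1 := orderOf_eq_one_iff.1 (Nat.dvd_one.1 h4)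
  rw [hy, QuotientGroup.eq_one_iff] at h5
  exact mem_subgroupOf.1 h5

theorem le_C {P : Subgroup G} (hP : ∀ x ∈ P, x * τ = τ * x) (h2 : IsPGroup 2 P) : P ≤ C := by
  intro x hx
  obtain ⟨k, hk⟩ := h2 ⟨x, hx⟩
  exact h.mem_C (hP x hx) (k := k) (congrArg Subtype.val hk)

theorem S_le : (S : Subgroup G) ≤ C := h.le_C h.cS S.isPGroup'

theorem τC : τ ∈ C := h.S_le h.mem

theorem τZ : τ ∈ Z := h.cent τ h.τC fun y hy => (h.C_le y (h.Q_le hy)).symm

/-- **a nontrivial normal 2-subgroup** -/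
theorem exists_E {V : Subgroup G} (hV : V.Normal) (h2 : IsPGroup 2 V) (hne : V ≠ ⊥) :
    ∃ E : Subgroup G, E ≠ ⊥ ∧ E.Normal ∧ E ≤ Z := by
  have hfact : Fact (Nat.Prime 2) := ⟨Nat.prime_two⟩
  have hVC : V ≤ C := (IsPGroup.le_sylow_of_normal h2 S).trans h.S_le
  -- the elements of order two of the centre
  let V0 : Subgroup G :=
    { carrier := {x | x ∈ V ∧ x * x = 1 ∧ ∀ y ∈ V, x * y = y * x}
      one_mem' := ⟨V.one_mem, one_mul 1, fun y _ => by rw [one_mul, mul_one]⟩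
      mul_mem' := by
        rintro a b ⟨ha, ha2, hac⟩ ⟨hb, hb2, hbc⟩
        refine ⟨V.mul_mem ha hb, ?_, fun y hy => ?_⟩
        · calc a * b * (a * b) = a * (b * a) * b := by group
            _ = a * (a * b) * b := by rw [hac b hb]
            _ = (a * a) * (b * b) := by group
            _ = 1 := by rw [ha2, hb2, one_mul]
        · rw [mul_assoc, hbc y hy, ← mul_assoc, hac y hy, mul_assoc]
      inv_mem' := by
        rintro a ⟨ha, ha2, hac⟩
        have e : a⁻¹ = a := inv_eq_of_mul_eq_one_left ha2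
        rw [e]
        exact ⟨ha, ha2, hac⟩ }
  have hV0n : V0.Normal := by
    constructor
    rintro x ⟨hx, hx2, hxc⟩ g
    refine ⟨hV.conj_mem x hx g, ?_, fun y hy => ?_⟩
    · calc g * x * g⁻¹ * (g * x * g⁻¹) = g * (x * x) * g⁻¹ := by group
        _ = 1 := by rw [hx2]; group
    · have h1 := hxc (g⁻¹ * y * g) (by
        have := hV.conj_mem y hy g⁻¹
        rwa [inv_inv] at this)
      calc g * x * g⁻¹ * y = g * (x * (g⁻¹ * y * g)) * g⁻¹ := by group
        _ = g * (g⁻¹ * y * g * x) * g⁻¹ := by rw [h1]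
        _ = y * (g * x * g⁻¹) := by group
  have hV0ne : V0 ≠ ⊥ := by
    have hnt : Nontrivial V := (nontrivial_iff_ne_bot V).2 hne
    have hcn : Nontrivial (center V) := h2.center_nontrivial
    have h3 : 2 ∣ Nat.card (center V) := by
      obtain ⟨n, hn⟩ := IsPGroup.iff_card.1 (h2.to_subgroup (center V))
      rcases Nat.eq_zero_or_pos n with rfl | hpos
      · rw [pow_zero] at hn
        have := Finite.one_lt_card_iff_nontrivial.2 hcn
        omega
      · rw [hn]; exact dvd_pow_self 2 hpos.ne'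
    obtain ⟨x, hx⟩ := exists_prime_orderOf_dvd_card' 2 h3
    intro hb
    have hxm : ((x : V) : G) ∈ V0 := by
      refine ⟨(x : V).2, ?_, fun y hy => ?_⟩
      · have h4 : x * x = 1 := by rw [← pow_two, ← hx, pow_orderOf_eq_one]
        exact congrArg (fun t : center V => ((t : V) : G)) h4
      · have h4 := mem_center_iff.1 x.2 ⟨y, hy⟩
        exact (congrArg Subtype.val h4).symm
    rw [hb, mem_bot] at hxm
    have h5 : x = 1 := Subtype.ext (Subtype.ext hxm)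
    rw [h5, orderOf_one] at hx
    omega
  have hV0C : V0 ≤ C := fun x hx => hVC hx.1
  rcases h.elem hV0C (NB.of_normal hV0n) (fun x hx => hx.2.1) with h1 | h1
  · exact ⟨V0, hV0ne, hV0n, h1⟩
  -- `Q2` is normal in `G`
  rw [h1] at hV0n
  -- `Q1` is normal in `G`
  have hQ1n : Q1.Normal := by
    constructor
    intro x hx g
    have hc : ∀ y ∈ Q2, g * x * g⁻¹ * y = y * (g * x * g⁻¹) := by
      intro y hy
      have h3 := h.comm1 x hx (g⁻¹ * y * g) (by
        have := hV0n.conj_mem y hy g⁻¹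
        rwa [inv_inv] at this)
      calc g * x * g⁻¹ * y = g * (x * (g⁻¹ * y * g)) * g⁻¹ := by group
        _ = g * (g⁻¹ * y * g * x) * g⁻¹ := by rw [h3]
        _ = y * (g * x * g⁻¹) := by group
    obtain ⟨k, hk⟩ := h.two ⟨x, h.Q1_le hx⟩
    have hk' : x ^ 2 ^ k = 1 := congrArg Subtype.val hk
    refine h.cent2 _ (h.mem_C (hc τ (h.Z_le h.τZ)) (k := k) ?_) hc
    rw [conj_pow, hk', mul_one, mul_inv_cancel]
  -- the squares of `Q1`
  refine ⟨_root_.Subgroup.closure {y | ∃ x ∈ Q1, y = x * x}, ?_, ?_, ?_⟩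
  · intro hb
    apply h.ne1
    intro x hx
    refine h.sq1' x hx ?_
    have h3 : x * x ∈ closure {y | ∃ x ∈ Q1, y = x * x} := subset_closure ⟨x, hx, rfl⟩
    rwa [hb, mem_bot] at h3
  · constructor
    intro n hn g
    have key : closure {y | ∃ x ∈ Q1, y = x * x} ≤
        (closure {y | ∃ x ∈ Q1, y = x * x}).comap (MulAut.conj g).toMonoidHom := by
      rw [closure_le]
      rintro _ ⟨x, hx, rfl⟩
      refine _root_.Subgroup.subset_closure ⟨g * x * g⁻¹, hQ1n.conj_mem x hx g, ?_⟩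
      change g * (x * x) * g⁻¹ = _
      group
    exact key hn
  · rw [closure_le]
    rintro _ ⟨x, hx, rfl⟩
    exact h.sq1 x hx

/-- **every nontrivial normal subgroup contains `Q2`** -/
theorem Q2_le_normal (hO : Cfsg.oddCore G = ⊥) (h2 : Cfsg.pCore 2 G = ⊥) {N : Subgroup G} (hN : N.Normal) (hne : N ≠ ⊥) :
    Q2 ≤ N := by
  have hfact : Fact (Nat.Prime 2) := ⟨Nat.prime_two⟩
  rcases h.dich (D := N ⊓ Q) inf_le_right ((NB.of_normal hN).inf h.nQ) with h1 | h1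
  swap
  · exact h1.trans inf_le_left
  exfalso
  have hNC : N ⊓ C ≤ Z := by
    refine h.le_Z inf_le_right ((NB.of_normal hN).inf ?_) ?_
    · intro c hc x hx
      exact C.mul_mem (C.mul_mem hc hx) (C.inv_mem hc)
    · exact (inf_le_inf_right Q inf_le_left).trans h1
  have hTC : (S : Subgroup G) ⊓ N ≤ C := inf_le_left.trans h.S_le
  have hTZ : (S : Subgroup G) ⊓ N ≤ Z := (le_inf inf_le_right hTC).trans hNC
  have hle : N ≤ (S : Subgroup G) := by
    refine le_sylow hO S hN fun x hx hxT => ?_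
    rcases h.pc with hp | hp
    · refine central_of_perfect hp hN inf_le_right hTC (fun c hc t ht => h.cZ c hc t (hTZ ht))
        (fun t ht => h.sqZ (hTZ ht)) ?_ hx hxT
      rw [inf_relIndex_right]
      exact Cfsg.Agent.Lib.SylowNormalInf.not_dvd_relIndex S N
    · intro t ht
      by_cases ht1 : t = 1
      · rw [ht1, mul_one, one_mul]
      · have h3 : x * t * x⁻¹ = t := by
          refine Cfsg.Agent.H316.Red.eq_of_card_le_two hp.le (hTZ (hxT t ht)) (hTZ ht) ?_ ht1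
          intro h4
          apply ht1
          have h5 : t = x⁻¹ * (x * t * x⁻¹) * x := by group
          rw [h5, h4]; group
        rwa [mul_inv_eq_iff_eq_mul] at h3
  have h4 := Cfsg.Agent.Lib.Cores.le_pCore hN (S.isPGroup'.to_le hle)
  rw [h2, le_bot_iff] at h4
  exact hne h4

end Sit

end Cfsg.Agent.H312.Ree
end

-- part: H312/ReeSimple
section
/-!
# The minimal normal subgroup is simple (helper312, S3217)

`Sit.exists_simple` : if `O(G) = O_2(G) = 1`, `G` has a nonabelian simple normal subgroup `M ≥ Q2` with trivial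
centralizer.
-/

set_option autoImplicit false

namespace Cfsg.Agent.H312.Ree

open Subgroup
open scoped commutatorElement
open Cfsg.Agent.Lib.MinNormalNonabelian (minSet map_conj_mem_minSet nonabelian_structure)

variable {G : Type*} [Group G] [Finite G]

/-- a minimal normal subgroup `M` which is a direct product of nonabelian simple groups -/
structure Fac (M : Subgroup G) : Prop where
  n : M.Normal
  ind : sSupIndep (minSet M)
  sup : sSup (minSet M) = M
  simple : ∀ T ∈ minSet M, IsSimpleGroup T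
  ctr : ∀ T ∈ minSet M, ∀ z ∈ T, (∀ t ∈ T, Commute z t) → z = 1

namespace Fac

variable {M : Subgroup G} (f : Fac M)
include f

omit [Finite G] in
theorem comm {L T : Subgroup G} (hL : L ∈ minSet M) (hT : T ∈ minSet M) (hne : T ≠ L) {a b : G} (ha : a ∈ L)
    (hb : b ∈ T) : a * b = b * a := by
  have hdis : Disjoint L T := f.ind.pairwiseDisjoint hL hT hne.symm
  have h4 : ⁅a, b⁆ ∈ L ⊓ T := by
    refine mem_inf.2 ⟨?_, ?_⟩
    · rw [commutatorElement_def, mul_assoc, mul_assoc]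
      refine L.mul_mem ha ?_
      rw [← mul_assoc]
      exact (mem_normalizer_iff.1 (hL.2.2.1 (hT.1 hb)) _).1 (L.inv_mem ha)
    · rw [commutatorElement_def]
      exact T.mul_mem ((mem_normalizer_iff.1 (hT.2.2.1 (hL.1 ha)) _).1 hb) (T.inv_mem hb)
  rw [hdis.eq_bot, mem_bot, commutatorElement_eq_one_iff_mul_comm] at h4
  exact h4

omit [Finite G] in
theorem inf_bot {L : Subgroup G} (hL : L ∈ minSet M) : L ⊓ (M ⊓ centralizer (L : Set G)) = ⊥ := by
  rw [eq_bot_iff]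
  rintro x ⟨hxL, -, hxc⟩
  rw [mem_bot]
  exact f.ctr L hL x hxL fun t ht => (mem_centralizer_iff.1 hxc t ht).symm

omit [Finite G] in
theorem le_B {L T : Subgroup G} (hL : L ∈ minSet M) (hT : T ∈ minSet M) (hTL : T ≠ L) :
    T ≤ M ⊓ centralizer (L : Set G) := by
  refine le_inf hT.1 fun b hb => ?_
  rw [mem_centralizer_iff]
  intro a ha
  exact f.comm hL hT hTL ha hb

omit [Finite G] in
theorem sup_eq {L : Subgroup G} (hL : L ∈ minSet M) : L ⊔ (M ⊓ centralizer (L : Set G)) = M := by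
  apply le_antisymm (sup_le hL.1 inf_le_left)
  conv_lhs => rw [← f.sup]
  refine sSup_le fun T hT => ?_
  by_cases hTL : T = L
  · rw [hTL]; exact le_sup_left
  · exact le_sup_of_le_right (f.le_B hL hT hTL)

omit [Finite G] in
theorem conj_mem {L : Subgroup G} (hL : L ∈ minSet M) (g : G) : L.map (MulAut.conj g).toMonoidHom ∈ minSet M := by
  have := f.n
  exact map_conj_mem_minSet hL g

omit [Finite G] in
theorem not_two (h2 : Cfsg.pCore 2 G = ⊥) {L : Subgroup G} (hL : L ∈ minSet M) : ¬ IsPGroup 2 L := by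
  intro hp
  have hn : (L.subgroupOf M).Normal := (normal_subgroupOf_iff_le_normalizer hL.1).2 hL.2.2.1
  have h1 := map_mono (f := M.subtype)
    (Cfsg.Agent.Lib.Cores.le_pCore hn (hp.comap_of_injective M.subtype M.subtype_injective))
  rw [subgroupOf_map_subtype, inf_eq_left.2 hL.1, Cfsg.Agent.Lib.Cores.map_subtype_pCore 2 f.n, h2, inf_bot_eq,
    le_bot_iff] at h1
  exact hL.2.1 h1

theorem not_odd (hO : Cfsg.oddCore G = ⊥) {L : Subgroup G} (hL : L ∈ minSet M) : ¬ Odd (Nat.card L) := by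
  intro hp
  have hn : (L.subgroupOf M).Normal := (normal_subgroupOf_iff_le_normalizer hL.1).2 hL.2.2.1
  have hc : (Nat.card (L.subgroupOf M)).Coprime 2 := by
    rw [Nat.card_congr (subgroupOfEquivOfLe hL.1).toEquiv, Nat.coprime_two_right]
    exact hp
  have h1 := map_mono (f := M.subtype) (Cfsg.Agent.Lib.Cores.le_pPrimeCore hn hc)
  have h3 : Cfsg.pPrimeCore 2 G = ⊥ := hO
  rw [subgroupOf_map_subtype, inf_eq_left.2 hL.1, Cfsg.Agent.Lib.Cores.map_subtype_pPrimeCore 2 f.n, h3, inf_bot_eq,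
    le_bot_iff] at h1
  exact hL.2.1 h1

end Fac

namespace Sit

variable {τ : G} {S : Sylow 2 G} {C Z Q2 Q1 Q : Subgroup G} (h : Sit τ S C Z Q2 Q1 Q)

include h

/-- **no factor centralises `τ`** -/
theorem not_cent (hO : Cfsg.oddCore G = ⊥) (h2 : Cfsg.pCore 2 G = ⊥) {M : Subgroup G} (f : Fac M) (hQM : Q2 ≤ M)
    {L : Subgroup G} (hL : L ∈ minSet M) : ¬ ∀ x ∈ L, x * τ = τ * x := by
  intro hLτ
  have hLn : ∀ x ∈ M, ∀ y ∈ L, x * y * x⁻¹ ∈ L := fun x hx y hy =>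
    (mem_normalizer_iff.1 (hL.2.2.1 hx) y).1 hy
  have hLD : L ≤ centralizer ({τ} : Set G) := fun x hx => mem_centralizer_singleton_iff.2 (hLτ x hx)
  have hsimple := f.simple L hL
  have hn : (C.subgroupOf L).Normal := by
    constructor
    intro c hc g
    exact mem_subgroupOf.2 (h.C_n g (hLτ g g.2) c (mem_subgroupOf.1 hc))
  have hLC : L ≤ C := by
    rcases hn.eq_bot_or_eq_top with h3 | h3
    · exfalso
      apply f.not_odd hO hL
      have h4 : C.relIndex L ∣ C.relIndex (centralizer ({τ} : Set G)) := by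
        have hCD : (C.subgroupOf (centralizer ({τ} : Set G))).Normal := by
          constructor
          intro c hc g
          exact mem_subgroupOf.2 (h.C_n g (mem_centralizer_singleton_iff.1 g.2) c (mem_subgroupOf.1 hc))
        rw [← relIndex_subgroupOf hLD]
        exact relIndex_dvd_index_of_normal _ _
      have h5 : C.relIndex L = Nat.card L := by
        rw [relIndex, h3, index_bot]
      rw [h5] at h4
      exact h.C_odd.of_dvd_nat h4
    · exact subgroupOf_eq_top.1 h3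
  have hLQ : L ⊓ Q = ⊥ := by
    have hn' : (Q.subgroupOf L).Normal := by
      constructor
      intro c hc g
      exact mem_subgroupOf.2 (h.nQ g (hLC g.2) c (mem_subgroupOf.1 hc))
    rcases hn'.eq_bot_or_eq_top with h3 | h3
    · rw [inf_comm]
      exact subgroupOf_eq_bot.1 h3 |>.eq_bot
    · exact absurd (h.two.to_le (subgroupOf_eq_top.1 h3)) (f.not_two h2 hL)
  have hL1 : L ≤ Q1 := by
    intro x hx
    refine h.cent2 x (hLC hx) fun y hy => ?_
    have h3 : ⁅x, y⁆ ∈ L ⊓ Q := by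
      refine mem_inf.2 ⟨?_, ?_⟩
      · have e : ⁅x, y⁆ = x * (y * x⁻¹ * y⁻¹) := by rw [commutatorElement_def]; group
        rw [e]
        exact L.mul_mem hx (hLn y (hQM hy) _ (L.inv_mem hx))
      · rw [commutatorElement_def]
        exact Q.mul_mem (h.nQ x (hLC hx) y (h.Q2_le_Q hy)) (Q.inv_mem (h.Q2_le_Q hy))
    rw [hLQ, mem_bot, commutatorElement_eq_one_iff_mul_comm] at h3
    exact h3
  exact f.not_two h2 hL (h.two.to_le (hL1.trans h.Q1_le))

/-- `τ` is not in a factor of a proper decomposition: the commuting conjugates -/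
theorem exists_simple (hO : Cfsg.oddCore G = ⊥) (h2 : Cfsg.pCore 2 G = ⊥) :
    ∃ M : Subgroup G, M.Normal ∧ IsSimpleGroup M ∧ Q2 ≤ M ∧ centralizer (M : Set G) = ⊥ ∧
      ¬ ∀ x ∈ M, ∀ y ∈ M, Commute x y := by
  set! M : Subgroup G := normalClosure {τ} with hMdef
  have hM : M.Normal := normalClosure_normal
  have hτM : τ ∈ M := subset_normalClosure rfl
  have hτZ := h.τZ
  have hMne : M ≠ ⊥ := fun hb => by
    rw [hb, mem_bot] at hτM
    exact h.t1 hτM
  have hmem : ∀ {N : Subgroup G}, N.Normal → N ≠ ⊥ → M ≤ N := by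
    intro N hN hne
    exact normalClosure_le_normal (Set.singleton_subset_iff.2 (h.Q2_le_normal hO h2 hN hne (h.Z_le hτZ)))
  have hQM : Q2 ≤ M := h.Q2_le_normal hO h2 hM hMne
  have hmin : ∀ N : Subgroup G, N.Normal → N ≤ M → N = ⊥ ∨ N = M := by
    intro N hN hNM
    by_cases hne : N = ⊥
    · exact Or.inl hne
    · exact Or.inr (le_antisymm hNM (hmem hN hne))
  have hna : ¬ ∀ x ∈ M, ∀ y ∈ M, Commute x y := by
    intro hab
    let W : Subgroup G :=
      { carrier := {x | x ∈ M ∧ x * x = 1}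
        one_mem' := ⟨M.one_mem, one_mul 1⟩
        mul_mem' := by
          rintro a b ⟨ha, ha2⟩ ⟨hb, hb2⟩
          refine ⟨M.mul_mem ha hb, ?_⟩
          calc a * b * (a * b) = a * (b * a) * b := by group
            _ = a * (a * b) * b := by rw [(hab a ha b hb).eq]
            _ = (a * a) * (b * b) := by group
            _ = 1 := by rw [ha2, hb2, one_mul]
        inv_mem' := by
          rintro a ⟨ha, ha2⟩
          have e : a⁻¹ = a := inv_eq_of_mul_eq_one_left ha2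
          rw [e]
          exact ⟨ha, ha2⟩ }
    have hWn : W.Normal := by
      constructor
      rintro x ⟨hx, hx2⟩ g
      refine ⟨hM.conj_mem x hx g, ?_⟩
      calc g * x * g⁻¹ * (g * x * g⁻¹) = g * (x * x) * g⁻¹ := by group
        _ = 1 := by rw [hx2]; group
    have hW2 : IsPGroup 2 W := by
      intro x
      refine ⟨1, Subtype.ext ?_⟩
      change (x : G) ^ 2 ^ 1 = 1
      rw [pow_one, pow_two]
      exact x.2.2
    have h3 := Cfsg.Agent.Lib.Cores.le_pCore hWn hW2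
    rw [h2, le_bot_iff] at h3
    have h4 : τ ∈ W := ⟨hτM, h.tt⟩
    rw [h3, mem_bot] at h4
    exact h.t1 h4
  have hcent : centralizer (M : Set G) = ⊥ := by
    by_contra hne
    have h1 : (centralizer (M : Set G)).Normal := inferInstance
    have h3 := hmem h1 hne
    exact hna fun x hx y hy => (mem_centralizer_iff.1 (h3 hy) x hx)
  obtain ⟨hnonempty, hind, hsup, hsimp, hctr, -⟩ := nonabelian_structure M hmin hna
  have f : Fac M := ⟨hM, hind, hsup, hsimp, hctr⟩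
  refine ⟨M, hM, ?_, hQM, hcent, hna⟩
  obtain ⟨L, hL⟩ := hnonempty
  set! B : Subgroup G := M ⊓ centralizer (L : Set G) with hBdef
  have hLB1 : L ⊓ B = ⊥ := f.inf_bot hL
  have hLB2 : L ⊔ B = M := f.sup_eq hL
  have hLBc : ∀ a ∈ L, ∀ b ∈ B, a * b = b * a := fun a ha b hb => mem_centralizer_iff.1 hb.2 a ha
  obtain ⟨p, hp⟩ := Cfsg.Agent.H316.Red.exists_proj hLBc hLB1 hLB2
  have huniq : ∀ {a a' b b' : G}, a ∈ L → a' ∈ L → b ∈ B → b' ∈ B → a * b = a' * b' → a = a' := by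
    intro a a' b b' ha ha' hb hb' hab
    have h1 : a'⁻¹ * a ∈ L ⊓ B := by
      refine mem_inf.2 ⟨L.mul_mem (L.inv_mem ha') ha, ?_⟩
      have h3 : a'⁻¹ * a = b' * b⁻¹ := by
        rw [inv_mul_eq_iff_eq_mul, ← mul_assoc, ← hab, mul_inv_cancel_right]
      rw [h3]
      exact B.mul_mem hb' (B.inv_mem hb)
    rw [hLB1, mem_bot, inv_mul_eq_one] at h1
    exact h1.symm
  set! t₁ : G := p ⟨τ, hτM⟩ with ht₁
  set! κ : G := t₁⁻¹ * τ with hκ
  have ht₁L : t₁ ∈ L := (hp _).1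
  have hκB : κ ∈ B := (hp ⟨τ, hτM⟩).2
  have hτe : τ = t₁ * κ := by rw [hκ, mul_inv_cancel_left]
  have ht₁sq : t₁ * t₁ = 1 := by
    rw [ht₁, ← map_mul]
    have e : (⟨τ, hτM⟩ : M) * ⟨τ, hτM⟩ = 1 := Subtype.ext h.tt
    rw [e, map_one]
  have ht₁ne : t₁ ≠ 1 := by
    intro h1
    have h3 : τ ∈ B := by rw [hτe, h1, one_mul]; exact hκB
    exact h.not_cent hO h2 f hQM hL fun x hx => hLBc x hx τ h3
  -- conjugation
  have hcd : ∀ g, ∀ T ∈ minSet M, ∀ x ∈ T, g * x * g⁻¹ ∈ T.map (MulAut.conj g).toMonoidHom :=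
    fun g T _ x hx => ⟨x, hx, rfl⟩
  have hnB : ∀ g, L.map (MulAut.conj g).toMonoidHom = L → (∀ x ∈ L, g * x * g⁻¹ ∈ L) ∧ ∀ x ∈ B, g * x * g⁻¹ ∈ B := by
    intro g hg
    have h1 : ∀ x ∈ L, g * x * g⁻¹ ∈ L := fun x hx => by
      have := hcd g L hL x hx
      rwa [hg] at this
    have h3 : ∀ x ∈ L, g⁻¹ * x * g ∈ L := by
      intro x hx
      rw [← hg] at hx
      obtain ⟨y, hy, rfl⟩ := hx
      have e : g⁻¹ * ((MulAut.conj g).toMonoidHom y) * g = y := by
        change g⁻¹ * (g * y * g⁻¹) * g = y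
        group
      rw [e]; exact hy
    refine ⟨h1, fun x hx => mem_inf.2 ⟨hM.conj_mem x hx.1 g, ?_⟩⟩
    rw [mem_centralizer_iff]
    intro y hy
    have h4 := mem_centralizer_iff.1 hx.2 _ (h3 y hy)
    calc y * (g * x * g⁻¹) = g * ((g⁻¹ * y * g) * x) * g⁻¹ := by group
      _ = g * (x * (g⁻¹ * y * g)) * g⁻¹ := by rw [h4]
      _ = g * x * g⁻¹ * y := by group
  -- (F3)
  have hF3 : ∀ g, g * τ = τ * g → L.map (MulAut.conj g).toMonoidHom = L → g * t₁ * g⁻¹ = t₁ := by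
    intro g hg hgL
    obtain ⟨h1, h3⟩ := hnB g hgL
    refine huniq (h1 _ ht₁L) ht₁L (h3 _ hκB) hκB ?_
    have e : g * t₁ * g⁻¹ * (g * κ * g⁻¹) = g * (t₁ * κ) * g⁻¹ := by group
    rw [e, ← hτe, hg, mul_inv_cancel_right]
  -- the group generated by the conjugates of `t₁`
  set! E : Subgroup G := _root_.Subgroup.closure {y | ∃ c ∈ C, y = c * t₁ * c⁻¹} with hE
  have hgen : ∀ c ∈ C, c * t₁ * c⁻¹ ∈ E := fun c hc => subset_closure ⟨c, hc, rfl⟩
  have hcommgen : ∀ c ∈ C, ∀ d ∈ C, (c * t₁ * c⁻¹) * (d * t₁ * d⁻¹) = (d * t₁ * d⁻¹) * (c * t₁ * c⁻¹) := by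
    intro c hc d hd
    by_cases hcdL : L.map (MulAut.conj d).toMonoidHom = L.map (MulAut.conj c).toMonoidHom
    · have h1 : L.map (MulAut.conj (d⁻¹ * c)).toMonoidHom = L := by
        have h3 := congrArg (fun T : Subgroup G => T.map (MulAut.conj d⁻¹).toMonoidHom) hcdL
        simp only [map_map] at h3
        have e1 : (MulAut.conj d⁻¹).toMonoidHom.comp (MulAut.conj d).toMonoidHom = MonoidHom.id G := by
          ext x
          change d⁻¹ * (d * x * d⁻¹) * d⁻¹⁻¹ = x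
          group
        have e2 : (MulAut.conj d⁻¹).toMonoidHom.comp (MulAut.conj c).toMonoidHom =
            (MulAut.conj (d⁻¹ * c)).toMonoidHom := by
          ext x
          change d⁻¹ * (c * x * c⁻¹) * d⁻¹⁻¹ = d⁻¹ * c * x * (d⁻¹ * c)⁻¹
          group
        rw [e1, e2, map_id] at h3
        exact h3.symm
      have h3 := hF3 (d⁻¹ * c) (h.C_le _ (C.mul_mem (C.inv_mem hd) hc)) h1
      have h4 : c * t₁ * c⁻¹ = d * t₁ * d⁻¹ := by
        calc c * t₁ * c⁻¹ = d * ((d⁻¹ * c) * t₁ * (d⁻¹ * c)⁻¹) * d⁻¹ := by group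
          _ = d * t₁ * d⁻¹ := by rw [h3]
      rw [h4]
    · exact f.comm (f.conj_mem hL c) (f.conj_mem hL d) hcdL (hcd c L hL _ ht₁L) (hcd d L hL _ ht₁L)
  have hEcomm : ∀ x ∈ E, ∀ y ∈ E, x * y = y * x := by
    intro x hx y hy
    refine closure_induction₂ (p := fun x y _ _ => x * y = y * x) ?_ (fun x _ => by rw [one_mul, mul_one])
      (fun x _ => by rw [one_mul, mul_one]) ?_ ?_ ?_ ?_ hx hy
    · rintro _ _ ⟨c, hc, rfl⟩ ⟨d, hd, rfl⟩
      exact hcommgen c hc d hd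
    · intro a b c _ _ _ h1 h3
      exact (Commute.mul_left (show Commute a c from h1) h3).eq
    · intro a b c _ _ _ h1 h3
      exact (Commute.mul_right (show Commute c a from h1) h3).eq
    · intro a b _ _ h1
      exact (show Commute a b from h1).inv_left.eq
    · intro a b _ _ h1
      exact (show Commute a b from h1).inv_right.eq
  have hEsq : ∀ x ∈ E, x * x = 1 := by
    intro x hx
    refine closure_induction (p := fun x _ => x * x = 1) ?_ (one_mul 1) ?_ ?_ hx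
    · rintro _ ⟨c, hc, rfl⟩
      calc c * t₁ * c⁻¹ * (c * t₁ * c⁻¹) = c * (t₁ * t₁) * c⁻¹ := by group
        _ = 1 := by rw [ht₁sq]; group
    · intro a b ha hb h1 h3
      calc a * b * (a * b) = a * (b * a) * b := by group
        _ = a * (a * b) * b := by rw [hEcomm b hb a ha]
        _ = (a * a) * (b * b) := by group
        _ = 1 := by rw [h1, h3, one_mul]
    · intro a _ h1
      rw [← mul_inv_rev, h1, inv_one]
  have ht₁τ : t₁ * τ = τ * t₁ := by
    have h1 := hLBc t₁ ht₁L κ hκB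
    rw [hτe, mul_assoc, h1]
  have hEτ : ∀ x ∈ E, x * τ = τ * x := by
    intro x hx
    refine closure_induction (p := fun x _ => x * τ = τ * x) ?_ (by rw [one_mul, mul_one]) ?_ ?_ hx
    · rintro _ ⟨c, hc, rfl⟩
      have h1 : c⁻¹ * τ * c = τ := by
        have h3 := h.C_le c hc
        rw [mul_assoc, ← h3]; group
      calc c * t₁ * c⁻¹ * τ = c * (t₁ * (c⁻¹ * τ * c)) * c⁻¹ := by group
        _ = c * (t₁ * τ) * c⁻¹ := by rw [h1]
        _ = c * (τ * t₁) * c⁻¹ := by rw [ht₁τ]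
        _ = (c * τ) * (t₁ * c⁻¹) := by group
        _ = (τ * c) * (t₁ * c⁻¹) := by rw [h.C_le c hc]
        _ = τ * (c * t₁ * c⁻¹) := by group
    · intro a b _ _ h1 h3
      exact (Commute.mul_left (show Commute a τ from h1) h3).eq
    · intro a _ h1
      exact (show Commute a τ from h1).inv_left.eq
  have hE2 : IsPGroup 2 E := by
    intro x
    refine ⟨1, Subtype.ext ?_⟩
    change (x : G) ^ 2 ^ 1 = 1
    rw [pow_one, pow_two]
    exact hEsq x x.2
  have hEC : E ≤ C := h.le_C hEτ hE2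
  have hEn : NB C E := by
    intro c hc x hx
    have key : E ≤ E.comap (MulAut.conj c).toMonoidHom := by
      rw [hE, closure_le]
      rintro _ ⟨d, hd, rfl⟩
      refine _root_.Subgroup.subset_closure ⟨c * d, C.mul_mem hc hd, ?_⟩
      change c * (d * t₁ * d⁻¹) * c⁻¹ = _
      group
    exact key hx
  have ht₁E : t₁ ∈ E := by
    have := hgen 1 C.one_mem
    rwa [one_mul, inv_one, mul_one] at this
  rcases h.elem hEC hEn hEsq with hEZ | hEQ
  · -- `t₁ ∈ Z`
    have ht₁Z : t₁ ∈ Z := hEZ ht₁E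
    by_cases hκ1 : κ = 1
    · have hτL : τ ∈ L := by rw [hτe, hκ1, mul_one]; exact ht₁L
      have honly : minSet M = {L} := by
        apply Set.Subset.antisymm
        · intro T hT
          rw [Set.mem_singleton_iff]
          by_contra hTL
          exact h.not_cent hO h2 f hQM hT fun x hx => (hLBc τ hτL x (f.le_B hL hT hTL hx)).symm
        · exact Set.singleton_subset_iff.2 hL
      have hML : M = L := by rw [← hsup, honly, sSup_singleton]
      have h5 := hsimp L hL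
      rw [hML]; exact h5
    · exfalso
      have hκZ : κ ∈ Z := Z.mul_mem (Z.inv_mem ht₁Z) hτZ
      have hCL : ∀ c ∈ C, L.map (MulAut.conj c).toMonoidHom = L := by
        intro c hc
        by_contra hne
        have h3 : Disjoint (L.map (MulAut.conj c).toMonoidHom) L := hind.pairwiseDisjoint (f.conj_mem hL c) hL hne
        have h4 : t₁ ∈ L.map (MulAut.conj c).toMonoidHom ⊓ L := by
          refine mem_inf.2 ⟨⟨t₁, ht₁L, ?_⟩, ht₁L⟩
          change c * t₁ * c⁻¹ = t₁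
          rw [h.cZ c hc t₁ ht₁Z, mul_inv_cancel_right]
        rw [h3.eq_bot, mem_bot] at h4
        exact ht₁ne h4
      have hLn : NB C L := fun c hc => (hnB c (hCL c hc)).1
      have hBn : NB C B := fun c hc => (hnB c (hCL c hc)).2
      have hCn : NB C C := fun c hc x hx => C.mul_mem (C.mul_mem hc hx) (C.inv_mem hc)
      have hLZ : L ⊓ C ≤ Z := by
        refine h.le_Z inf_le_right (hLn.inf hCn) ?_
        rcases h.dich (D := L ⊓ C ⊓ Q) inf_le_right ((hLn.inf hCn).inf h.nQ) with h3 | h3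
        · exact h3
        · exfalso
          apply hκ1
          have h4 : τ ∈ L := (h3 (h.Z_le hτZ)).1.1
          have h5 : κ ∈ L ⊓ B := mem_inf.2 ⟨L.mul_mem (L.inv_mem ht₁L) h4, hκB⟩
          rwa [hLB1, mem_bot] at h5
      have hBZ : B ⊓ C ≤ Z := by
        refine h.le_Z inf_le_right (hBn.inf hCn) ?_
        rcases h.dich (D := B ⊓ C ⊓ Q) inf_le_right ((hBn.inf hCn).inf h.nQ) with h3 | h3
        · exact h3
        · exfalso
          apply ht₁ne
          have h4 : τ ∈ B := (h3 (h.Z_le hτZ)).1.1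
          have h5 : t₁ ∈ L ⊓ B := by
            refine mem_inf.2 ⟨ht₁L, ?_⟩
            have e : t₁ = τ * κ⁻¹ := by rw [hτe, mul_inv_cancel_right]
            rw [e]
            exact B.mul_mem h4 (B.inv_mem hκB)
          rwa [hLB1, mem_bot] at h5
      apply h.not_Q2_le
      intro x hx
      have hxM : x ∈ M := hQM hx
      have hxτ : x * τ = τ * x := h.cZ x (h.Q2_le_C hx) τ hτZ
      set! a : G := p ⟨x, hxM⟩ with ha
      have haL : a ∈ L := (hp _).1
      have hbB : a⁻¹ * x ∈ B := (hp ⟨x, hxM⟩).2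
      have hasq : a * a = 1 := by
        rw [ha, ← map_mul]
        have e : (⟨x, hxM⟩ : M) * ⟨x, hxM⟩ = 1 := Subtype.ext (h.sq2 x hx)
        rw [e, map_one]
      have hat : a * t₁ = t₁ * a := by
        rw [ha, ht₁, ← map_mul, ← map_mul]
        congr 1
        exact Subtype.ext hxτ
      have haτ : a * τ = τ * a := by
        calc a * τ = a * t₁ * κ := by rw [mul_assoc, ← hτe]
          _ = t₁ * (a * κ) := by rw [hat, mul_assoc]
          _ = t₁ * κ * a := by rw [hLBc a haL κ hκB]; exact (mul_assoc _ _ _).symm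
          _ = τ * a := by rw [← hτe]
      have haC : a ∈ C := h.mem_C haτ (k := 1) (by rw [pow_one, pow_two]; exact hasq)
      have haZ : a ∈ Z := hLZ ⟨haL, haC⟩
      have hbZ : a⁻¹ * x ∈ Z := hBZ ⟨hbB, C.mul_mem (C.inv_mem haC) (h.Q2_le_C hx)⟩
      have h6 := Z.mul_mem haZ hbZ
      rwa [mul_inv_cancel_left] at h6
  · -- `E = Q2`
    exfalso
    have ht₁Q2 : t₁ ∈ Q2 := hEQ ▸ ht₁E
    have ht₁Z : t₁ ∉ Z := by
      intro h1
      apply h.not_Q2_le
      rw [← hEQ, hE, closure_le]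
      rintro _ ⟨c, hc, rfl⟩
      exact h.nZ c hc t₁ h1
    have hg : ∃ g ∈ Q, g * t₁ ≠ t₁ * g := by
      by_contra hcon
      push Not at hcon
      exact ht₁Z (h.cent t₁ (h.Q2_le_C ht₁Q2) fun y hy => (hcon y hy).symm)
    obtain ⟨g, hgQ, hgt⟩ := hg
    have hgC : g ∈ C := h.Q_le hgQ
    have hwZ : ⁅t₁, g⁆ ∈ Z := h.comm2 t₁ ht₁Q2 g hgQ
    set! L₂ : Subgroup G := L.map (MulAut.conj g).toMonoidHom with hL₂
    have hL₂m : L₂ ∈ minSet M := f.conj_mem hL g
    have hL₂ne : L₂ ≠ L := by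
      intro h1
      apply hgt
      have h3 := hF3 g (h.C_le g hgC) h1
      rwa [mul_inv_eq_iff_eq_mul] at h3
    -- `u`
    set! u : G := g * t₁⁻¹ * g⁻¹ with hu
    have huL₂ : u ∈ L₂ := hcd g L hL _ (L.inv_mem ht₁L)
    have hw : ⁅t₁, g⁆ = t₁ * u := by rw [commutatorElement_def, hu]; group
    -- conjugates of `L` under `C`
    have hcases : ∀ c ∈ C, L.map (MulAut.conj c).toMonoidHom = L ∨ L₂.map (MulAut.conj c).toMonoidHom = L := by
      intro c hc
      by_contra hcon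
      push Not at hcon
      obtain ⟨h1, h3⟩ := hcon
      have h4 : c * ⁅t₁, g⁆ * c⁻¹ = ⁅t₁, g⁆ := by
        rw [h.cZ c hc _ hwZ, mul_inv_cancel_right]
      have h5 : c * t₁ * c⁻¹ ∈ B := f.le_B hL (f.conj_mem hL c) h1 (hcd c L hL _ ht₁L)
      have h6 : c * u * c⁻¹ ∈ B := f.le_B hL (f.conj_mem hL₂m c) h3 (hcd c L₂ hL₂m _ huL₂)
      have h7 : u ∈ B := f.le_B hL hL₂m hL₂ne huL₂
      apply ht₁ne
      refine huniq (b := u) (b' := (c * t₁ * c⁻¹) * (c * u * c⁻¹)) ht₁L L.one_mem h7 (B.mul_mem h5 h6) ?_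
      rw [one_mul, ← hw, ← h4, hw]
      group
    have hgens : ∀ c ∈ C, c * t₁ * c⁻¹ = t₁ ∨ c * t₁ * c⁻¹ = g * t₁ * g⁻¹ := by
      intro c hc
      rcases hcases c⁻¹ (C.inv_mem hc) with h1 | h1
      · left
        have h3 := hF3 c⁻¹ (h.C_le _ (C.inv_mem hc)) h1
        have h4 : c * t₁ * c⁻¹ = c * (c⁻¹ * t₁ * c⁻¹⁻¹) * c⁻¹ := by rw [h3]
        rw [h4]; group
      · right
        have e : L.map (MulAut.conj (c⁻¹ * g)).toMonoidHom = L := by
          rw [hL₂, map_map] at h1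
          have e2 : (MulAut.conj c⁻¹).toMonoidHom.comp (MulAut.conj g).toMonoidHom =
              (MulAut.conj (c⁻¹ * g)).toMonoidHom := by
            ext x
            change c⁻¹ * (g * x * g⁻¹) * c⁻¹⁻¹ = c⁻¹ * g * x * (c⁻¹ * g)⁻¹
            group
          rwa [e2] at h1
        have h3 := hF3 _ (h.C_le _ (C.mul_mem (C.inv_mem hc) hgC)) e
        calc c * t₁ * c⁻¹ = c * ((c⁻¹ * g) * t₁ * (c⁻¹ * g)⁻¹) * c⁻¹ := by rw [h3]
          _ = g * t₁ * g⁻¹ := by group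
    set! v : G := g * t₁ * g⁻¹ with hv; rewrite [← hv] at hgens
    have hvt : v * t₁ = t₁ * v := by
      have h1 := hcommgen g hgC 1 C.one_mem
      rwa [one_mul, inv_one, mul_one] at h1
    have hvsq : v * v = 1 := hEsq v (hgen g hgC)
    have hfin : ∀ x ∈ E, x = 1 ∨ x = t₁ ∨ x = v ∨ x = t₁ * v := by
      intro x hx
      refine closure_induction (p := fun x _ => x = 1 ∨ x = t₁ ∨ x = v ∨ x = t₁ * v) ?_ (Or.inl rfl) ?_ ?_ hx
      · rintro _ ⟨c, hc, rfl⟩
        rcases hgens c hc with h1 | h1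
        · exact Or.inr (Or.inl h1)
        · exact Or.inr (Or.inr (Or.inl h1))
      · have e1 : t₁ * (t₁ * v) = v := by rw [← mul_assoc, ht₁sq, one_mul]
        have e2 : v * (t₁ * v) = t₁ := by rw [← mul_assoc, hvt, mul_assoc, hvsq, mul_one]
        have e3 : t₁ * v * t₁ = v := by rw [mul_assoc, hvt, e1]
        have e4 : t₁ * v * v = t₁ := by rw [mul_assoc, hvsq, mul_one]
        have e5 : t₁ * v * (t₁ * v) = 1 := by rw [← mul_assoc, e3, hvsq]
        rintro a b _ _ (rfl | rfl | rfl | rfl) (rfl | rfl | rfl | rfl)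
        all_goals simp only [ht₁sq, hvsq, hvt, e1, e2, e3, e4, e5, _root_.mul_one, _root_.true_or, _root_.one_mul, _root_.left_eq_mul, _root_.or_true, _root_.right_eq_mul, _root_.mul_eq_left, _root_.mul_eq_right]
      · have e1 : t₁⁻¹ = t₁ := inv_eq_of_mul_eq_one_left ht₁sq
        have e2 : v⁻¹ = v := inv_eq_of_mul_eq_one_left hvsq
        rintro a _ (rfl | rfl | rfl | rfl)
        · left; rw [inv_one]
        · right; left; exact e1
        · right; right; left; exact e2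
        · right; right; right
          rw [mul_inv_rev, e1, e2, hvt]
    have hcard : Nat.card Q2 ≤ 4 := by
      rw [← hEQ]
      classical
      have h1 : (E : Set G) ⊆ (({1, t₁, v, t₁ * v} : Finset G) : Set G) := by
        intro x hx
        rcases hfin x hx with h3 | h3 | h3 | h3 <;> simp only [h3, _root_.Finset.coe_insert, _root_.Finset.coe_singleton, _root_.Set.mem_insert_iff, _root_.Set.mem_singleton_iff, _root_.true_or, _root_.left_eq_mul, _root_.or_true, _root_.right_eq_mul, _root_.mul_eq_left, _root_.mul_eq_right]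
      have h3 : Nat.card E ≤ ({1, t₁, v, t₁ * v} : Finset G).card := by
        have h4 := Nat.card_mono (Finset.finite_toSet _) h1
        rw [Nat.card_coe_set_eq (s := ((({1, t₁, v, t₁ * v} : Finset G)) : Set G)), Set.ncard_coe_finset] at h4
        exact h4
      exact h3.trans Finset.card_le_four
    exact absurd hcard (not_le.2 h.big)

end Sit

end Cfsg.Agent.H312.Ree
end

-- part: H312/ReeConj
section
/-!
# 2-central involutions of `²F₄(q)`; the situation of S3217 (helper312)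

* `exists_conj` : two 2-central involutions of `²F₄(q)` are conjugate;
* `Dat` : the hypotheses of S3217, `Dat.exists_sit`.
-/

set_option autoImplicit false

namespace Cfsg.Agent.H312.Ree

open Cfsg.Agent.SplitTwo Cfsg.Agent.SplitTwo.ZS Cfsg.Agent.TitsThree.RankTwoZ Cfsg.Agent.SplitTwo.RootSysZ
open Cfsg.Agent.KFacts.TwF4 Cfsg.Agent.KFacts.TwF4.Arc Cfsg.Agent.KFacts.TwF4.Irr
open Cfsg.Agent.KFacts.TwF4.Inv Cfsg.Agent.KFacts.TwF4.Layers Cfsg.Agent.CpAutTwF
open Subgroup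
open scoped commutatorElement Pointwise

universe u

section

variable {F : Type*} [Field F] {σ : F →+* F} {G : Type u} [Group G] (S : Full σ G)

theorem to_Zc [Finite F] [Finite G] (hU : ∃ P : Sylow 2 G, (P : Subgroup G) = J S.XZ 1 8) {z : G} {P : Sylow 2 G}
    (hzP : z ∈ (P : Subgroup G)) (hzc : ∀ u ∈ (P : Subgroup G), u * z = z * u) : ∃ g, g * z * g⁻¹ ∈ S.Zc 2 := by
  have hfact : Fact (Nat.Prime 2) := ⟨Nat.prime_two⟩
  obtain ⟨P0, hP0⟩ := hU
  obtain ⟨g, hg⟩ := MulAction.exists_smul_eq G P P0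
  have hmem : ∀ x, x ∈ (P0 : Subgroup G) ↔ g⁻¹ * x * g ∈ (P : Subgroup G) := by
    intro x
    rw [← hg, Sylow.coe_subgroup_smul, Subgroup.mem_pointwise_smul_iff_inv_smul_mem]
    rw [← map_inv]
    show (MulAut.conj g⁻¹) x ∈ _ ↔ _
    rw [MulAut.conj_apply, inv_inv]
  refine ⟨g, ?_⟩
  rw [AutNorm.mem_Zc_iff]
  refine ⟨?_, fun u hu => ?_⟩
  · rw [← hP0, hmem]
    have e : g⁻¹ * (g * z * g⁻¹) * g = z := by group
    rwa [e]
  · rw [← hP0, hmem] at hu
    have h1 := hzc _ hu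
    calc g * z * g⁻¹ * u = g * (z * (g⁻¹ * u * g)) * g⁻¹ := by group
      _ = g * ((g⁻¹ * u * g) * z) * g⁻¹ := by rw [h1]
      _ = u * (g * z * g⁻¹) := by group

theorem conj_ne_one {G : Type*} [Group G] {g z : G} (hz : z ≠ 1) : g * z * g⁻¹ ≠ 1 := by
  intro h
  apply hz
  have e : z = g⁻¹ * (g * z * g⁻¹) * g := by group
  rw [e, h]; group

/-- **two 2-central involutions are conjugate** -/
theorem exists_conj [Finite F] [Finite G] (hU : ∃ P : Sylow 2 G, (P : Subgroup G) = J S.XZ 1 8) {z z' : G}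
    (hz : z ≠ 1) (hz' : z' ≠ 1) {P P' : Sylow 2 G} (hzP : z ∈ (P : Subgroup G))
    (hzc : ∀ u ∈ (P : Subgroup G), u * z = z * u) (hzP' : z' ∈ (P' : Subgroup G))
    (hzc' : ∀ u ∈ (P' : Subgroup G), u * z' = z' * u) : ∃ g, g * z * g⁻¹ = z' := by
  obtain ⟨g, hg⟩ := to_Zc S hU hzP hzc
  obtain ⟨g', hg'⟩ := to_Zc S hU hzP' hzc'
  obtain ⟨u, hu⟩ := hg
  obtain ⟨v, hv⟩ := hg'
  have hu0 : u ≠ 0 := by
    rintro rfl
    rw [S.e_zero] at hu
    exact conj_ne_one hz hu.symm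
  have hv0 : v ≠ 0 := by
    rintro rfl
    rw [S.e_zero] at hv
    exact conj_ne_one hz' hv.symm
  obtain ⟨t, -, ht⟩ := S.T_trans hu0 hv0
  refine ⟨g'⁻¹ * t * g, ?_⟩
  change S.e 2 0 u = _ at hu
  change S.e 2 0 v = _ at hv
  calc g'⁻¹ * t * g * z * (g'⁻¹ * t * g)⁻¹ = g'⁻¹ * (t * (g * z * g⁻¹) * t⁻¹) * g' := by group
    _ = g'⁻¹ * (g' * z' * g'⁻¹) * g' := by rw [← hu, ht, hv]
    _ = z' := by group

end

/-! ### `²F₄(q)` -/

section inst

variable {K : Type*} [Field K] [Fintype K]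

/-- `U = J 1 8` is a Sylow 2-subgroup of `²F₄(q)` -/
theorem sylow_U {m : ℕ} (hK : Fintype.card K = 2 ^ (2 * m + 1)) {σ : K →+* K}
    (S : Full σ ↥(Lie.twistedF4 K (2 ^ m))) (hR : S.R.p = 2) :
    ∃ P : Sylow 2 ↥(Lie.twistedF4 K (2 ^ m)), (P : Subgroup ↥(Lie.twistedF4 K (2 ^ m))) = J S.XZ 1 8 := by
  have hfact : Fact (Nat.Prime 2) := ⟨Nat.prime_two⟩
  have hchar := ChevalleyStructure.TwF4.Twisted.charP_two hK
  have hq : Nat.card K = 2 ^ (2 * m + 1) := by rw [Nat.card_eq_fintype_card, hK]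
  have hfin : Finite ↥(Lie.twistedF4 K (2 ^ m)) := inferInstance
  have hp : IsPGroup 2 (J S.XZ 1 8) := isPGroup_J S.zsys8 (two_X S hR) 8 1 8 (by norm_num) (by norm_num)
  refine ⟨hp.toSylow ?_, rfl⟩
  intro h2
  have h1 := (J S.XZ 1 8).card_mul_index
  rw [H762.PL.card_U S, hq, S1068.result hK, mul_assoc, mul_assoc, mul_assoc] at h1
  have h3 := Nat.eq_of_mul_eq_mul_left (by positivity) h1
  rw [h3] at h2
  have hev : Even (2 ^ (2 * m + 1)) := (even_two).pow_of_ne_zero (by omega)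
  have hpos : 1 ≤ 2 ^ (2 * m + 1) := Nat.one_le_two_pow
  have o1 : Odd (2 ^ (2 * m + 1) - 1) := Nat.Even.sub_odd hpos hev odd_one
  have o3 : Odd ((2 ^ (2 * m + 1)) ^ 3 + 1) := (hev.pow_of_ne_zero (by norm_num)).add_odd odd_one
  have o4 : Odd ((2 ^ (2 * m + 1)) ^ 4 - 1) :=
    Nat.Even.sub_odd (Nat.one_le_pow _ _ (by omega)) (hev.pow_of_ne_zero (by norm_num)) odd_one
  have o6 : Odd ((2 ^ (2 * m + 1)) ^ 6 + 1) := (hev.pow_of_ne_zero (by norm_num)).add_odd odd_one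
  have h4 := o1.mul (o3.mul (o4.mul o6))
  exact (Nat.not_even_iff_odd.2 h4) (even_iff_two_dvd.2 h2)

/-- a coordinate system of `²F₄(q)` -/
theorem exists_full {m : ℕ} (hK : Fintype.card K = 2 ^ (2 * m + 1)) :
    ∃ (σ : K →+* K) (S : Full σ ↥(Lie.twistedF4 K (2 ^ m))), S.R.p = 2 := by
  have hchar := ChevalleyStructure.TwF4.Twisted.charP_two hK
  obtain ⟨φ, hφ⟩ := ChevalleyStructure.TwF4.TwistedFix.exists_rln hK
  exact ⟨φ, Inst.full hK hφ, rfl⟩

end inst

end Cfsg.Agent.H312.Ree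
end

-- part: H312/ReeSit
section
/-!
# `Sit` from the hypotheses of S3217 (helper312)

* `tr` : the subgroup of `C` corresponding to a subgroup of `PL`;
* `sit_of` : `Sit τ S C (tr Z) (tr Q2) (tr Q1) (tr Q)`.
-/

set_option autoImplicit false

namespace Cfsg.Agent.H312.Ree

open Cfsg.Agent.SplitTwo Cfsg.Agent.SplitTwo.ZS Cfsg.Agent.TitsThree.RankTwoZ Cfsg.Agent.SplitTwo.RootSysZ
open Cfsg.Agent.KFacts.TwF4 Cfsg.Agent.KFacts.TwF4.Arc Cfsg.Agent.KFacts.TwF4.Irr
open Cfsg.Agent.KFacts.TwF4.Inv Cfsg.Agent.KFacts.TwF4.Layers Cfsg.Agent.CpAutTwF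
open Subgroup
open scoped commutatorElement Pointwise

/-- the subgroup of `C` corresponding to a subgroup of `C'` -/
def tr {Γ G : Type*} [Group Γ] [Group G] {C' : Subgroup Γ} {C : Subgroup G} (e : ↥C ≃* ↥C') (A : Subgroup Γ) :
    Subgroup G := (A.subgroupOf C').map (C.subtype.comp e.symm.toMonoidHom)

section tr

variable {Γ G : Type*} [Group Γ] [Group G] {C' : Subgroup Γ} {C : Subgroup G} (e : ↥C ≃* ↥C')

theorem tr_inj : Function.Injective (C.subtype.comp e.symm.toMonoidHom) :=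
  C.subtype_injective.comp e.symm.injective

theorem card_tr {A : Subgroup Γ} (hA : A ≤ C') : Nat.card (tr e A) = Nat.card A := by
  rw [tr, card_map_of_injective (tr_inj e), Nat.card_congr (subgroupOfEquivOfLe hA).toEquiv]

include e in
theorem perfect_of_equiv (h : ⁅C', C'⁆ = C') : ⁅C, C⁆ = C := by
  have h1 : _root_.commutator ↥C' = ⊤ := by
    apply Subgroup.map_injective (subtype_injective C')
    rw [map_subtype_commutator, h, ← MonoidHom.range_eq_map, range_subtype]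
  have h2 : _root_.commutator ↥C = ⊤ := by
    apply Subgroup.map_injective (f := e.toMonoidHom) e.injective
    unfold _root_.commutator
    rw [map_commutator, Subgroup.map_top_of_surjective _ e.surjective]
    exact h1
  rw [← map_subtype_commutator, h2, ← MonoidHom.range_eq_map, range_subtype]

end tr

/-- `C ⊴ C_G(τ)` : conjugation -/
theorem conj_of_normal {G : Type*} [Group G] {C D : Subgroup G} (hle : C ≤ D) (hn : (C.subgroupOf D).Normal) {g c : G}
    (hg : g ∈ D) (hc : c ∈ C) : g * c * g⁻¹ ∈ C :=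
  hn.conj_mem ⟨c, hle hc⟩ hc ⟨g, hg⟩

section

variable {F : Type*} [Field F] [Finite F] {σ : F →+* F} {Γ : Type*} [Group Γ] [Finite Γ] (S' : Full σ Γ)
  {G : Type*} [Group G] [Finite G] {τ : G} {S : Sylow 2 G} {C : Subgroup G}

theorem sit_of (hR : S'.R.p = 2) (hU : ∃ P : Sylow 2 Γ, (P : Subgroup Γ) = J S'.XZ 1 8) (hτ : orderOf τ = 2)
    (hτS : τ ∈ (S : Subgroup G)) (hτc : ∀ s ∈ (S : Subgroup G), s * τ = τ * s)
    (hCle : C ≤ centralizer ({τ} : Set G)) (hCn : (C.subgroupOf (centralizer ({τ} : Set G))).Normal)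
    (hodd : Odd (C.relIndex (centralizer ({τ} : Set G)))) (e : ↥C ≃* ↥S'.PL) :
    Sit τ S C (tr e (S'.Zc 2)) (tr e S'.Q2) (tr e S'.Q1) (tr e S'.Q) where
  toLoc := (loc_PL S' hR hU).transport e
  tt := by rw [← pow_two, ← hτ, pow_orderOf_eq_one]
  t1 := by
    rintro rfl
    rw [orderOf_one] at hτ
    omega
  mem := hτS
  cS := hτc
  C_le := fun c hc => mem_centralizer_singleton_iff.1 (hCle hc)
  C_n := fun g hg c hc => conj_of_normal hCle hCn (mem_centralizer_singleton_iff.2 hg) hc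
  C_odd := hodd
  pc := by
    by_cases hF : ∃ c : Fˣ, c ≠ 1
    · exact Or.inl (perfect_of_equiv e (Perf.PL_perfect S' hF))
    · right
      push Not at hF
      have h01 : ∀ x : F, x = 0 ∨ x = 1 := by
        intro x
        by_cases hx : x = 0
        · exact Or.inl hx
        · exact Or.inr (congrArg Units.val (hF (Units.mk0 x hx)))
      have hle : S'.Zc 2 ≤ S'.PL := by
        rintro _ ⟨u, rfl⟩
        exact Irr.Q_PL S' (Layers.Q2_le_Q S' (S'.q2_3 u))
      rw [card_tr e hle, ← H762.AutPLB.card_F h01]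
      symm
      refine Nat.card_congr (Equiv.ofBijective (fun u => (⟨S'.e 2 0 u, ⟨u, rfl⟩⟩ : S'.Zc 2)) ⟨?_, ?_⟩)
      · intro u v huv
        exact (S'.injE 2 _ _ _ _ (congrArg Subtype.val huv)).2
      · rintro ⟨_, u, rfl⟩
        exact ⟨u, rfl⟩

end

end Cfsg.Agent.H312.Ree
end

-- part: H312/ReeTwo
section
/-!
# S3217, `q = 2`: the local analysis (helper312)

`Sit2` : the situation for `q = 2` (`C = C_G(τ)`, orders).

* `odd_trivial` : an element of odd order of `C` acting trivially on `Q / Q1` is trivial;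
* `le_Q` : a normal subgroup of `C` acting trivially on `Q / Q1` lies in `Q`.
-/

set_option autoImplicit false

namespace Cfsg.Agent.H312.Ree

open Subgroup
open scoped commutatorElement

variable {G : Type*} [Group G]

/-- an element of odd order acting trivially on sections of exponent two -/
theorem odd_step {a x : G} {n : ℕ} (hn : Odd n) (ha : a ^ n = 1) {R T : Subgroup G} (hTR : T ≤ R)
    (hRT : ∀ r ∈ R, ∀ t ∈ T, r * t * r⁻¹ ∈ T) (haR : ∀ r ∈ R, r⁻¹ * (a * r * a⁻¹) ∈ T)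
    (hsq : ∀ r ∈ R, r * r ∈ T) (hx : x⁻¹ * (a * x * a⁻¹) ∈ R) : x⁻¹ * (a * x * a⁻¹) ∈ T := by
  set r := x⁻¹ * (a * x * a⁻¹) with hr
  have key : ∀ k : ℕ, ∃ t ∈ T, a ^ k * x * (a ^ k)⁻¹ = x * (r ^ k * t) := by
    intro k
    induction k with
    | zero => exact ⟨1, T.one_mem, by simp⟩
    | succ k ih =>
      obtain ⟨t, ht, h1⟩ := ih
      have h2 : r ^ k * t ∈ R := R.mul_mem (R.pow_mem hx k) (hTR ht)
      have h3 := haR _ h2
      set s := (r ^ k * t)⁻¹ * (a * (r ^ k * t) * a⁻¹) with hs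
      have hxr : a * x * a⁻¹ = x * r := by rw [hr]; group
      have hsr : a * (r ^ k * t) * a⁻¹ = (r ^ k * t) * s := by rw [hs, mul_inv_cancel_left]
      refine ⟨t * s, T.mul_mem ht h3, ?_⟩
      calc a ^ (k + 1) * x * (a ^ (k + 1))⁻¹ = a * (a ^ k * x * (a ^ k)⁻¹) * a⁻¹ := by
            rw [pow_succ']; group
        _ = (a * x * a⁻¹) * (a * (r ^ k * t) * a⁻¹) := by rw [h1]; group
        _ = x * r * ((r ^ k * t) * s) := by rw [hxr, hsr]
        _ = x * (r ^ (k + 1) * (t * s)) := by rw [pow_succ']; group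
  obtain ⟨t, ht, h1⟩ := key n
  rw [ha, one_mul, inv_one, mul_one] at h1
  have h2 : r ^ n * t = 1 := by
    have h3 : x * (r ^ n * t) = x * 1 := by rw [mul_one]; exact h1.symm
    exact mul_left_cancel h3
  have h3 : r ^ n ∈ T := by
    rw [eq_inv_of_mul_eq_one_left h2]
    exact T.inv_mem ht
  obtain ⟨j, hj⟩ := hn
  rw [hj, pow_succ, pow_mul, pow_two] at h3
  have h4 : (r * r) ^ j ∈ T := T.pow_mem (hsq r hx) j
  have h5 := T.mul_mem (T.inv_mem h4) h3
  rwa [inv_mul_cancel_left] at h5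

/-- the situation for `q = 2` -/
structure Loc2 (C Z Q2 Q1 Q : Subgroup G) : Prop extends Loc C Z Q2 Q1 Q where
  cardZ : Nat.card Z = 2
  cardQ2 : Nat.card Q2 = 2 ^ 5
  cardQ1 : Nat.card Q1 = 2 ^ 6
  cardQ : Nat.card Q = 2 ^ 10
  cardC : Nat.card C = 2 ^ 12 * 5

namespace Loc2

variable {C Z Q2 Q1 Q : Subgroup G} (h : Loc2 C Z Q2 Q1 Q)
include h

theorem comm_eq : ⁅Q, Q⁆ = Q2 := by
  apply le_antisymm h.commQ
  have hn : NB C ⁅Q, Q⁆ := by
    intro c hc x hx
    have key : ⁅Q, Q⁆ ≤ (⁅Q, Q⁆).comap (MulAut.conj c).toMonoidHom := by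
      rw [commutator_le]
      intro x hx y hy
      change (MulAut.conj c) ⁅x, y⁆ ∈ ⁅Q, Q⁆
      rw [map_commutatorElement]
      exact commutator_mem_commutator (h.nQ c hc x hx) (h.nQ c hc y hy)
    exact key hx
  refine h.dich2 h.commQ hn fun h1 => ?_
  have h2 : Q ≤ Q2 := h.second le_rfl h.nQ fun x hx y hy => h1 (commutator_mem_commutator hx hy)
  exact h.ne1 (h.Q1_le.trans h2)

theorem Z_cases [Finite G] {x y : G} (hx : x ∈ Z) (hy : y ∈ Z) (hx1 : x ≠ 1) (hy1 : y ≠ 1) : x = y :=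
  Cfsg.Agent.H316.Red.eq_of_card_le_two h.cardZ.le hx hy hx1 hy1

/-- two elements of `Q1 ∖ Q2` -/
theorem mod_Q2 {x y : G} (hx : x ∈ Q1) (hy : y ∈ Q1) (hx2 : x ∉ Q2) (hy2 : y ∉ Q2) : x⁻¹ * y ∈ Q2 := by
  have h1 : Q2.relIndex Q1 = 2 := by
    have h2 := relIndex_mul_relIndex ⊥ Q2 Q1 bot_le h.Q2_le
    rw [relIndex_bot_left, relIndex_bot_left, h.cardQ2, h.cardQ1] at h2
    omega
  have h2 : (Q2.subgroupOf Q1).index = 2 := h1
  have h3 := (mul_mem_iff_of_index_two h2 (a := (⟨x, hx⟩ : Q1)⁻¹) (b := ⟨y, hy⟩)).2 (by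
    rw [inv_mem_iff]
    exact ⟨fun h4 => absurd h4 hx2, fun h4 => absurd h4 hy2⟩)
  exact h3

/-- **an element of odd order of `C` acting trivially on `Q / Q1` is trivial** -/
theorem odd_trivial {a : G} (haC : a ∈ C) {n : ℕ} (hn : Odd n) (ha : a ^ n = 1)
    (hQ : ∀ x ∈ Q, x⁻¹ * (a * x * a⁻¹) ∈ Q1) : a = 1 := by
  -- `Q / Q2`
  have h1 : ∀ x ∈ Q, x⁻¹ * (a * x * a⁻¹) ∈ Q2 := by
    intro x hx
    refine odd_step hn ha h.Q2_le (fun r hr t ht => h.nQ2 r (h.Q1_le_C hr) t ht) (fun r hr => ?_)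
      (fun r hr => h.Z_le (h.sq1 r hr)) (hQ x hx)
    have har : a * r * a⁻¹ ∈ Q1 := h.nQ1 a haC r hr
    by_cases hr2 : r ∈ Q2
    · exact mul_mem (inv_mem hr2) (h.nQ2 a haC r hr2)
    · refine h.mod_Q2 hr har hr2 fun h3 => hr2 ?_
      have h4 := h.nQ2 a⁻¹ (inv_mem haC) _ h3
      have e : a⁻¹ * (a * r * a⁻¹) * a⁻¹⁻¹ = r := by group
      rwa [e] at h4
  -- `Q2 / Z`
  have h2 : ∀ t ∈ Q2, t⁻¹ * (a * t * a⁻¹) ∈ Z := by
    let W : Subgroup G :=
      { carrier := {t | t ∈ C ∧ t⁻¹ * (a * t * a⁻¹) ∈ Z}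
        one_mem' := ⟨C.one_mem, by simp [Z.one_mem]⟩
        mul_mem' := by
          rintro s t ⟨hs, hs'⟩ ⟨ht, ht'⟩
          refine ⟨C.mul_mem hs ht, ?_⟩
          have e : (s * t)⁻¹ * (a * (s * t) * a⁻¹) = t⁻¹ * (s⁻¹ * (a * s * a⁻¹)) * t * (t⁻¹ * (a * t * a⁻¹)) := by
            group
          rw [e]
          refine Z.mul_mem ?_ ht'
          have h3 := h.nZ t⁻¹ (C.inv_mem ht) _ hs'
          rwa [inv_inv] at h3
        inv_mem' := by
          rintro s ⟨hs, hs'⟩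
          refine ⟨C.inv_mem hs, ?_⟩
          have e : s⁻¹⁻¹ * (a * s⁻¹ * a⁻¹) = (a * s * a⁻¹) * (s⁻¹ * (a * s * a⁻¹))⁻¹ * (a * s * a⁻¹)⁻¹ := by
            group
          rw [e]
          exact h.nZ _ (C.mul_mem (C.mul_mem haC hs) (C.inv_mem haC)) _ (Z.inv_mem hs') }
    have hW : ⁅Q, Q⁆ ≤ W := by
      rw [commutator_le]
      intro x hx y hy
      have hxC := h.Q_le hx
      have hyC := h.Q_le hy
      refine ⟨?_, ?_⟩
      · rw [commutatorElement_def]
        exact C.mul_mem (C.mul_mem (C.mul_mem hxC hyC) (C.inv_mem hxC)) (C.inv_mem hyC)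
      · have ex : a * x * a⁻¹ = x * (x⁻¹ * (a * x * a⁻¹)) := by group
        have ey : a * y * a⁻¹ = y * (y⁻¹ * (a * y * a⁻¹)) := by group
        have e : a * ⁅x, y⁆ * a⁻¹ = ⁅a * x * a⁻¹, a * y * a⁻¹⁆ := by simp only [commutatorElement_def]; group
        rw [e, ex, ey]
        set q := x⁻¹ * (a * x * a⁻¹) with hq
        set q' := y⁻¹ * (a * y * a⁻¹) with hq'
        have hqQ : q ∈ Q2 := h1 x hx
        have hqQ' : q' ∈ Q2 := h1 y hy
        have e1 : ⁅x * q, y * q'⁆ = x * ⁅q, y * q'⁆ * x⁻¹ * ⁅x, y⁆ * (y * ⁅x, q'⁆ * y⁻¹) := by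
          simp only [commutatorElement_def]; group
        rw [e1]
        have z1 : ⁅q, y * q'⁆ ∈ Z := h.comm2 q hqQ _ (Q.mul_mem hy (h.Q2_le_Q hqQ'))
        have z2 : ⁅x, q'⁆ ∈ Z := by
          rw [← commutatorElement_inv]; exact Z.inv_mem (h.comm2 q' hqQ' x hx)
        have z1' := h.nZ x hxC _ z1
        have z2' := h.nZ y hyC _ z2
        have hcC : ⁅x, y⁆ ∈ C := by
          rw [commutatorElement_def]
          exact C.mul_mem (C.mul_mem (C.mul_mem hxC hyC) (C.inv_mem hxC)) (C.inv_mem hyC)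
        have e2 : ⁅x, y⁆⁻¹ * (x * ⁅q, y * q'⁆ * x⁻¹ * ⁅x, y⁆ * (y * ⁅x, q'⁆ * y⁻¹)) =
            (⁅x, y⁆⁻¹ * (x * ⁅q, y * q'⁆ * x⁻¹) * ⁅x, y⁆) * (y * ⁅x, q'⁆ * y⁻¹) := by group
        rw [e2]
        refine Z.mul_mem ?_ z2'
        have h3 := h.nZ ⁅x, y⁆⁻¹ (C.inv_mem hcC) _ z1'
        rwa [inv_inv] at h3
    intro t ht
    rw [← h.comm_eq] at ht
    exact (hW ht).2
  -- `Q2`
  have h3 : ∀ t ∈ Q2, t⁻¹ * (a * t * a⁻¹) ∈ (⊥ : Subgroup G) := by
    intro t ht
    refine odd_step hn ha bot_le (fun r _ t ht => ?_) (fun r hr => ?_) (fun r hr => ?_) (h2 t ht)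
    · rw [mem_bot] at ht ⊢
      rw [ht]; group
    · rw [mem_bot, h.cZ a haC r hr]; group
    · rw [mem_bot]; exact h.sqZ hr
  have h4 : ∀ x ∈ Q, x⁻¹ * (a * x * a⁻¹) ∈ (⊥ : Subgroup G) := by
    intro x hx
    refine odd_step hn ha bot_le (fun r _ t ht => ?_) (fun r hr => h3 r hr) (fun r hr => ?_) (h1 x hx)
    · rw [mem_bot] at ht ⊢
      rw [ht]; group
    · rw [mem_bot]; exact h.sq2 r hr
  have h5 : a ∈ Z := by
    refine h.cent a haC fun y hy => ?_
    have h6 := h4 y hy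
    rw [mem_bot, inv_mul_eq_one] at h6
    rw [eq_mul_inv_iff_mul_eq] at h6
    exact h6.symm
  obtain ⟨j, hj⟩ := hn
  rw [hj, pow_succ, pow_mul, pow_two, h.sqZ h5, one_pow, one_mul] at ha
  exact ha

/-- **a normal subgroup of `C` acting trivially on `Q / Q1` lies in `Q`** -/
theorem le_Q [Finite G] {N : Subgroup G} (hN : N ≤ C) (hn : NB C N) (hQ : ∀ a ∈ N, ∀ x ∈ Q, x⁻¹ * (a * x * a⁻¹) ∈ Q1) :
    N ≤ Q := by
  refine h.O2 N hN hn fun a => ?_
  obtain ⟨e, m, hm, he⟩ := Nat.exists_eq_two_pow_mul_odd (orderOf_pos (a : G)).ne'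
  refine ⟨e, Subtype.ext ?_⟩
  have h1 : ((a : G) ^ 2 ^ e) ^ m = 1 := by rw [← pow_mul, ← he, pow_orderOf_eq_one]
  exact h.odd_trivial (hN (N.pow_mem a.2 _)) hm h1 (hQ _ (N.pow_mem a.2 _))

/-- `Q1` is abelian -/
theorem abel {x y : G} (hx : x ∈ Q1) (hy : y ∈ Q1) : x * y = y * x := by
  by_cases hx2 : x ∈ Q2
  · exact (h.comm1 y hy x hx2).symm
  by_cases hy2 : y ∈ Q2
  · exact h.comm1 x hx y hy2
  have h1 := h.comm1 x hx _ (h.mod_Q2 hx hy hx2 hy2)
  calc x * y = x * (x * (x⁻¹ * y)) := by group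
    _ = x * ((x⁻¹ * y) * x) := by rw [h1]
    _ = y * x := by group

end Loc2

end Cfsg.Agent.H312.Ree
end

private theorem dce_3c4e4c7d26c9 : _root_.True := by
  try have : _root_.True := by simp only [_root_.Cfsg.Agent.H312.Ree.tr.eq_1]
  exact _root_.True.intro
end

-- part: H312/ReeSmall
section
prune_inst 0x1000000000000000000002000000000000000000040008800000000000000000000000000000000000010000100200000001000000000000000000000000000000000000000000000000
set_option linter.all false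
open scoped Cfsg.Agent.FastGrp

-- part: H312/ReeAut
section
/-!
# S3217, `q = 2`: automorphisms of `C_2` and orders (helper312)

* `two_fixed` : an automorphism of odd order of `PL` fixing two Sylow 2-subgroups is trivial;
* `aut_odd` : an automorphism of odd order fixing a Sylow 2-subgroup is trivial;
* `loc2_of` : `Loc2`.
-/

set_option autoImplicit false

namespace Cfsg.Agent.H312.Ree

open Cfsg.Agent.SplitTwo Cfsg.Agent.SplitTwo.ZS Cfsg.Agent.TitsThree.RankTwoZ Cfsg.Agent.SplitTwo.RootSysZ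
open Cfsg.Agent.KFacts.TwF4 Cfsg.Agent.KFacts.TwF4.Arc Cfsg.Agent.KFacts.TwF4.Irr
open Cfsg.Agent.KFacts.TwF4.Inv Cfsg.Agent.KFacts.TwF4.Layers Cfsg.Agent.CpAutTwF Cfsg.Agent.H762.AutPL
  Cfsg.Agent.H762.AutPLB Cfsg.Agent.H762
open Subgroup
open scoped Pointwise commutatorElement

universe u

variable {F : Type*} [Field F] {σ : F →+* F} {G : Type u} [Group G] {S : Full σ G}

section two

variable [Finite F] [Finite G] (h01 : ∀ x : F, x = 0 ∨ x = 1) (hR : S.R.p = 2)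
include h01 hR

theorem exists_P : ∃ P : Sylow 2 ↥S.PL, (P : Subgroup ↥S.PL) = (J S.XZ 1 8).subgroupOf S.PL := by
  have hfact : Fact (Nat.Prime 2) := ⟨Nat.prime_two⟩
  have hUle := PL.U_le S
  have hUp : IsPGroup 2 (J S.XZ 1 8) := isPGroup_J S.zsys8 (two_X S hR) 8 1 8 (by norm_num) (by norm_num)
  have hcU : Nat.card ((J S.XZ 1 8).subgroupOf S.PL) = Nat.card (J S.XZ 1 8) :=
    Nat.card_congr (Subgroup.subgroupOfEquivOfLe hUle).toEquiv
  have hUi : ((J S.XZ 1 8).subgroupOf S.PL).index = 5 := by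
    have h1 := ((J S.XZ 1 8).subgroupOf S.PL).card_mul_index
    rw [card_five h01, hcU] at h1
    exact Nat.eq_of_mul_eq_mul_left Nat.card_pos h1
  have hUp' : IsPGroup 2 ((J S.XZ 1 8).subgroupOf S.PL) := hUp.comap_subtype
  exact ⟨hUp'.toSylow (by rw [hUi]; norm_num), rfl⟩

/-- the number of Sylow subgroups -/
theorem card_syl : Nat.card (Sylow 2 ↥S.PL) = 5 := by
  have hfact : Fact (Nat.Prime 2) := ⟨Nat.prime_two⟩
  obtain ⟨P, hPU⟩ := exists_P h01 hR
  have hUle := PL.U_le S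
  have hcU : Nat.card ((J S.XZ 1 8).subgroupOf S.PL) = Nat.card (J S.XZ 1 8) :=
    Nat.card_congr (Subgroup.subgroupOfEquivOfLe hUle).toEquiv
  have hUi : ((J S.XZ 1 8).subgroupOf S.PL).index = 5 := by
    have h1 := ((J S.XZ 1 8).subgroupOf S.PL).card_mul_index
    rw [card_five h01, hcU] at h1
    exact Nat.eq_of_mul_eq_mul_left Nat.card_pos h1
  have h1 : Nat.card (Sylow 2 ↥S.PL) ∣ 5 := by
    have h := P.card_dvd_index
    rwa [hPU, hUi] at h
  rcases (Nat.dvd_prime (by norm_num)).1 h1 with h2 | h2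
  · exfalso
    have hss : Subsingleton (Sylow 2 ↥S.PL) := (Nat.card_eq_one_iff_unique.1 h2).1
    have h0p : IsPGroup 2 (S.XZ 0) := two_X S hR 0
    obtain ⟨Q', hQ'⟩ := (h0p.comap_subtype (K := S.PL)).exists_le_sylow
    have h3 : Q' = P := Subsingleton.elim _ _
    have h7 : S.e 0 0 1 ∈ S.XZ 0 := (mem_X0 S).2 ⟨0, 1, rfl⟩
    have h8 : (⟨S.e 0 0 1, PL.X0_le S h7⟩ : ↥S.PL) ∈ (Q' : Subgroup ↥S.PL) := hQ' h7
    rw [h3, hPU] at h8
    have h9 : S.e 0 0 1 ∈ J S.XZ 1 8 := h8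
    exact PL.e0_ne S (PL.X0_inf_U S h7 h9)
  · exact h2

/-- an automorphism of odd order fixing two Sylow 2-subgroups -/
theorem two_fixed {δ : MulAut ↥S.PL} {n : ℕ} (hn : Odd n) (hδ : δ ^ n = 1) {A B : Sylow 2 ↥S.PL} (hAB : A ≠ B)
    (hA : δ • A = A) (hB : δ • B = B) : δ = 1 := by
  classical
  have hfact : Fact (Nat.Prime 2) := ⟨Nat.prime_two⟩
  obtain ⟨P, hPU⟩ := exists_P h01 hR
  obtain ⟨g1, hg1⟩ := MulAction.exists_smul_eq ↥S.PL P A
  obtain ⟨g2, hg2⟩ := MulAction.exists_smul_eq ↥S.PL P B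
  obtain ⟨m, hm, h1, h2⟩ := pair_PL S g1.2 g2.2
  rw [BT_eq h01] at h1 h2
  let μ : ↥S.PL := ⟨m, hm⟩
  let ν : ↥S.PL := ⟨S.n2, S.n2_mem⟩
  have hPm : ∀ g : ↥S.PL, g ∈ (P : Subgroup ↥S.PL) ↔ (g : G) ∈ J S.XZ 1 8 := fun g => by rw [hPU, mem_subgroupOf]
  have hself : ∀ {g : ↥S.PL}, (g : G) ∈ J S.XZ 1 8 → g • P = P := by
    intro g hg
    have h3 : g ∈ (P : Subgroup ↥S.PL) := (hPm g).2 hg
    exact Sylow.smul_eq_iff_mem_normalizer.2 (Subgroup.le_normalizer h3)
  have hmA : MulAut.conj μ • A = P := by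
    rw [← Sylow.smul_def, ← hg1, smul_smul]
    exact hself h1
  have hmB : MulAut.conj μ • B = ν • P := by
    rw [← Sylow.smul_def, ← hg2, smul_smul]
    rcases h2 with h2 | ⟨x, hx, h2⟩
    · exfalso
      apply hAB
      have h3 : (μ * g2) • P = P := hself h2
      have h4 : (μ * g1) • P = P := hself h1
      rw [mul_smul, hg2] at h3
      rw [mul_smul, hg1] at h4
      exact MulAction.injective μ (h4.trans h3.symm)
    · have hxP : x ∈ S.PL := X_le_J (by norm_num) (by norm_num) hx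
      have h3 : μ * g2 = ν * ⟨x, hxP⟩ := Subtype.ext h2
      rw [h3, mul_smul, hself (g := ⟨x, hxP⟩) (X_le_J (by norm_num) (by norm_num) hx)]
  let δ' : MulAut ↥S.PL := MulAut.conj μ * δ * (MulAut.conj μ)⁻¹
  have hP : δ' • P = P := by
    show (MulAut.conj μ * δ * (MulAut.conj μ)⁻¹) • P = P
    rw [mul_smul, mul_smul]
    nth_rewrite 1 [← hmA]
    rw [inv_smul_smul, hA, hmA]
  have hνP : δ' • (ν • P) = ν • P := by
    show (MulAut.conj μ * δ * (MulAut.conj μ)⁻¹) • (ν • P) = ν • P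
    rw [mul_smul, mul_smul]
    nth_rewrite 1 [← hmB]
    rw [inv_smul_smul, hB, hmB]
  have hmem : ∀ {R : Sylow 2 ↥S.PL}, δ' • R = R → ∀ {x}, x ∈ (R : Subgroup ↥S.PL) → δ' x ∈ (R : Subgroup ↥S.PL) := by
    intro R hR x hx
    have h3 : δ' • x ∈ δ' • (R : Subgroup ↥S.PL) := Subgroup.smul_mem_pointwise_smul _ _ _ hx
    rw [← Sylow.pointwise_smul_def, hR] at h3
    exact h3
  have hν : ∀ x : ↥S.PL, x ∈ ((ν • P : Sylow 2 ↥S.PL) : Subgroup ↥S.PL) ↔ (x : G) ∈ J S.XZ 0 7 := by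
    intro x
    rw [Sylow.smul_def, Sylow.pointwise_smul_def, Subgroup.mem_pointwise_smul_iff_inv_smul_mem, ← map_inv]
    show (ν⁻¹ * x * ν⁻¹⁻¹ : ↥S.PL) ∈ (P : Subgroup ↥S.PL) ↔ _
    rw [inv_inv, hPm]
    show S.n2⁻¹ * (x : G) * S.n2 ∈ J S.XZ 1 8 ↔ _
    constructor
    · intro h3
      have h4 := S.n2_refl.mem_J h3 (a' := 0) (b' := 7) (by norm_num) (by norm_num)
      have e : S.n2 * (S.n2⁻¹ * (x : G) * S.n2) * S.n2⁻¹ = x := by group
      rwa [e] at h4
    · intro h3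
      exact S.n2_refl.mem_J_inv h3 (by norm_num) (by norm_num)
  have hδ' : δ' = 1 := by
    refine triv' h01 hR hn ?_ ?_ ?_
    · show (MulAut.conj μ * δ * (MulAut.conj μ)⁻¹) ^ n = 1
      rw [conj_pow, hδ, mul_one, mul_inv_cancel]
    · intro x hx
      exact (hPm _).1 (hmem hP ((hPm x).2 hx))
    · intro x hx
      exact (hν _).1 (hmem hνP ((hν x).2 hx))
  have h5 : MulAut.conj μ * δ * (MulAut.conj μ)⁻¹ = 1 := hδ'
  exact conj_eq_one_iff.1 h5

/-- **an automorphism of odd order fixing a Sylow 2-subgroup is trivial** -/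
theorem aut_odd {δ : MulAut ↥S.PL} {n : ℕ} (hn : Odd n) (hδ : δ ^ n = 1) {P : Sylow 2 ↥S.PL} (hP : δ • P = P) :
    δ = 1 := by
  classical
  by_contra hne
  have hpos : 0 < n := hn.pos
  have hfo : IsOfFinOrder δ := isOfFinOrder_iff_pow_eq_one.2 ⟨n, hpos, hδ⟩
  have hodd : Odd (orderOf δ) := hn.of_dvd_nat (orderOf_dvd_of_pow_eq_one hδ)
  have h1 : orderOf δ ≠ 1 := fun h1 => hne (orderOf_eq_one_iff.1 h1)
  obtain ⟨r, hr, hrd⟩ := Nat.exists_prime_and_dvd h1
  have hrodd : Odd r := hodd.of_dvd_nat hrd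
  obtain ⟨j, hj⟩ := hrd
  set ε := δ ^ j with hε
  have hεr : ε ^ r = 1 := by rw [hε, ← pow_mul, mul_comm, ← hj, pow_orderOf_eq_one]
  have hε1 : ε ≠ 1 := by
    intro h2
    have h3 := orderOf_dvd_of_pow_eq_one h2
    have h4 : 0 < orderOf δ := hfo.orderOf_pos
    rw [hj] at h3 h4
    have h5 : 0 < j := Nat.pos_of_ne_zero fun h6 => by rw [h6, mul_zero] at h4; exact lt_irrefl _ h4
    have h6 := Nat.le_of_dvd h5 h3
    have h7 := hr.two_le
    nlinarith only [h5, h6, h7]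
  have hεP : ε • P = P := by
    have : ∀ k : ℕ, (δ ^ k) • P = P := by
      intro k
      induction k with
      | zero => rw [pow_zero, one_smul]
      | succ k ih => rw [pow_succ, mul_smul, hP, ih]
    exact this j
  have hfactr : Fact r.Prime := ⟨hr⟩
  have hit : ∀ (k : ℕ) (A : Sylow 2 ↥S.PL), (fun A : Sylow 2 ↥S.PL => ε • A)^[k] A = (ε ^ k) • A := by
    intro k
    induction k with
    | zero => intro A; simp
    | succ k ih =>
      intro A
      rw [Function.iterate_succ_apply, ih, pow_succ, mul_smul]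
  have h2 := Count.card_fix (X := Sylow 2 ↥S.PL) (p := r) (fun A => ε • A) (by
    intro A
    rw [hit, hεr, one_smul])
  rw [card_syl h01 hR] at h2
  set f := Nat.card {A : Sylow 2 ↥S.PL // ε • A = A} with hf
  have hf5 : f ≤ 5 := by
    rw [← card_syl h01 hR]
    exact Nat.card_le_card_of_injective Subtype.val Subtype.val_injective
  have hf1 : 1 ≤ f := Nat.card_pos_iff.2 ⟨⟨⟨P, hεP⟩⟩, inferInstance⟩
  have hf2 : 2 ≤ f := by
    by_contra hcon
    have hf0 : f = 1 := by omega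
    have h3 : (r : ℤ) ∣ 1 - 5 := by
      have := (Nat.modEq_iff_dvd.1 h2)
      rw [hf0] at this
      exact_mod_cast this
    have h4 : (r : ℤ) ∣ 4 := by
      have := (dvd_neg.2 h3)
      norm_num at this
      exact this
    have h5 : r ∣ 4 := by exact_mod_cast h4
    have h6 : r ∣ 2 ^ 2 := h5
    have h7 := hr.dvd_of_dvd_pow h6
    have h8 := (Nat.prime_dvd_prime_iff_eq hr Nat.prime_two).1 h7
    rw [h8] at hrodd
    exact absurd hrodd (by decide)
  obtain ⟨a, b, hab⟩ := (Finite.one_lt_card_iff_nontrivial.1 (show 1 < Nat.card {A : Sylow 2 ↥S.PL // ε • A = A} from hf2)).exists_pair_ne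
  exact hε1 (two_fixed h01 hR hrodd hεr (fun h => hab (Subtype.ext h)) a.2 b.2)

/-- the same for groups isomorphic to `PL` -/
theorem aut_odd_of {C : Type*} [Group C] (e : C ≃* ↥S.PL) {δ : MulAut C} {n : ℕ} (hn : Odd n) (hδ : δ ^ n = 1)
    {P : Sylow 2 C} (hP : ∀ x ∈ (P : Subgroup C), δ x ∈ (P : Subgroup C)) : δ = 1 := by
  have hfact : Fact (Nat.Prime 2) := ⟨Nat.prime_two⟩
  have hfin : Finite C := Finite.of_equiv _ e.symm.toEquiv
  have h1 : MulAut.congr e δ = 1 := by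
    refine aut_odd h01 hR hn (P := P.mapSurjective (f := e.toMonoidHom) e.surjective) ?_ ?_
    · rw [← map_pow, hδ, map_one]
    · apply Sylow.ext
      rw [Sylow.pointwise_smul_def]
      apply eq_of_le_of_card_ge
      · rintro _ ⟨_, ⟨x, hx, rfl⟩, rfl⟩
        refine ⟨δ x, hP x hx, ?_⟩
        change e (δ x) = e (δ (e.symm (e x)))
        rw [e.symm_apply_apply]
      · exact (card_map_of_injective (MulEquiv.injective (MulAut.congr e δ))).ge
  exact (MulEquiv.map_eq_one_iff _).1 h1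

end two

end Cfsg.Agent.H312.Ree
end

-- part: H312/ReeRho
section
/-!
# S3217, `q = 2`: orders, `C = C_G(τ)` (helper312)

* `loc2_PL` : the orders of the layers of `C_2`;
* `rho_one` : `C = C_G(τ)`.
-/

set_option autoImplicit false

namespace Cfsg.Agent.H312.Ree

open Cfsg.Agent.SplitTwo Cfsg.Agent.SplitTwo.ZS Cfsg.Agent.TitsThree.RankTwoZ Cfsg.Agent.SplitTwo.RootSysZ
open Cfsg.Agent.KFacts.TwF4 Cfsg.Agent.KFacts.TwF4.Arc Cfsg.Agent.KFacts.TwF4.Irr
open Cfsg.Agent.KFacts.TwF4.Inv Cfsg.Agent.KFacts.TwF4.Layers Cfsg.Agent.CpAutTwF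
  Cfsg.Agent.H762.AutPLB Cfsg.Agent.H762
open Subgroup
open scoped Pointwise commutatorElement

universe u

section

variable {F : Type*} [Field F] {σ : F →+* F} {Γ : Type u} [Group Γ] (S' : Full σ Γ)

theorem card_Zc : Nat.card (S'.Zc 2) = Nat.card F := by
  symm
  refine Nat.card_congr (Equiv.ofBijective (fun u => (⟨S'.e 2 0 u, ⟨u, rfl⟩⟩ : S'.Zc 2)) ⟨?_, ?_⟩)
  · intro u v huv
    exact (S'.injE 2 _ _ _ _ (congrArg Subtype.val huv)).2
  · rintro ⟨_, u, rfl⟩
    exact ⟨u, rfl⟩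

theorem card_Q1 : Nat.card S'.Q1 = Nat.card F * Nat.card S'.Q2 := by
  rw [← Nat.card_prod]
  symm
  refine Nat.card_congr (Equiv.ofBijective (fun t : F × S'.Q2 => (⟨S'.e 2 t.1 0 * t.2,
    mul_mem (e_Q1 S' t.1 0) (Irr.Q2_le_Q1 S' t.2.2)⟩ : S'.Q1)) ⟨?_, ?_⟩)
  · rintro ⟨p, b⟩ ⟨p', b'⟩ h
    have h1 : S'.e 2 p 0 * (b : Γ) = S'.e 2 p' 0 * b' := congrArg Subtype.val h
    have h2 : S'.e 2 0 (p * σ p) = S'.e 2 0 (p' * σ p') := by
      rw [← sq_form S' b.2, h1, sq_form S' b'.2]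
    have h3 : p * σ p = p' * σ p' := (S'.injE 2 _ _ _ _ h2).2
    -- `e_2(p) ∈ e_2(p') Q2`
    have h4 : (S'.e 2 p' 0)⁻¹ * S'.e 2 p 0 ∈ S'.Q2 := by
      have e : (S'.e 2 p' 0)⁻¹ * S'.e 2 p 0 = b' * (b : Γ)⁻¹ := by
        rw [inv_mul_eq_iff_eq_mul, ← mul_assoc, ← h1, mul_inv_cancel_right]
      rw [e]
      exact mul_mem b'.2 (inv_mem b.2)
    rw [e_inv, S'.e_mul] at h4
    have h5 := sq_Q2 S' h4
    rw [S'.e_mul, char2 S', char2 S', zero_add] at h5
    have h6 : (p' + p) * σ (p' + p) = 0 := (S'.e_eq_one h5).2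
    have h7 : p' + p = 0 := by
      rcases mul_eq_zero.1 h6 with h8 | h8
      · exact h8
      · exact (map_eq_zero σ).1 h8
    have h8 : p = p' := by
      have h9 : p' + p' = 0 := char2 S' p'
      exact add_left_cancel (h7.trans h9.symm)
    subst h8
    have h9 : (b : Γ) = b' := mul_left_cancel h1
    rw [Subtype.ext h9]
  · rintro ⟨x, hx⟩
    obtain ⟨p, u, b, hb, rfl⟩ := form S' hx
    refine ⟨(p, ⟨S'.e 2 0 u * b, mul_mem (S'.q2_3 u) hb⟩), ?_⟩
    apply Subtype.ext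
    change S'.e 2 p 0 * (S'.e 2 0 u * b) = S'.e 2 p u * b
    rw [← mul_assoc, S'.e_mul, map_zero, mul_zero, add_zero, add_zero, zero_add]

variable {G : Type*} [Group G] [Finite G] {τ : G} {S : Sylow 2 G} {C : Subgroup G}

/-- the orders -/
theorem loc2_of [Finite F] [Finite Γ] (hR : S'.R.p = 2)
    (hU : ∃ P : Sylow 2 Γ, (P : Subgroup Γ) = J S'.XZ 1 8) (h01 : ∀ x : F, x = 0 ∨ x = 1) (e : ↥C ≃* ↥S'.PL) :
    Loc2 C (tr e (S'.Zc 2)) (tr e S'.Q2) (tr e S'.Q1) (tr e S'.Q) where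
  toLoc := (loc_PL S' hR hU).transport e
  cardZ := by
    rw [card_tr e ((loc_PL S' hR hU).Z_le_C), card_Zc, card_F h01]
  cardQ2 := by
    rw [card_tr e ((loc_PL S' hR hU).Q2_le_C), Card.card_Q2 S', card_F h01]
    norm_num
  cardQ1 := by
    rw [card_tr e ((loc_PL S' hR hU).Q1_le_C), card_Q1, Card.card_Q2 S', card_F h01]
    norm_num
  cardQ := by
    rw [card_tr e ((loc_PL S' hR hU).Q_le), PL.card_Q S', card_F h01]
  cardC := by
    rw [Nat.card_congr e.toEquiv, card_five h01, PL.card_U S', card_F h01]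

/-- **`C = C_G(τ)`** -/
theorem rho_one [Finite F] [Finite Γ] (hR : S'.R.p = 2) (hU : ∃ P : Sylow 2 Γ, (P : Subgroup Γ) = J S'.XZ 1 8)
    (h01 : ∀ x : F, x = 0 ∨ x = 1) (hτ : orderOf τ = 2)
    (hτS : τ ∈ (S : Subgroup G)) (hτc : ∀ s ∈ (S : Subgroup G), s * τ = τ * s)
    (hCle : C ≤ centralizer ({τ} : Set G)) (hCn : (C.subgroupOf (centralizer ({τ} : Set G))).Normal)
    (hodd : Odd (C.relIndex (centralizer ({τ} : Set G)))) (e : ↥C ≃* ↥S'.PL)
    (hO : Cfsg.oddCore ↥(centralizer ({τ} : Set G)) = ⊥) : centralizer ({τ} : Set G) ≤ C := by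
  have hfact : Fact (Nat.Prime 2) := ⟨Nat.prime_two⟩
  have h := sit_of S' hR hU hτ hτS hτc hCle hCn hodd e
  have k := loc2_of S' hR hU h01 e
  set H : Subgroup G := centralizer ({τ} : Set G) with hH
  have hHm : ∀ x, x ∈ H ↔ x * τ = τ * x := fun x => mem_centralizer_singleton_iff
  -- the centralizer of `C` in `H`
  set C' : Subgroup H := C.subgroupOf H with hC'
  have hcn : (centralizer (C' : Set H)).Normal := inferInstance
  have hSH : (S : Subgroup G) ≤ H := fun x hx => (hHm x).2 (hτc x hx)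
  have hD : centralizer (C' : Set H) ≤ ((S.subtype hSH : Sylow 2 H) : Subgroup H) := by
    refine le_sylow hO (S.subtype hSH) hcn fun x hx _ t ht => ?_
    have htS : (t : G) ∈ (S : Subgroup G) := ht.1
    have htc : t ∈ centralizer (C' : Set H) := ht.2
    -- `t ∈ Z`
    have htZ : (t : G) ∈ tr e (S'.Zc 2) := by
      refine h.cent t (h.S_le htS) fun y hy => ?_
      have hyC : y ∈ C := h.Q_le hy
      have h1 := mem_centralizer_iff.1 htc ⟨y, hCle hyC⟩ hyC
      exact (congrArg Subtype.val h1).symm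
    by_cases ht1 : t = 1
    · rw [ht1, mul_one, one_mul]
    · have h1 : (t : G) = τ := k.Z_cases htZ h.τZ (fun h2 => ht1 (Subtype.ext h2)) h.t1
      apply Subtype.ext
      change (x : G) * (t : G) = t * x
      rw [h1]
      exact (hHm x).1 x.2
  have hDC : ∀ x ∈ H, (∀ c ∈ C, x * c = c * x) → x ∈ C := by
    intro x hx hxc
    have h1 : (⟨x, hx⟩ : H) ∈ centralizer (C' : Set H) := by
      rw [mem_centralizer_iff]
      intro c hc
      exact Subtype.ext (hxc c hc).symm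
    exact h.S_le (hD h1)
  -- an element of `H`
  have hnH : H ≤ normalizer (C : Set G) := by
    intro g hg
    rw [mem_normalizer_iff]
    intro x
    refine ⟨fun hx => h.C_n g ((hHm g).1 hg) x hx, fun hx => ?_⟩
    have h1 := h.C_n g⁻¹ ((hHm g⁻¹).1 (inv_mem hg)) _ hx
    have e : g⁻¹ * (g * x * g⁻¹) * g⁻¹⁻¹ = x := by group
    rwa [e] at h1
  let act : ∀ x ∈ H, MulAut C := fun x hx => C.normalizerMonoidHom ⟨x, hnH hx⟩
  have hact : ∀ x (hx : x ∈ H) (c : C), ((act x hx c : C) : G) = x * c * x⁻¹ := fun x hx c => rfl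
  -- elements of `H` normalising `S`
  have hNS : ∀ b ∈ H, (∀ s ∈ (S : Subgroup G), b * s * b⁻¹ ∈ (S : Subgroup G)) → b ∈ C := by
    intro b hb hbS
    obtain ⟨j, m, hm, hj⟩ := Nat.exists_eq_two_pow_mul_odd (orderOf_pos b).ne'
    have hb2 : (b ^ m) ^ 2 ^ j = 1 := by rw [← pow_mul, mul_comm, ← hj, pow_orderOf_eq_one]
    have hb3 : (b ^ 2 ^ j) ^ m = 1 := by rw [← pow_mul, ← hj, pow_orderOf_eq_one]
    have hbm : b ^ m ∈ C := h.mem_C ((hHm _).1 (H.pow_mem hb m)) hb2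
    have hbj : b ^ 2 ^ j ∈ C := by
      have hbjH : b ^ 2 ^ j ∈ H := H.pow_mem hb _
      have hbjS : ∀ i : ℕ, ∀ s ∈ (S : Subgroup G), b ^ i * s * (b ^ i)⁻¹ ∈ (S : Subgroup G) := by
        intro i
        induction i with
        | zero => intro s hs; simpa using hs
        | succ i ih =>
          intro s hs
          have h1 := hbS _ (ih s hs)
          have e : b * (b ^ i * s * (b ^ i)⁻¹) * b⁻¹ = b ^ (i + 1) * s * (b ^ (i + 1))⁻¹ := by
            rw [pow_succ']; group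
          rwa [e] at h1
      have h1 : act _ hbjH = 1 := by
        refine aut_odd_of h01 hR e hm ?_ (P := S.subtype h.S_le) ?_
        · change (C.normalizerMonoidHom ⟨b ^ 2 ^ j, hnH hbjH⟩) ^ m = 1
          rw [← map_pow]
          have e1 : (⟨b ^ 2 ^ j, hnH hbjH⟩ : ↥(normalizer (C : Set G))) ^ m = 1 := Subtype.ext hb3
          rw [e1, map_one]
        · intro x hx
          exact hbjS _ x hx
      refine hDC _ hbjH fun c hc => ?_
      have h2 := hact _ hbjH ⟨c, hc⟩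
      rw [h1] at h2
      have h3 : c = b ^ 2 ^ j * c * (b ^ 2 ^ j)⁻¹ := h2
      rw [eq_mul_inv_iff_mul_eq] at h3
      exact h3.symm
    have hcop : Nat.Coprime (2 ^ j) m := Nat.Coprime.pow_left _ (Nat.coprime_two_left.2 hm)
    have h1 := Nat.gcd_eq_gcd_ab (2 ^ j) m
    rw [hcop.gcd_eq_one] at h1
    have h2 : b = (b ^ 2 ^ j) ^ (Nat.gcdA (2 ^ j) m) * (b ^ m) ^ (Nat.gcdB (2 ^ j) m) := by
      rw [← zpow_natCast b (2 ^ j), ← zpow_natCast b m, ← zpow_mul, ← zpow_mul, ← zpow_add, ← h1]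
      simp
    rw [h2]
    exact C.mul_mem (C.zpow_mem hbj _) (C.zpow_mem hbm _)
  intro x hx
  -- `x S x⁻¹` is a Sylow subgroup of `C`
  let P : Sylow 2 C := S.subtype h.S_le
  obtain ⟨c, hc⟩ := MulAction.exists_smul_eq C P (act x hx • P)
  have hP : ∀ y : C, y ∈ (P : Subgroup C) ↔ (y : G) ∈ (S : Subgroup G) := fun y => Iff.rfl
  have h1 : (c : G)⁻¹ * x ∈ C := by
    refine hNS _ (H.mul_mem (H.inv_mem (hCle c.2)) hx) fun s hs => ?_
    have hsC := h.S_le hs
    have h2 : act x hx • (⟨s, hsC⟩ : C) ∈ ((act x hx • P : Sylow 2 C) : Subgroup C) := by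
      rw [Sylow.pointwise_smul_def]
      exact Subgroup.smul_mem_pointwise_smul _ _ _ hs
    rw [← hc, Sylow.smul_def, Sylow.pointwise_smul_def, Subgroup.mem_pointwise_smul_iff_inv_smul_mem, ← map_inv] at h2
    have h3 : (c : G)⁻¹ * (x * s * x⁻¹) * (c : G)⁻¹⁻¹ ∈ (S : Subgroup G) := h2
    have e : (c : G)⁻¹ * (x * s * x⁻¹) * (c : G)⁻¹⁻¹ = (c : G)⁻¹ * x * s * ((c : G)⁻¹ * x)⁻¹ := by group
    rwa [e] at h3
  have h2 := C.mul_mem c.2 h1
  rwa [mul_inv_cancel_left] at h2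

end

end Cfsg.Agent.H312.Ree
end

-- part: H312/ReeCount
section
/-!
# S3217, `q = 2`: the Sylow 2-subgroup of `M` is not in `Q1` (helper312)

* `count` : the counting argument;
* `Sit.not_small` : `M ∩ Q` is not contained in `Q1`.
-/

set_option autoImplicit false

namespace Cfsg.Agent.H312.Ree

open Subgroup
open scoped commutatorElement

variable {G : Type*} [Group G] [Finite G]

/-- **the counting argument** -/
theorem count {N Q Q1 Q2 : Subgroup G} {τ : G} (hQ2N : Q2 ≤ N) (hodd : Odd (Q2.relIndex N))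
    (hcent : ∀ n ∈ N, n * τ = τ * n ↔ n ∈ Q2) (hNQ2 : ∀ n ∈ N, ∀ t ∈ Q2, n * t * n⁻¹ ∈ Q2)
    (hQN : ∀ x ∈ Q, ∀ n ∈ N, x * n * x⁻¹ ∈ N) (hQτ : ∀ x ∈ Q, x * τ = τ * x)
    (hQ2 : ∀ x ∈ Q, ∀ t ∈ Q2, x * t * x⁻¹ ∈ Q2)
    (hfix : ∀ x ∈ Q, (∀ n ∈ N, x * (n * τ * n⁻¹) = (n * τ * n⁻¹) * x) → x ∈ Q1)
    (hhalf : ∀ n ∈ N, n ∉ Q2 → 2 * Nat.card (Q ⊓ centralizer {n * τ * n⁻¹} : Subgroup G) = Nat.card Q)
    (hQ1 : 4 * Nat.card Q1 ≤ Nat.card Q) (hQ1Q : Q1 ≤ Q) : False := by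
  classical
  have hfQ : Fintype Q := Fintype.ofFinite _
  have hfN : Fintype N := Fintype.ofFinite _
  let r : Q → N → Prop := fun x n => (x : G) * (n * τ * (n : G)⁻¹) = (n * τ * (n : G)⁻¹) * x
  have hdc := Finset.sum_card_bipartiteAbove_eq_sum_card_bipartiteBelow (s := (Finset.univ : Finset Q))
    (t := (Finset.univ : Finset N)) r
  -- by `n`
  have hn1 : ∀ n : N, (n : G) ∈ Q2 → ((Finset.univ : Finset Q).bipartiteBelow r n).card = Nat.card Q := by
    intro n hn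
    have h1 : (Finset.univ : Finset Q).bipartiteBelow r n = Finset.univ := by
      ext x
      simp only [Finset.mem_bipartiteBelow, Finset.mem_univ, true_and, iff_true]
      have h2 : (n : G) * τ * (n : G)⁻¹ = τ := by
        rw [(hcent n n.2).2 hn, mul_inv_cancel_right]
      change (x : G) * (n * τ * (n : G)⁻¹) = (n * τ * (n : G)⁻¹) * x
      rw [h2]
      exact hQτ x x.2
    rw [h1, Finset.card_univ, Nat.card_eq_fintype_card]
  have hn2 : ∀ n : N, (n : G) ∉ Q2 → 2 * ((Finset.univ : Finset Q).bipartiteBelow r n).card = Nat.card Q := by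
    intro n hn
    rw [← hhalf n n.2 hn]
    congr 1
    rw [← Fintype.card_coe, ← Nat.card_eq_fintype_card]
    refine Nat.card_congr ⟨fun x => ⟨(x.1 : G), x.1.2, ?_⟩, fun x => ⟨⟨x.1, x.2.1⟩, ?_⟩, fun x => rfl, fun x => rfl⟩
    · have h1 := (Finset.mem_bipartiteBelow r).1 x.2
      exact mem_centralizer_singleton_iff.2 h1.2
    · rw [Finset.mem_bipartiteBelow]
      exact ⟨Finset.mem_univ _, mem_centralizer_singleton_iff.1 x.2.2⟩
  -- by `x`
  let Nx : Q → Subgroup G := fun x =>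
    { carrier := {n | n ∈ N ∧ n⁻¹ * ((x : G) * n * (x : G)⁻¹) ∈ Q2}
      one_mem' := ⟨N.one_mem, by simp [Q2.one_mem]⟩
      mul_mem' := by
        rintro a b ⟨ha, ha'⟩ ⟨hb, hb'⟩
        refine ⟨N.mul_mem ha hb, ?_⟩
        have e : (a * b)⁻¹ * ((x : G) * (a * b) * (x : G)⁻¹) =
            b⁻¹ * (a⁻¹ * ((x : G) * a * (x : G)⁻¹)) * b⁻¹⁻¹ * (b⁻¹ * ((x : G) * b * (x : G)⁻¹)) := by group
        rw [e]
        exact Q2.mul_mem (hNQ2 _ (N.inv_mem hb) _ ha') hb'
      inv_mem' := by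
        rintro a ⟨ha, ha'⟩
        refine ⟨N.inv_mem ha, ?_⟩
        have e : a⁻¹⁻¹ * ((x : G) * a⁻¹ * (x : G)⁻¹) = a * (a⁻¹ * ((x : G) * a * (x : G)⁻¹))⁻¹ * a⁻¹ := by group
        rw [e]
        exact hNQ2 a ha _ (Q2.inv_mem ha') }
  have hNx : ∀ (x : Q) (n : N), r x n ↔ (n : G) ∈ Nx x := by
    intro x n
    have hy : (n : G)⁻¹ * ((x : G) * n * (x : G)⁻¹) ∈ N := N.mul_mem (N.inv_mem n.2) (hQN x x.2 n n.2)
    have h1 := hcent _ hy
    have hx := hQτ x x.2
    have hx' : (x : G)⁻¹ * τ = τ * (x : G)⁻¹ := (show Commute (x : G) τ from hx).inv_left.eq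
    constructor
    · intro h2
      refine ⟨n.2, h1.1 ?_⟩
      change (x : G) * (n * τ * (n : G)⁻¹) = (n * τ * (n : G)⁻¹) * x at h2
      calc (n : G)⁻¹ * ((x : G) * n * (x : G)⁻¹) * τ = (n : G)⁻¹ * (x : G) * n * ((x : G)⁻¹ * τ) := by group
        _ = (n : G)⁻¹ * ((x : G) * (n * τ * (n : G)⁻¹)) * n * (x : G)⁻¹ := by rw [hx']; group
        _ = τ * ((n : G)⁻¹ * ((x : G) * n * (x : G)⁻¹)) := by rw [h2]; group
    · rintro ⟨-, h2⟩
      have h3 := h1.2 h2
      change (x : G) * (n * τ * (n : G)⁻¹) = (n * τ * (n : G)⁻¹) * x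
      calc (x : G) * (n * τ * (n : G)⁻¹) = n * ((n : G)⁻¹ * ((x : G) * n * (x : G)⁻¹)) * (x * τ) * (n : G)⁻¹ := by group
        _ = n * ((n : G)⁻¹ * ((x : G) * n * (x : G)⁻¹) * τ) * x * (n : G)⁻¹ := by rw [hx]; group
        _ = (n * τ * (n : G)⁻¹) * x := by rw [h3]; group
  have hcx : ∀ x : Q, ((Finset.univ : Finset N).bipartiteAbove r x).card = Nat.card (Nx x) := by
    intro x
    rw [← Fintype.card_coe, ← Nat.card_eq_fintype_card]
    refine Nat.card_congr ⟨fun n => ⟨(n.1 : G), (hNx x n.1).1 ((Finset.mem_bipartiteAbove r).1 n.2).2⟩,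
      fun n => ⟨⟨n.1, n.2.1⟩, ?_⟩, fun x => rfl, fun x => rfl⟩
    rw [Finset.mem_bipartiteAbove]
    exact ⟨Finset.mem_univ _, (hNx x ⟨n.1, n.2.1⟩).2 n.2⟩
  have hle : ∀ x : Q, Nx x ≤ N := fun x n hn => hn.1
  have hQ2x : ∀ x : Q, Q2 ≤ Nx x := by
    intro x t ht
    exact ⟨hQ2N ht, Q2.mul_mem (Q2.inv_mem ht) (hQ2 x x.2 t ht)⟩
  have hx2 : ∀ x : Q, (x : G) ∉ Q1 → 3 * Nat.card (Nx x) ≤ Nat.card N := by
    intro x hx
    have h1 := relIndex_mul_relIndex ⊥ (Nx x) N bot_le (hle x)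
    rw [relIndex_bot_left, relIndex_bot_left] at h1
    have h2 : Odd ((Nx x).relIndex N) := by
      have h3 := relIndex_mul_relIndex Q2 (Nx x) N (hQ2x x) (hle x)
      exact hodd.of_dvd_nat (Dvd.intro_left _ h3)
    have h3 : (Nx x).relIndex N ≠ 1 := by
      intro h4
      apply hx
      refine hfix x x.2 fun n hn => ?_
      exact (hNx x ⟨n, hn⟩).2 (relIndex_eq_one.1 h4 hn)
    have h4 : 3 ≤ (Nx x).relIndex N := by
      obtain ⟨k, hk⟩ := h2
      omega
    calc 3 * Nat.card (Nx x) = Nat.card (Nx x) * 3 := mul_comm _ _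
      _ ≤ Nat.card (Nx x) * (Nx x).relIndex N := Nat.mul_le_mul_left _ h4
      _ = Nat.card N := h1
  have hx1 : ∀ x : Q, Nat.card (Nx x) ≤ Nat.card N := fun x =>
    Nat.le_of_dvd Nat.card_pos (card_dvd_of_le (hle x))
  -- the sums
  set A := ∑ n : N, ((Finset.univ : Finset Q).bipartiteBelow r n).card with hA
  have hcardQ2 : (Finset.univ.filter fun n : N => (n : G) ∈ Q2).card = Nat.card Q2 := by
    rw [← Fintype.card_coe, ← Nat.card_eq_fintype_card]
    refine Nat.card_congr ⟨fun n => ⟨(n.1 : G), (Finset.mem_filter.1 n.2).2⟩, fun t => ⟨⟨t.1, hQ2N t.2⟩, ?_⟩,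
      fun x => rfl, fun x => rfl⟩
    rw [Finset.mem_filter]
    exact ⟨Finset.mem_univ _, t.2⟩
  have hcardQ1 : (Finset.univ.filter fun x : Q => (x : G) ∈ Q1).card = Nat.card Q1 := by
    rw [← Fintype.card_coe, ← Nat.card_eq_fintype_card]
    refine Nat.card_congr ⟨fun n => ⟨(n.1 : G), (Finset.mem_filter.1 n.2).2⟩, fun t => ⟨⟨t.1, hQ1Q t.2⟩, ?_⟩,
      fun x => rfl, fun x => rfl⟩
    rw [Finset.mem_filter]
    exact ⟨Finset.mem_univ _, t.2⟩
  have hN1 : (Finset.univ.filter fun n : N => (n : G) ∈ Q2).card +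
      (Finset.univ.filter fun n : N => ¬ (n : G) ∈ Q2).card = Nat.card N := by
    rw [Finset.card_filter_add_card_filter_not, Finset.card_univ, Nat.card_eq_fintype_card]
  have hQ1' : (Finset.univ.filter fun x : Q => (x : G) ∈ Q1).card +
      (Finset.univ.filter fun x : Q => ¬ (x : G) ∈ Q1).card = Nat.card Q := by
    rw [Finset.card_filter_add_card_filter_not, Finset.card_univ, Nat.card_eq_fintype_card]
  have e1 : 2 * A = 2 * (Nat.card Q2 * Nat.card Q) +
      (Finset.univ.filter fun n : N => ¬ (n : G) ∈ Q2).card * Nat.card Q := by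
    rw [hA, ← Finset.sum_filter_add_sum_filter_not Finset.univ (fun n : N => (n : G) ∈ Q2), mul_add]
    congr 1
    · rw [Finset.sum_congr rfl (fun n hn => hn1 n (Finset.mem_filter.1 hn).2), Finset.sum_const, hcardQ2, smul_eq_mul]
    · rw [Finset.mul_sum, Finset.sum_congr rfl (fun n hn => hn2 n (Finset.mem_filter.1 hn).2), Finset.sum_const,
        smul_eq_mul]
  have e2 : 3 * A ≤ 3 * (Nat.card Q1 * Nat.card N) +
      (Finset.univ.filter fun x : Q => ¬ (x : G) ∈ Q1).card * Nat.card N := by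
    rw [← hdc, ← Finset.sum_filter_add_sum_filter_not Finset.univ (fun x : Q => (x : G) ∈ Q1), mul_add]
    refine add_le_add ?_ ?_
    · refine Nat.mul_le_mul_left _ ?_
      rw [← hcardQ1, ← smul_eq_mul, ← Finset.sum_const]
      exact Finset.sum_le_sum fun x _ => by rw [hcx]; exact hx1 x
    · rw [Finset.mul_sum, ← smul_eq_mul, ← Finset.sum_const]
      exact Finset.sum_le_sum fun x hx => by rw [hcx]; exact hx2 x (Finset.mem_filter.1 hx).2
  rw [hcardQ2] at hN1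
  rw [hcardQ1] at hQ1'
  set a := (Finset.univ.filter fun n : N => ¬ (n : G) ∈ Q2).card
  set b := (Finset.univ.filter fun x : Q => ¬ (x : G) ∈ Q1).card
  have hp1 : 0 < Nat.card Q := Nat.card_pos
  have hp2 : 0 < Nat.card N := Nat.card_pos
  have hp3 : 0 < Nat.card Q2 := Nat.card_pos
  have hQQ : Nat.card Q2 * Nat.card Q > 0 := Nat.mul_pos hp3 hp1
  -- `6 A = 3 |Q| (|N| + |Q2|)`, `6 A ≤ |N| (2 |Q| + 4 |Q1|)`
  have f1 : 6 * A = 3 * (Nat.card Q * Nat.card N) + 3 * (Nat.card Q2 * Nat.card Q) := by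
    have : 6 * A = 3 * (2 * A) := by ring
    rw [this, e1, ← hN1]; ring
  have f2 : 6 * A ≤ 2 * (Nat.card Q * Nat.card N) + 4 * (Nat.card Q1 * Nat.card N) := by
    have : 6 * A = 2 * (3 * A) := by ring
    rw [this]
    refine (Nat.mul_le_mul_left 2 e2).trans (le_of_eq ?_)
    rw [← hQ1']; ring
  have f3 : 4 * (Nat.card Q1 * Nat.card N) ≤ Nat.card Q * Nat.card N := by
    rw [← mul_assoc]
    exact Nat.mul_le_mul_right _ hQ1
  omega

omit [Finite G] in
theorem Loc2.half {C Z Q2 Q1 Q : Subgroup G} [Finite G] (k : Loc2 C Z Q2 Q1 Q) {y : G} (hy : y ∈ Q2) (hyZ : y ∉ Z) :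
    2 * Nat.card (Q ⊓ centralizer {y} : Subgroup G) = Nat.card Q := by
  have hex : ∃ g ∈ Q, g * y ≠ y * g := by
    by_contra hcon
    push Not at hcon
    exact hyZ (k.cent y (k.Q2_le_C hy) fun x hx => (hcon x hx).symm)
  obtain ⟨g, hg, hgy⟩ := hex
  have hne : ∀ x ∈ Q, x * y ≠ y * x → ⁅x, y⁆ = ⁅g, y⁆ := by
    intro x hx hxy
    have hz : ∀ x ∈ Q, ⁅x, y⁆ ∈ Z := fun x hx => by
      rw [← commutatorElement_inv]; exact Z.inv_mem (k.comm2 y hy x hx)
    refine k.Z_cases (hz x hx) (hz g hg) (fun h1 => hxy ?_) (fun h1 => hgy ?_)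
    · exact commutatorElement_eq_one_iff_mul_comm.1 h1
    · exact commutatorElement_eq_one_iff_mul_comm.1 h1
  have hi : ((Q ⊓ centralizer {y} : Subgroup G).subgroupOf Q).index = 2 := by
    rw [index_eq_two_iff]
    refine ⟨⟨g, hg⟩, fun b => ?_⟩
    have hmem : ∀ x : Q, x ∈ (Q ⊓ centralizer {y} : Subgroup G).subgroupOf Q ↔ (x : G) * y = y * x := by
      intro x
      rw [mem_subgroupOf, mem_inf, mem_centralizer_singleton_iff]
      exact ⟨fun h1 => h1.2, fun h1 => ⟨x.2, h1⟩⟩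
    rw [hmem, hmem]
    change Xor ((b : G) * g * y = y * (b * g)) ((b : G) * y = y * b)
    by_cases hb : (b : G) * y = y * b
    · right
      refine ⟨hb, fun h1 => hgy ?_⟩
      have h2 : (b : G) * (g * y) = b * (y * g) := by
        calc (b : G) * (g * y) = y * (b * g) := by rw [← mul_assoc]; exact h1
          _ = (b * y) * g := by rw [hb, mul_assoc]
          _ = b * (y * g) := by rw [mul_assoc]
      exact mul_left_cancel h2
    · left
      refine ⟨?_, hb⟩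
      have h1 := hne b b.2 hb
      have hginv : ⁅g, y⁆ ∈ Z := by
        rw [← commutatorElement_inv]; exact Z.inv_mem (k.comm2 y hy g hg)
      have hsq := k.sqZ hginv
      have e1 : (b : G) * y = ⁅g, y⁆ * y * b := by
        rw [← h1, commutatorElement_def]; group
      have e2 : g * y = ⁅g, y⁆ * y * g := by rw [commutatorElement_def]; group
      have e3 : (b : G) * ⁅g, y⁆ = ⁅g, y⁆ * b := k.cZ b (k.Q_le b.2) _ hginv
      calc (b : G) * g * y = b * (g * y) := by group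
        _ = (b * ⁅g, y⁆) * y * g := by rw [e2]; group
        _ = ⁅g, y⁆ * (b * y) * g := by rw [e3]; group
        _ = (⁅g, y⁆ * ⁅g, y⁆) * y * b * g := by rw [e1]; group
        _ = y * (b * g) := by rw [hsq]; group
  have h1 := relIndex_mul_relIndex ⊥ (Q ⊓ centralizer {y} : Subgroup G) Q bot_le inf_le_left
  rw [relIndex_bot_left, relIndex_bot_left] at h1
  have h2 : (Q ⊓ centralizer {y} : Subgroup G).relIndex Q = 2 := hi
  rw [h2] at h1
  rw [← h1, mul_comm]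

namespace Sit

variable {τ : G} {S : Sylow 2 G} {C Z Q2 Q1 Q : Subgroup G} (h : Sit τ S C Z Q2 Q1 Q) (k : Loc2 C Z Q2 Q1 Q)
include h

theorem Q_le_S : Q ≤ (S : Subgroup G) := by
  have hn : (S : Subgroup G) ≤ normalizer (Q : Set G) := by
    intro s hs
    rw [mem_normalizer_iff]
    intro x
    refine ⟨fun hx => h.nQ s (h.S_le hs) x hx, fun hx => ?_⟩
    have h1 := h.nQ s⁻¹ (inv_mem (h.S_le hs)) _ hx
    have e : s⁻¹ * (s * x * s⁻¹) * s⁻¹⁻¹ = x := by group
    rwa [e] at h1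
  have h1 : IsPGroup 2 ((S : Subgroup G) ⊔ Q : Subgroup G) :=
    IsPGroup.to_sup_of_normal_right' S.isPGroup' h.two hn
  have h2 : ((S : Subgroup G) ⊔ Q : Subgroup G) = S := S.3 h1 le_sup_left
  rw [← h2]
  exact le_sup_right

include k

/-- **`M ∩ Q` is not contained in `Q1`** -/
theorem not_small (hC : ∀ g, g * τ = τ * g → g ∈ C) (hO : Cfsg.oddCore G = ⊥) (h2 : Cfsg.pCore 2 G = ⊥)
    {M : Subgroup G} (hM : M.Normal) (hQM : Q2 ≤ M) : ¬ M ⊓ Q ≤ Q1 := by
  intro hD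
  have hfact : Fact (Nat.Prime 2) := ⟨Nat.prime_two⟩
  have hτM : τ ∈ M := hQM (h.Z_le h.τZ)
  have hnS : ¬ M ≤ (S : Subgroup G) := by
    intro h3
    have h4 := Cfsg.Agent.Lib.Cores.le_pCore hM (S.isPGroup'.to_le h3)
    rw [h2, le_bot_iff] at h4
    rw [h4, mem_bot] at hτM
    exact h.t1 hτM
  have hCM : C ⊓ M ≤ Q := by
    refine k.le_Q inf_le_left ?_ ?_
    · intro c hc x hx
      exact ⟨C.mul_mem (C.mul_mem hc hx.1) (C.inv_mem hc), hM.conj_mem x hx.2 c⟩
    · intro a ha x hx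
      refine hD (mem_inf.2 ⟨?_, Q.mul_mem (Q.inv_mem hx) (h.nQ a ha.1 x hx)⟩)
      have h3 := hM.conj_mem a ha.2 x⁻¹
      have e : x⁻¹ * (a * x * a⁻¹) = (x⁻¹ * a * x⁻¹⁻¹) * a⁻¹ := by group
      rw [e]
      exact M.mul_mem h3 (M.inv_mem ha.2)
  have hCM1 : ∀ x ∈ M, x * τ = τ * x → x ∈ M ⊓ Q := fun x hx hxτ => mem_inf.2 ⟨hx, hCM ⟨hC x hxτ, hx⟩⟩
  have hT : (S : Subgroup G) ⊓ M = M ⊓ Q := by
    apply le_antisymm
    · intro x hx
      exact hCM1 x hx.2 (h.cS x hx.1)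
    · intro x hx
      exact ⟨h.Q_le_S hx.2, hx.1⟩
  by_cases hex : ∃ x ∈ M ⊓ Q, x ∉ Q2
  · -- `T = Q1`
    obtain ⟨x, hx, hx2⟩ := hex
    apply hnS
    refine le_sylow hO S hM fun g hg hgT t ht => ?_
    rw [hT] at hgT ht
    have hsq : ∀ y ∈ M ⊓ Q, y ∉ Q2 → y * y = τ := by
      intro y hy hy2
      refine k.Z_cases (h.sq1 y (hD hy)) h.τZ (fun h3 => hy2 (h.sq1' y (hD hy) h3)) h.t1
    have hgx := hgT x hx
    have hgτ : g * τ * g⁻¹ = τ := by
      have h3 := hsq x hx hx2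
      have h4 : (g * x * g⁻¹) * (g * x * g⁻¹) = g * τ * g⁻¹ := by rw [← h3]; group
      have h5 : g * x * g⁻¹ ∉ Q2 := by
        intro h6
        have h7 := h.sq2 _ h6
        rw [h4] at h7
        apply h.t1
        have e : τ = g⁻¹ * (g * τ * g⁻¹) * g := by group
        rw [e, h7]; group
      rw [← h4]
      exact hsq _ hgx h5
    have hgD := hCM1 g hg (mul_inv_eq_iff_eq_mul.1 hgτ)
    exact k.abel (hD hgD) (hD ht)
  · -- `T = Q2`
    push Not at hex
    have hD2 : M ⊓ Q = Q2 := le_antisymm (fun x hx => hex x hx) (le_inf hQM h.Q2_le_Q)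
    let N : Subgroup G :=
      { carrier := {g | g ∈ M ∧ ∀ t ∈ Q2, g * t * g⁻¹ ∈ Q2}
        one_mem' := ⟨M.one_mem, fun t ht => by simpa using ht⟩
        mul_mem' := by
          rintro a b ⟨ha, ha'⟩ ⟨hb, hb'⟩
          refine ⟨M.mul_mem ha hb, fun t ht => ?_⟩
          have h3 := ha' _ (hb' t ht)
          have e : a * (b * t * b⁻¹) * a⁻¹ = a * b * t * (a * b)⁻¹ := by group
          rwa [e] at h3
        inv_mem' := by
          rintro a ⟨ha, ha'⟩
          refine ⟨M.inv_mem ha, fun t ht => ?_⟩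
          have hmap : Q2.map (MulAut.conj a).toMonoidHom = Q2 := by
            apply eq_of_le_of_card_ge
            · rintro _ ⟨t, ht, rfl⟩
              exact ha' t ht
            · rw [card_map_of_injective (MulAut.conj a).injective]
          rw [← hmap] at ht
          obtain ⟨s, hs, rfl⟩ := ht
          have e : a⁻¹ * ((MulAut.conj a).toMonoidHom s) * a⁻¹⁻¹ = s := by
            change a⁻¹ * (a * s * a⁻¹) * a⁻¹⁻¹ = s
            group
          rw [e]; exact hs }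
    have hQ2N : Q2 ≤ N := fun t ht => ⟨hQM ht, fun s hs => Q2.mul_mem (Q2.mul_mem ht hs) (Q2.inv_mem ht)⟩
    have hCN : ∀ x ∈ C, ∀ n ∈ N, x * n * x⁻¹ ∈ N := by
      rintro x hx n ⟨hn, hn'⟩
      refine ⟨hM.conj_mem n hn x, fun t ht => ?_⟩
      have h3 := h.nQ2 x⁻¹ (C.inv_mem hx) t ht
      have h4 := h.nQ2 x hx _ (hn' _ h3)
      have e : x * (n * (x⁻¹ * t * x⁻¹⁻¹) * n⁻¹) * x⁻¹ = x * n * x⁻¹ * t * (x * n * x⁻¹)⁻¹ := by group
      rwa [e] at h4
    have hcent : ∀ n ∈ N, n * τ = τ * n ↔ n ∈ Q2 := by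
      intro n hn
      refine ⟨fun h3 => ?_, fun h3 => (h.comm1 n (h.Q2_le h3) τ (h.Z_le h.τZ))⟩
      rw [← hD2]
      exact hCM1 n hn.1 h3
    have hτ2 : τ ∈ Q2 := h.Z_le h.τZ
    have hodd : Odd (Q2.relIndex N) := by
      rw [← Nat.not_even_iff_odd, even_iff_two_dvd]
      intro h3
      have h4 := Cfsg.Agent.Lib.SylowNormalInf.not_dvd_relIndex S M
      have h5 : Q2.relIndex M = (S : Subgroup G).relIndex M := by
        rw [← inf_relIndex_right (S : Subgroup G) M, hT, hD2]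
      rw [← h5] at h4
      exact h4 (h3.trans (Dvd.intro _ (relIndex_mul_relIndex Q2 N M hQ2N (fun x hx => hx.1))))
    refine count hQ2N hodd hcent (fun n hn t ht => hn.2 t ht) (fun x hx => hCN x (h.Q_le hx))
      (fun x hx => h.C_le x (h.Q_le hx)) (fun x hx t ht => h.nQ2 x (h.Q_le hx) t ht) ?_ ?_ ?_ h.Q1_le
    · -- the conjugates of `τ` generate `Q2`
      intro x hx hxn
      set E : Subgroup G := closure {y | ∃ n ∈ N, y = n * τ * n⁻¹} with hE
      have hE2 : E ≤ Q2 := by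
        rw [hE, closure_le]
        rintro _ ⟨n, hn, rfl⟩
        exact hn.2 τ hτ2
      have hEn : NB C E := by
        intro c hc y hy
        have key : E ≤ E.comap (MulAut.conj c).toMonoidHom := by
          rw [hE, closure_le]
          rintro _ ⟨n, hn, rfl⟩
          refine subset_closure ⟨c * n * c⁻¹, hCN c hc n hn, ?_⟩
          change c * (n * τ * n⁻¹) * c⁻¹ = _
          have h3 := h.C_le c hc
          have h4 : c⁻¹ * τ * c = τ := by rw [mul_assoc, ← h3]; group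
          calc c * (n * τ * n⁻¹) * c⁻¹ = c * n * (c⁻¹ * τ * c)⁻¹⁻¹ * n⁻¹ * c⁻¹ := by rw [h4, inv_inv]; group
            _ = c * n * c⁻¹ * τ * (c * n * c⁻¹)⁻¹ := by group
        exact key hy
      have hEZ : ¬ E ≤ Z := by
        intro h3
        apply hnS
        refine le_sylow hO S hM fun g hg hgT t ht => ?_
        rw [hT, hD2] at hgT ht
        have hgN : g ∈ N := ⟨hg, hgT⟩
        have h4 : g * τ * g⁻¹ ∈ Z := h3 (subset_closure ⟨g, hgN, rfl⟩)
        have h5 : g * τ * g⁻¹ = τ := by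
          refine k.Z_cases h4 h.τZ (fun h6 => h.t1 ?_) h.t1
          have e : τ = g⁻¹ * (g * τ * g⁻¹) * g := by group
          rw [e, h6]; group
        have h6 := (hcent g hgN).1 (mul_inv_eq_iff_eq_mul.1 h5)
        exact h.comm1 g (h.Q2_le h6) t ht
      have hQ2E : Q2 ≤ E := h.dich2 hE2 hEn hEZ
      refine h.cent2 x (h.Q_le hx) fun y hy => ?_
      refine closure_induction (p := fun y _ => x * y = y * x) ?_ (by rw [one_mul, mul_one]) ?_ ?_ (hQ2E hy)
      · rintro _ ⟨n, hn, rfl⟩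
        exact hxn n hn
      · intro a b _ _ h3 h4
        exact (Commute.mul_right (show Commute x a from h3) h4).eq
      · intro a _ h3
        exact (show Commute x a from h3).inv_right.eq
    · intro n hn hn2
      refine k.half (hn.2 τ hτ2) fun h3 => hn2 ?_
      have h5 : n * τ * n⁻¹ = τ := by
        refine k.Z_cases h3 h.τZ (fun h6 => h.t1 ?_) h.t1
        have e : τ = n⁻¹ * (n * τ * n⁻¹) * n := by group
        rw [e, h6]; group
      exact (hcent n hn).1 (mul_inv_eq_iff_eq_mul.1 h5)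
    · rw [k.cardQ1, k.cardQ]; norm_num

end Sit

end Cfsg.Agent.H312.Ree
end

-- part: H312/ReeCase
section
/-!
# S3217, `q = 2`: the almost simple case (helper312)

* `rough'` : known simple groups without root datum of characteristic two (`HasThree`) and without `ThreePair`;
* `Sit.center_T`, `Sit.card_T` : the Sylow 2-subgroup of `M`;
* `Sit.tits` : `M` is the Tits group.
-/

set_option autoImplicit false

namespace Cfsg.Agent.H312.Ree

open Subgroup
open scoped commutatorElement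

/-- **the possibilities** -/
theorem rough' {M : Type*} [Group M] [Finite M] (hna : ¬ IsMulCommutative M) (hk : IsKnownSimple' M)
    {τ : M} (hτ : orderOf τ = 2) (hpair : ¬ H762.ThreePair τ) (hthree : ¬ H762.HasThree M) :
    (∃ n, n ≤ 8 ∧ Nonempty (M ≃* alternatingGroup (Fin n))) ∨
      (¬ IsAlternating M ∧ ∃ p : ℕ, p.Prime ∧ p ≠ 2 ∧ IsLieTypeChar p M) ∨
      Lie.IsoSuzuki M ∨ Lie.Iso2F4 M ∨ Lie.IsoTits M ∨ IsSporadicGroup M := by
  by_cases halt : IsAlternating M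
  · left
    obtain ⟨n, hn, ⟨e⟩⟩ := halt
    refine ⟨n, ?_, ⟨e⟩⟩
    by_contra hcon
    obtain ⟨a, b, h1, h2, h3, h4, h5, h6⟩ := H479.AltThree.alt_three (n := n) (by omega) (e τ) (by
      rw [MulEquiv.orderOf_eq, hτ])
    exact hpair (H762.ThreePair.of_equiv e ⟨a, b, h1, h2, h3, h4, h5, h6⟩)
  right
  rcases OddHalf.Known.classify hna hk with h | ⟨p, hp, h2, h⟩ | (h | h) | h
  · exact absurd h halt
  · exact Or.inl ⟨halt, p, hp, h2, h⟩
  · right
    rcases h with h | h | h | h | h | h | h | h | ⟨-, h⟩ | ⟨-, h⟩ | ⟨h, -⟩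
    · exact (hthree (H685.Three.hasThree_psl h)).elim
    · exact (hthree (H685.Three.hasThree_witt (Or.inl h))).elim
    · exact (hthree (H685.Three.hasThree_witt (Or.inr (Or.inl h)))).elim
    · obtain ⟨F, _, _, _, m, -, h, -⟩ := h
      exact (H762.not_odd_char_two h).elim
    · exact (hthree (H685.Three.hasThree_witt (Or.inr (Or.inr (Or.inl h))))).elim
    · exact (hthree (H685.Three.hasThree_witt (Or.inr (Or.inr (Or.inr h))))).elim
    · exact (hthree (H685.Three.hasThree_exc h)).elim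
    · exact (hthree (H685.Three.hasThree_tw h)).elim
    · exact Or.inl h
    · exact Or.inr (Or.inl h)
    · omega
  · exact Or.inr (Or.inr (Or.inr (Or.inl h)))
  · exact Or.inr (Or.inr (Or.inr (Or.inr h)))

namespace Sit

variable {G : Type*} [Group G] [Finite G] {τ : G} {S : Sylow 2 G} {C Z Q2 Q1 Q : Subgroup G}
  (h : Sit τ S C Z Q2 Q1 Q) (k : Loc2 C Z Q2 Q1 Q)
include h

omit [Finite G] in
theorem sup_eq {M : Subgroup G} (hM : M.Normal) (hns : ¬ M ⊓ Q ≤ Q1) : (M ⊓ Q) ⊔ Q1 = Q :=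
  h.irr2 _ le_sup_right (sup_le inf_le_right h.Q1_le) (((NB.of_normal hM).inf h.nQ).sup h.nQ1)
    fun h1 => hns (le_sup_left.trans h1)

/-- **the centre of the Sylow 2-subgroup `S ∩ M` of `M`** -/
theorem center_T {M : Subgroup G} (hM : M.Normal) (hQM : Q2 ≤ M) (hns : ¬ M ⊓ Q ≤ Q1) {x : G} (hxS : x ∈ (S : Subgroup G))
    (hx : ∀ s ∈ (S : Subgroup G), s ∈ M → s * x = x * s) : x ∈ Z := by
  have hQS := h.Q_le_S
  have hxC : x ∈ C := h.S_le hxS
  have hx1 : x ∈ Q1 := h.cent2 x hxC fun y hy => (hx y (hQS (h.Q2_le_Q hy)) (hQM hy)).symm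
  have hxQ : x ∈ Q := h.Q1_le hx1
  have hsup := h.sup_eq hM hns
  have hx2 : x ∈ Q2 := by
    refine h.sec x hx1 fun y hy => ?_
    let W : Subgroup G :=
      { carrier := {y | y ∈ C ∧ ⁅x, y⁆ ∈ Z}
        one_mem' := ⟨C.one_mem, by rw [commutatorElement_one_right]; exact Z.one_mem⟩
        mul_mem' := by
          rintro a b ⟨ha, ha'⟩ ⟨hb, hb'⟩
          refine ⟨C.mul_mem ha hb, ?_⟩
          have e : ⁅x, a * b⁆ = ⁅x, a⁆ * (a * ⁅x, b⁆ * a⁻¹) := by simp only [commutatorElement_def]; group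
          rw [e]
          exact Z.mul_mem ha' (h.nZ a ha _ hb')
        inv_mem' := by
          rintro a ⟨ha, ha'⟩
          refine ⟨C.inv_mem ha, ?_⟩
          have e : ⁅x, a⁻¹⁆ = a⁻¹ * ⁅x, a⁆⁻¹ * a⁻¹⁻¹ := by simp only [commutatorElement_def]; group
          rw [e]
          exact h.nZ _ (C.inv_mem ha) _ (Z.inv_mem ha') }
    have hW : (M ⊓ Q) ⊔ Q1 ≤ W := by
      refine sup_le (fun d hd => ⟨h.Q_le hd.2, ?_⟩) (fun d hd => ⟨h.Q1_le_C hd, h.comm11 x hx1 d hd⟩)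
      have e : ⁅x, d⁆ = 1 := commutatorElement_eq_one_iff_mul_comm.2 (hx d (hQS hd.2) hd.1).symm
      rw [e]; exact Z.one_mem
    rw [hsup] at hW
    exact (hW hy).2
  refine h.cent x hxC fun y hy => ?_
  have hW : (M ⊓ Q) ⊔ Q1 ≤ centralizer ({x} : Set G) := by
    refine sup_le (fun d hd => mem_centralizer_singleton_iff.2 (hx d (hQS hd.2) hd.1))
      (fun d hd => mem_centralizer_singleton_iff.2 (h.comm1 d hd x hx2))
  rw [hsup] at hW
  exact (mem_centralizer_singleton_iff.1 (hW hy)).symm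

omit [Finite G] in
include k in
theorem card_MQ {M : Subgroup G} (hM : M.Normal) (hQM : Q2 ≤ M) (hns : ¬ M ⊓ Q ≤ Q1) :
    2 ^ 9 ∣ Nat.card (M ⊓ Q : Subgroup G) := by
  have hfQ : Finite Q := Nat.finite_of_card_ne_zero (by rw [k.cardQ]; norm_num)
  have hn : (Q1.subgroupOf Q).Normal := ⟨fun x hx g => h.nQ1 g (h.Q_le g.2) x hx⟩
  have hsup := h.sup_eq hM hns
  have h1 : M.subgroupOf Q ⊔ Q1.subgroupOf Q = ⊤ := by
    apply Subgroup.map_injective Q.subtype_injective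
    rw [Subgroup.map_sup, subgroupOf_map_subtype, subgroupOf_map_subtype, inf_eq_left.2 h.Q1_le,
      ← MonoidHom.range_eq_map, range_subtype, hsup]
  have h2 : (Q1.subgroupOf Q).index = 2 ^ 4 := by
    have h3 := (Q1.subgroupOf Q).card_mul_index
    rw [Nat.card_congr (subgroupOfEquivOfLe h.Q1_le).toEquiv, k.cardQ1, k.cardQ] at h3
    exact Nat.eq_of_mul_eq_mul_left (by norm_num) (h3.trans (by norm_num))
  have h3 : (Q1.subgroupOf Q).relIndex (M.subgroupOf Q) = 2 ^ 4 := by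
    rw [← h2, ← relIndex_top_right, ← h1, relIndex_sup_right]
  have h4 := relIndex_mul_relIndex ⊥ (Q1.subgroupOf Q ⊓ M.subgroupOf Q) (M.subgroupOf Q) bot_le inf_le_right
  rw [relIndex_bot_left, relIndex_bot_left, inf_relIndex_right, h3] at h4
  have h5 : Nat.card (M.subgroupOf Q) = Nat.card (M ⊓ Q : Subgroup G) := by
    rw [← card_map_of_injective Q.subtype_injective, subgroupOf_map_subtype]
  have h6 : 2 ^ 5 ∣ Nat.card (Q1.subgroupOf Q ⊓ M.subgroupOf Q : Subgroup Q) := by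
    have h7 : Q2.subgroupOf Q ≤ Q1.subgroupOf Q ⊓ M.subgroupOf Q :=
      le_inf (comap_mono h.Q2_le) (comap_mono hQM)
    have h8 := card_dvd_of_le h7
    rwa [Nat.card_congr (subgroupOfEquivOfLe h.Q2_le_Q).toEquiv, k.cardQ2] at h8
  rw [← h5, ← h4, show (2 : ℕ) ^ 9 = 2 ^ 5 * 2 ^ 4 by norm_num]
  exact Nat.mul_dvd_mul h6 dvd_rfl

omit [Finite G] h in
theorem dvd_G (k : Loc2 C Z Q2 Q1 Q) : 2 ^ 12 ∣ Nat.card G := by
  have h1 := C.card_subgroup_dvd_card
  rw [k.cardC] at h1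
  exact (Dvd.intro _ rfl).trans h1

include k in
theorem not_dvd_G : ¬ 2 ^ 13 ∣ Nat.card G := by
  have hfact : Fact (Nat.Prime 2) := ⟨Nat.prime_two⟩
  intro h1
  rw [← (S : Subgroup G).card_mul_index] at h1
  have h2 : Nat.Coprime (2 ^ 13) (S : Subgroup G).index := by
    refine Nat.Coprime.pow_left _ ((Nat.Prime.coprime_iff_not_dvd Nat.prime_two).2 ?_)
    exact S.not_dvd_index
  have h3 := (h2.dvd_of_dvd_mul_right h1).trans (card_dvd_of_le h.S_le)
  rw [k.cardC] at h3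
  norm_num at h3

/-- **`M` is the Tits group** -/
theorem tits (k : Loc2 C Z Q2 Q1 Q) (hτ : orderOf τ = 2) (hC : ∀ g, g * τ = τ * g → g ∈ C) {M : Subgroup G}
    (hM : M.Normal) (hMs : IsSimpleGroup M) (hna : ¬ IsMulCommutative M) (hk : IsKnownSimple' M) (hQM : Q2 ≤ M)
    (hns : ¬ M ⊓ Q ≤ Q1)
    (hclosed : ∀ (P : Sylow 2 M) (t : M), t ≠ 1 → t ∈ (P : Subgroup M) → (∀ s ∈ (P : Subgroup M), s * t = t * s) →
      (∀ x ∈ (P : Subgroup M), (∀ s ∈ (P : Subgroup M), s * x = x * s) → x = 1 ∨ x = t) →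
      (∀ g, g * t = t * g → ∀ s ∈ (P : Subgroup M), g * s * g⁻¹ ∈ (P : Subgroup M)) →
      (∃ u ∈ (P : Subgroup M), u * u = 1 ∧ u ≠ 1 ∧ u ≠ t) → H762.HasThree M → Nat.card (P : Subgroup M) ≤ 8)
    (hspor : IsSporadicGroup M → 2 ^ 9 ∣ Nat.card M → ¬ 2 ^ 13 ∣ Nat.card M → 2 ^ 12 ∣ Nat.card G → False)
    (hsz : Lie.IsoSuzuki M → ∀ (P : Sylow 2 M) (t : M), t ∈ (P : Subgroup M) → t * t = 1 →
      ∀ s ∈ (P : Subgroup M), s * t = t * s) : Lie.IsoTits M ∧ 2 ∣ M.index := by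
  have hfact : Fact (Nat.Prime 2) := ⟨Nat.prime_two⟩
  have hQS := h.Q_le_S
  have hτM : τ ∈ M := hQM (h.Z_le h.τZ)
  set τ' : M := ⟨τ, hτM⟩ with hτ'
  have hτ2 : orderOf τ' = 2 := by rw [hτ', Subgroup.orderOf_mk]; exact hτ
  have hi : ¬ 2 ∣ ((S : Subgroup G) ⊓ M).relIndex M := by
    rw [inf_relIndex_right]
    exact Cfsg.Agent.Lib.SylowNormalInf.not_dvd_relIndex S M
  obtain ⟨P, hP⟩ := exists_sylow_of (A := M) (S.isPGroup'.to_le inf_le_left) hi
  have hPm : ∀ y : M, y ∈ (P : Subgroup M) ↔ (y : G) ∈ (S : Subgroup G) := fun y => by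
    rw [hP, mem_subgroupOf, mem_inf]
    exact ⟨fun h1 => h1.1, fun h1 => ⟨h1, y.2⟩⟩
  have hPc : ∀ s ∈ (P : Subgroup M), s * τ' = τ' * s := fun s hs => Subtype.ext (h.cS s ((hPm s).1 hs))
  have hPZ : ∀ x ∈ (P : Subgroup M), (∀ s ∈ (P : Subgroup M), s * x = x * s) → (x : G) ∈ Z := by
    intro x hx hxc
    refine h.center_T hM hQM hns ((hPm x).1 hx) fun s hs hsM => ?_
    exact congrArg Subtype.val (hxc ⟨s, hsM⟩ ((hPm ⟨s, hsM⟩).2 hs))
  have hP9 : 2 ^ 9 ∣ Nat.card (P : Subgroup M) := by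
    refine (card_MQ h k hM hQM hns).trans ?_
    have h1 : (M ⊓ Q : Subgroup G).subgroupOf M ≤ (P : Subgroup M) := by
      intro x hx
      exact (hPm x).2 (hQS hx.2)
    have h2 := card_dvd_of_le h1
    rwa [Nat.card_congr (subgroupOfEquivOfLe (inf_le_left : M ⊓ Q ≤ M)).toEquiv] at h2
  have hM9 : 2 ^ 9 ∣ Nat.card M := hP9.trans (P : Subgroup M).card_subgroup_dvd_card
  have hM13 : ¬ 2 ^ 13 ∣ Nat.card M := fun h1 => h.not_dvd_G k (h1.trans M.card_subgroup_dvd_card)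
  have hthreeC : ∀ x ∈ C, x * x * x = 1 → x = 1 := by
    intro x hx hx3
    by_contra hne
    have h4 : orderOf (⟨x, hx⟩ : ↥C) = 3 := by
      apply orderOf_eq_prime
      · apply Subtype.ext
        show x ^ 3 = 1
        rw [pow_three', hx3]
      · intro h5
        exact hne (congrArg Subtype.val h5)
    have h5 := orderOf_dvd_natCard (⟨x, hx⟩ : ↥C)
    rw [h4, k.cardC] at h5
    norm_num at h5
  have hcC : ∀ x : M, x * τ' = τ' * x → (x : G) ∈ C := fun x hx => hC x (congrArg Subtype.val hx)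
  have hpair : ¬ H762.ThreePair τ' := by
    rintro ⟨a, b, ha, hb, -, -, hne, h3⟩
    apply hne
    have haC := hcC a ha
    have hbC := hcC b hb
    apply Subtype.ext
    exact hthreeC _ (C.mul_mem haC hbC) (congrArg Subtype.val h3)
  have hthree : ¬ H762.HasThree M := by
    intro hH
    rcases H762.char_two hH P hPc with hnorm | h1
    swap
    · exact hpair h1
    have h8 := hclosed P τ' (fun h1 => h.t1 (congrArg Subtype.val h1)) ((hPm τ').2 h.mem) hPc (fun x hx hxc => by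
        by_cases hx1 : x = 1
        · exact Or.inl hx1
        · right
          apply Subtype.ext
          exact k.Z_cases (hPZ x hx hxc) h.τZ (fun h1 => hx1 (Subtype.ext h1)) h.t1) hnorm (by
        obtain ⟨u, hu, hu1⟩ : ∃ u ∈ Q2, u ∉ Z := by
          by_contra hcon
          push Not at hcon
          exact h.not_Q2_le hcon
        refine ⟨⟨u, hQM hu⟩, (hPm _).2 (hQS (h.Q2_le_Q hu)), Subtype.ext (h.sq2 u hu), fun h1 => hu1 ?_,
          fun h1 => hu1 ?_⟩
        · have h3 : u = 1 := congrArg Subtype.val h1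
          rw [h3]; exact Z.one_mem
        · have h3 : u = τ := congrArg Subtype.val h1
          rw [h3]; exact h.τZ) hH
    have h9 := Nat.le_of_dvd Nat.card_pos hP9
    omega
  rcases rough' hna hk hτ2 hpair hthree with ⟨n, hn, ⟨e⟩⟩ | ⟨halt, p, hp, h2, hG⟩ | hG | hG | hG | hG
  · exfalso
    rw [Nat.card_congr e.toEquiv] at hM9
    have h2 : Nat.card (alternatingGroup (Fin n)) ∣ Nat.card (Equiv.Perm (Fin n)) := card_subgroup_dvd_card _
    rw [Nat.card_eq_fintype_card (α := Equiv.Perm (Fin n)), Fintype.card_perm, Fintype.card_fin] at h2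
    have h3 : 2 ^ 9 ∣ Nat.factorial 8 := (hM9.trans h2).trans (Nat.factorial_dvd_factorial hn)
    rw [show Nat.factorial 8 = 40320 by decide] at h3
    omega
  · exfalso
    have hrank : ¬ (OddHalf.LieOddFam.XL27 M ∨ OddHalf.LieOddFam.XL2Big M ∨ Lie.IsoRee M) := by
      intro hx
      refine H126.ElemSixteen.no_elem16 hx (Q2.subgroupOf M) (fun x hx => Subtype.ext (h.sq2 x hx)) ?_
      rw [Nat.card_congr (subgroupOfEquivOfLe hQM).toEquiv, k.cardQ2]
      norm_num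
    rcases OddHalf.LieOddFam.lieOdd_cases ⟨p, hp, h2, hG⟩ halt with h1 | h1 | h1 | ⟨q, hq, hrk⟩
    · exact hrank (Or.inl h1)
    · exact hrank (Or.inr (Or.inl h1))
    · exact hrank (Or.inr (Or.inr h1))
    · have hl := OddHalf.LongSL.hasLong_of_rk hq hrk
      rcases H753.three_of_hasLong hl hτ2 ((hPm τ').2 h.mem) hPc with ⟨F, _, _, J, -, -, hJ, ⟨e⟩⟩ | ⟨T, w, -, -, hw, hkw, t, ht, hwt⟩
      · have h3 : 3 ∣ Nat.card (J.map M.subtype) := by
          rw [card_map_of_injective M.subtype_injective, Nat.card_congr e.toEquiv]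
          exact H762.GHyp.three_dvd_sl F
        have h4 : J.map M.subtype ≤ C := by
          rintro _ ⟨x, hx, rfl⟩
          exact hcC x (mem_centralizer_singleton_iff.1 (hJ hx))
        have h5 := h3.trans (card_dvd_of_le h4)
        rw [k.cardC] at h5
        norm_num at h5
      · apply hwt
        obtain ⟨j, hj⟩ := hkw
        have hwC : (w : G) ∈ C := hcC w (mem_centralizer_singleton_iff.1 hw)
        have h3 : orderOf (⟨w, hwC⟩ : ↥C) ∣ 3 ^ j := by
          apply orderOf_dvd_of_pow_eq_one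
          apply Subtype.ext
          have h8 : ((w ^ 3 ^ j : M) : G) = ((1 : M) : G) := congrArg Subtype.val hj
          rw [SubgroupClass.coe_pow] at h8
          exact h8
        have h4 := orderOf_dvd_natCard (⟨w, hwC⟩ : ↥C)
        rw [k.cardC] at h4
        have h5 : Nat.Coprime (3 ^ j) (2 ^ 12 * 5) := Nat.Coprime.pow_left _ (by norm_num)
        have h6 : orderOf (⟨w, hwC⟩ : ↥C) = 1 := Nat.dvd_one.1 (h5.gcd_eq_one ▸ Nat.dvd_gcd h3 h4)
        have h7 : w = 1 := by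
          have h8 : (⟨w, hwC⟩ : ↥C) = 1 := orderOf_eq_one_iff.1 h6
          exact Subtype.ext (congrArg (fun x : ↥C => (x : G)) h8)
        rw [h7, one_mul, mul_one]
  · exfalso
    apply h.not_Q2_le
    intro t ht
    have htP : (⟨t, hQM ht⟩ : M) ∈ (P : Subgroup M) := (hPm _).2 (hQS (h.Q2_le_Q ht))
    exact hPZ ⟨t, hQM ht⟩ htP (hsz hG P _ htP (Subtype.ext (h.sq2 t ht)))
  · exfalso
    obtain ⟨F, _, _, j, hj, hF, ⟨e⟩⟩ := hG
    have h1 := S1068.result hF
    rw [← Nat.card_congr e.toEquiv, mul_assoc, mul_assoc, mul_assoc] at h1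
    apply hM13
    rw [h1, ← pow_mul]
    exact (pow_dvd_pow 2 (by omega)).trans (Dvd.intro _ rfl)
  · refine ⟨hG, ?_⟩
    have h1 := NotCT.Orders.tits hG
    have h3 := dvd_G k
    rw [← M.card_mul_index, h1] at h3
    have h4 : 2 ^ 11 * 2 ∣ 2 ^ 11 * (8775 * M.index) := by
      have e : 2 ^ 11 * (8775 * M.index) = 17971200 * M.index := by ring
      rw [e]; exact h3
    have h5 := Nat.dvd_of_mul_dvd_mul_left (by norm_num) h4
    exact (Nat.Coprime.dvd_of_dvd_mul_left (by norm_num) h5)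
  · exact (hspor hG hM9 hM13 (dvd_G k)).elim

end Sit

end Cfsg.Agent.H312.Ree
end

-- part: H312/ReeQuot
section
/-!
# S3217, `q = 2`: passage to `G / O(G)` (helper312)

* `Inv.cent` : `C_{G/N}(τN)` is the image of `C_G(τ)` (`N` normal of odd order, `C_N(τ) = 1`);
* `Inv.inv` : `τ` inverts `N`;
* `tau_trick` : `O(G) = 1` if `G / O(G)` contains conjugates `a`, `b`, `ab` of `τ`.
-/

set_option autoImplicit false

namespace Cfsg.Agent.H312.Ree

open Subgroup
open scoped commutatorElement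

section inv

variable {G : Type*} [Group G] [Finite G] {τ : G} {N : Subgroup G}

/-- `τ` acts without fixed points on `N` -/
structure Inv (τ : G) (N : Subgroup G) : Prop where
  tt : τ * τ = 1
  n : N.Normal
  fpf : ∀ n ∈ N, n * τ = τ * n → n = 1

namespace Inv

variable (h : Inv τ N)
include h

theorem surj {m : G} (hm : m ∈ N) : ∃ n ∈ N, n⁻¹ * (τ * n * τ⁻¹) = m := by
  have hN := h.n
  let f : N → N := fun n => ⟨(n : G)⁻¹ * (τ * n * τ⁻¹), N.mul_mem (N.inv_mem n.2) (hN.conj_mem n n.2 τ)⟩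
  have hf : Function.Injective f := by
    intro a b hab
    have h1 : (a : G)⁻¹ * (τ * a * τ⁻¹) = (b : G)⁻¹ * (τ * b * τ⁻¹) := congrArg Subtype.val hab
    have h2 : (b : G) * (a : G)⁻¹ * τ = τ * ((b : G) * (a : G)⁻¹) := by
      calc (b : G) * (a : G)⁻¹ * τ = b * ((a : G)⁻¹ * (τ * a * τ⁻¹)) * τ * (a : G)⁻¹ := by group
        _ = b * ((b : G)⁻¹ * (τ * b * τ⁻¹)) * τ * (a : G)⁻¹ := by rw [h1]
        _ = τ * ((b : G) * (a : G)⁻¹) := by group
    have h3 := h.fpf _ (N.mul_mem b.2 (N.inv_mem a.2)) h2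
    exact Subtype.ext (mul_inv_eq_one.1 h3).symm
  obtain ⟨n, hn⟩ := Finite.surjective_of_injective hf ⟨m, hm⟩
  exact ⟨n, n.2, congrArg Subtype.val hn⟩

/-- `τ` inverts `N` -/
theorem inv {m : G} (hm : m ∈ N) : τ * m * τ⁻¹ = m⁻¹ := by
  obtain ⟨n, hn, rfl⟩ := h.surj hm
  have e : τ⁻¹ = τ := inv_eq_of_mul_eq_one_left h.tt
  calc τ * (n⁻¹ * (τ * n * τ⁻¹)) * τ⁻¹ = τ * n⁻¹ * τ * n * (τ⁻¹ * τ⁻¹) := by group
    _ = τ * n⁻¹ * τ * n := by rw [e, h.tt, mul_one]
    _ = (n⁻¹ * (τ * n * τ⁻¹))⁻¹ := by rw [e, mul_inv_rev, mul_inv_rev, mul_inv_rev, inv_inv, e]; group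

theorem comm {a b : G} (ha : a ∈ N) (hb : b ∈ N) : a * b = b * a := by
  have h1 := h.inv (N.mul_mem ha hb)
  have h2 : τ * (a * b) * τ⁻¹ = a⁻¹ * b⁻¹ := by
    rw [← h.inv ha, ← h.inv hb]; group
  rw [h2, mul_inv_rev] at h1
  have h3 := congrArg (fun x => x⁻¹) h1
  simp only [mul_inv_rev, inv_inv] at h3
  exact h3.symm

/-- conjugates of `τ` invert `N` -/
theorem inv_conj {g m : G} (hm : m ∈ N) : (g * τ * g⁻¹) * m * (g * τ * g⁻¹)⁻¹ = m⁻¹ := by
  have hN := h.n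
  have h1 : g⁻¹ * m * g ∈ N := by
    have := hN.conj_mem m hm g⁻¹
    rwa [inv_inv] at this
  calc (g * τ * g⁻¹) * m * (g * τ * g⁻¹)⁻¹ = g * (τ * (g⁻¹ * m * g) * τ⁻¹) * g⁻¹ := by group
    _ = m⁻¹ := by rw [h.inv h1]; group

/-- `C_{G/N}(τN)` -/
theorem cent {g : G} (hg : g * τ * g⁻¹ * τ⁻¹ ∈ N) : ∃ n ∈ N, (n * g) * τ = τ * (n * g) := by
  obtain ⟨n, hn, h1⟩ := h.surj hg
  refine ⟨n, hn, ?_⟩
  calc (n * g) * τ = n * (g * τ * g⁻¹ * τ⁻¹) * τ * g := by group
    _ = n * (n⁻¹ * (τ * n * τ⁻¹)) * τ * g := by rw [← h1]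
    _ = τ * (n * g) := by group

/-- **the trick** -/
theorem trick (hodd : Odd (Nat.card N)) {a b c : G} (hab : (a * τ * a⁻¹) * (b * τ * b⁻¹) * (c * τ * c⁻¹)⁻¹ ∈ N) :
    N = ⊥ := by
  rw [eq_bot_iff]
  intro x hx
  rw [mem_bot]
  set A := a * τ * a⁻¹ with hA
  set B := b * τ * b⁻¹ with hB
  set D := c * τ * c⁻¹ with hD
  have h1 : (A * B) * x * (A * B)⁻¹ = x := by
    have h2 : B * x * B⁻¹ = x⁻¹ := h.inv_conj hx
    have h3 : A * x⁻¹ * A⁻¹ = x⁻¹⁻¹ := h.inv_conj (N.inv_mem hx)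
    calc (A * B) * x * (A * B)⁻¹ = A * (B * x * B⁻¹) * A⁻¹ := by group
      _ = x := by rw [h2, h3, inv_inv]
  have h2 : (A * B) * x * (A * B)⁻¹ = x⁻¹ := by
    have h3 : D * x * D⁻¹ = x⁻¹ := h.inv_conj hx
    set m := A * B * D⁻¹ with hm
    have e : A * B = m * D := by rw [hm]; group
    have h4 := h.comm hab (N.inv_mem hx)
    calc (A * B) * x * (A * B)⁻¹ = m * (D * x * D⁻¹) * m⁻¹ := by rw [e]; group
      _ = (m * x⁻¹) * m⁻¹ := by rw [h3]
      _ = x⁻¹ := by rw [h4]; group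
  have h3 : x * x = 1 := by
    rw [h1] at h2
    nth_rewrite 1 [h2]
    rw [inv_mul_cancel]
  have h4 : orderOf (⟨x, hx⟩ : N) ∣ 2 := by
    apply orderOf_dvd_of_pow_eq_one
    rw [pow_two]
    exact Subtype.ext h3
  have h5 := orderOf_dvd_natCard (⟨x, hx⟩ : N)
  have h6 : Nat.Coprime 2 (Nat.card N) := Nat.coprime_two_left.2 hodd
  have h7 : orderOf (⟨x, hx⟩ : N) = 1 := Nat.dvd_one.1 (h6.gcd_eq_one ▸ Nat.dvd_gcd h4 h5)
  exact congrArg Subtype.val (orderOf_eq_one_iff.1 h7)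

end Inv

end inv

end Cfsg.Agent.H312.Ree
end

-- part: H762/ClosedCore
section
/-!
helper762 (for S3217): a group with a root group datum of characteristic two in which a 2-central involution `τ` with
`Z(U) = ⟨τ⟩` has centralizer normalising `U` has `|U| ≤ 8` (rank at least two).
-/

set_option autoImplicit false

namespace Cfsg.Agent.H762.Closed

open CoxeterSystem Cfsg.Agent.ChevalleyStructure.CoxeterGeom Cfsg.Agent.Tits.Roots Cfsg.Agent.Tits.Core
  Cfsg.Agent.Tits.RootComb Cfsg.Agent.Nodes.Comb Cfsg.Agent.Nodes.Reps Cfsg.Agent.Nodes.BNOf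
  Cfsg.Agent.Nodes.StabComb Cfsg.Agent.Nodes.Bruhat Cfsg.Agent.Nodes.LeviDec Cfsg.Agent.Nodes.OppDec
open Subgroup

variable {I W Y : Type*} [Fintype I] [DecidableEq I] [Group W] [Group Y] {M : CoxeterMatrix I}
  {cs : CoxeterSystem M W} {A : I → I → ℤ} {h : IsCartan M A} {T : Subgroup Y} {n : I → Y}
  {X : (I → ℤ) → Subgroup Y}

/-- the situation: `Z(U) = ⟨τ⟩` and `C(τ)` normalises `U` -/
structure Ctx (cs : CoxeterSystem M W) (h : IsCartan M A) (X : (I → ℤ) → Subgroup Y) (τ : Y) : Prop where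
  ne : τ ≠ 1
  sq : τ * τ = 1
  mem : τ ∈ RGD.Sup X (RGD.Pos cs h)
  cen : ∀ u ∈ RGD.Sup X (RGD.Pos cs h), u * τ = τ * u
  zz : ∀ z ∈ RGD.Sup X (RGD.Pos cs h), (∀ u ∈ RGD.Sup X (RGD.Pos cs h), u * z = z * u) → z = 1 ∨ z = τ
  norm : ∀ g, g * τ = τ * g → ∀ u ∈ RGD.Sup X (RGD.Pos cs h), g * u * g⁻¹ ∈ RGD.Sup X (RGD.Pos cs h)
  max : ∀ g, g * τ = τ * g → g * g = 1 → g ∈ RGD.Sup X (RGD.Pos cs h)

theorem V_le_U (i : I) : RGD.Sup X (RGD.PosNe cs h i) ≤ RGD.Sup X (RGD.Pos cs h) :=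
  RGD.Sup_mono fun _ hz => ⟨hz.1, hz.2.1⟩

theorem X_le_U {x : I → ℤ} (hx : IsRoot cs h x) (h0 : 0 ≤ x) : X x ≤ RGD.Sup X (RGD.Pos cs h) :=
  RGD.le_Sup (S := RGD.Pos cs h) ⟨hx, h0⟩

variable (R : RGD cs h 2 T n X) {τ : Y} (C : Ctx cs h X τ)

include R in
theorem conj_V [Finite W] (i : I) {u v : Y} (hu : u ∈ RGD.Sup X (RGD.Pos cs h)) (hv : v ∈ RGD.Sup X (RGD.PosNe cs h i)) :
    u * v * u⁻¹ ∈ RGD.Sup X (RGD.PosNe cs h i) := by
  have h1 : RGD.Sup X (RGD.Pos cs h) ≤ normalizer (RGD.Sup X (RGD.PosNe cs h i) : Set Y) := by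
    rw [R.Upos_eq i]
    exact sup_le (R.X_le_normalizer_V i) le_normalizer
  exact (mem_normalizer_iff.1 (h1 hu) v).1 hv

include R in
theorem conj_n_V (i : I) {v : Y} (hv : v ∈ RGD.Sup X (RGD.PosNe cs h i)) :
    n i * v * (n i)⁻¹ ∈ RGD.Sup X (RGD.PosNe cs h i) := by
  have h1 := R.cj_n_V i
  rw [← h1]
  exact conj_mem_cj.2 hv

include R in
theorem conj_n_V' (i : I) {v : Y} (hv : v ∈ RGD.Sup X (RGD.PosNe cs h i)) :
    (n i)⁻¹ * v * n i ∈ RGD.Sup X (RGD.PosNe cs h i) := by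
  have h1 := R.cj_n_V i
  rw [← h1] at hv
  exact mem_cj.1 hv

include R in
theorem comm_U [Finite W] (i : I) {z : Y} (hx : ∀ x ∈ X (sr i), x * z = z * x)
    (hv : ∀ v ∈ RGD.Sup X (RGD.PosNe cs h i), v * z = z * v) : ∀ u ∈ RGD.Sup X (RGD.Pos cs h), u * z = z * u := by
  have h1 : RGD.Sup X (RGD.Pos cs h) ≤ centralizer {z} := by
    rw [R.Upos_eq i]
    refine sup_le (fun x hx' => ?_) (fun v hv' => ?_)
    · exact mem_centralizer_singleton_iff.2 (hx x hx')
    · exact mem_centralizer_singleton_iff.2 (hv v hv')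
  exact fun u hu => mem_centralizer_singleton_iff.1 (h1 hu)

include R in
theorem U_mul [Finite W] (i : I) {u : Y} (hu : u ∈ RGD.Sup X (RGD.Pos cs h)) :
    ∃ x ∈ X (sr i), ∃ v ∈ RGD.Sup X (RGD.PosNe cs h i), u = x * v := by
  have h1 : u ∈ ((X (sr i) ⊔ RGD.Sup X (RGD.PosNe cs h i) : Subgroup Y) : Set Y) := by
    rw [← R.Upos_eq i]; exact hu
  rw [Subgroup.coe_mul_of_left_le_normalizer_right _ _ (R.X_le_normalizer_V i), Set.mem_mul] at h1
  obtain ⟨x, hx, v, hv, e⟩ := h1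
  exact ⟨x, hx, v, hv, e.symm⟩

include R C in
theorem T_comm {t : Y} (ht : t ∈ T) : t * τ = τ * t := by
  have hn : ∀ t ∈ T, ∀ u ∈ RGD.Sup X (RGD.Pos cs h), t * u * t⁻¹ ∈ RGD.Sup X (RGD.Pos cs h) := fun t ht u hu =>
    (mem_normalizer_iff.1 (R.T_le_normalizer_U ht) u).1 hu
  rcases C.zz _ (hn t ht τ C.mem) (fun u hu => by
    have h1 := C.cen _ (hn _ (inv_mem ht) u hu)
    rw [inv_inv] at h1
    calc u * (t * τ * t⁻¹) = t * ((t⁻¹ * u * t) * τ) * t⁻¹ := by group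
      _ = t * (τ * (t⁻¹ * u * t)) * t⁻¹ := by rw [h1]
      _ = t * τ * t⁻¹ * u := by group) with h1 | h1
  · exfalso
    apply C.ne
    calc τ = t⁻¹ * (t * τ * t⁻¹) * t := by group
      _ = 1 := by rw [h1]; group
  · calc t * τ = (t * τ * t⁻¹) * t := by group
      _ = τ * t := by rw [h1]

include R C in
theorem eq_one_of_comm [Finite W] {w : W} {k : Y} (hk : Rp cs R.nsys w k) (hc : k * τ = τ * k) : w = 1 := by
  have h0 : w⁻¹ = 1 := by
    apply eq_one_of_nonneg cs h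
    intro i
    by_contra hcon
    have hroot : IsRoot cs h (rep cs h w⁻¹ (sr i)) := ⟨_, _, rfl⟩
    have h1 := (hroot.not_nonneg_iff_neg).1 hcon
    apply R.not_neg_le_B i
    intro x hx
    have h2 : k⁻¹ * x * k ∈ X (-rep cs h w⁻¹ (sr i)) := by
      have := R.conj_mem' hk (isRoot_sr cs h i).neg hx
      rwa [map_neg] at this
    have h3 : k⁻¹ * x * k ∈ RGD.Sup X (RGD.Pos cs h) := X_le_U hroot.neg h1 h2
    have h4 := C.norm k hc _ h3
    have h5 : k * (k⁻¹ * x * k) * k⁻¹ = x := by group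
    rw [h5] at h4
    exact RGD.U_le_B h4
  exact inv_eq_one.1 h0

include R C in
theorem n_not_comm [Finite W] (i : I) : ¬ n i * τ = τ * n i := by
  intro hc
  have h1 := eq_one_of_comm R C (rp_simple cs R.nsys i) hc
  have h6 := cs.length_simple i
  rw [h1, cs.length_one] at h6
  exact absurd h6 (by decide)

include R C in
theorem conj_unique {w : W} {k k' : Y} (hk : Rp cs R.nsys w k) (hk' : Rp cs R.nsys w k') :
    k * τ * k⁻¹ = k' * τ * k'⁻¹ := by
  have h1 := hk.unique hk'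
  have h2 := T_comm R C h1
  calc k * τ * k⁻¹ = k * (τ * (k⁻¹ * k')) * k'⁻¹ := by group
    _ = k * ((k⁻¹ * k') * τ) * k'⁻¹ := by rw [h2]
    _ = k' * τ * k'⁻¹ := by group

include R C in
theorem mem_of_normal [Finite W] [Finite Y] {N : Subgroup Y} (hN : N ≤ RGD.Sup X (RGD.Pos cs h)) (h0 : N ≠ ⊥)
    (hn : ∀ u ∈ RGD.Sup X (RGD.Pos cs h), ∀ x ∈ N, u * x * u⁻¹ ∈ N) : τ ∈ N := by
  have : Fact (Nat.Prime 2) := ⟨Nat.prime_two⟩
  obtain ⟨m, hm⟩ := (Subgroup.ne_bot_iff_exists_ne_one).1 h0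
  obtain ⟨z, hz, hz1, hzc⟩ := GTwoFour.Tools.exists_fixed_mod (N := N) (M := ⊥) R.isPGroup_Upos hN hn
    (fun y _ x hx => by rw [mem_bot] at hx ⊢; rw [hx]; group) ⟨m, m.2, fun h => hm (Subtype.ext (mem_bot.1 h))⟩
  rcases C.zz z (hN hz) (fun u hu => by
    have h1 := mem_bot.1 (hzc u hu)
    exact (commutatorElement_eq_one_iff_mul_comm).1 h1) with h1 | h1
  · exact absurd (mem_bot.2 h1) hz1
  · rwa [← h1]

include R C in
theorem tau_mem_V [Finite W] [Finite Y] (i : I) (hV : RGD.Sup X (RGD.PosNe cs h i) ≠ ⊥) :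
    τ ∈ RGD.Sup X (RGD.PosNe cs h i) :=
  mem_of_normal R C (V_le_U i) hV fun _ hu _ hx => conj_V R i hu hx

include R C in
theorem sigma_mem_V [Finite W] [Finite Y] (i : I) (hV : RGD.Sup X (RGD.PosNe cs h i) ≠ ⊥) :
    n i * τ * (n i)⁻¹ ∈ RGD.Sup X (RGD.PosNe cs h i) := conj_n_V R i (tau_mem_V R C i hV)

include R C in
theorem sigma_comm (i : I) {v : Y} (hv : v ∈ RGD.Sup X (RGD.PosNe cs h i)) :
    v * (n i * τ * (n i)⁻¹) = n i * τ * (n i)⁻¹ * v := by
  have h1 := C.cen _ (V_le_U i (conj_n_V' R i hv))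
  calc v * (n i * τ * (n i)⁻¹) = n i * ((n i)⁻¹ * v * n i * τ) * (n i)⁻¹ := by group
    _ = n i * (τ * ((n i)⁻¹ * v * n i)) * (n i)⁻¹ := by rw [h1]
    _ = n i * τ * (n i)⁻¹ * v := by group

include C in
theorem conj_sq (g : Y) : g * τ * g⁻¹ * (g * τ * g⁻¹) = 1 := by
  calc g * τ * g⁻¹ * (g * τ * g⁻¹) = g * (τ * τ) * g⁻¹ := by group
    _ = 1 := by rw [C.sq]; group

include R C in
theorem T_sigma (i : I) {t : Y} (ht : t ∈ T) : t * (n i * τ * (n i)⁻¹) * t⁻¹ = n i * τ * (n i)⁻¹ := by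
  have h1 : Rp cs R.nsys (cs.simple i) (t * n i) := by
    have := (rp_of_mem (cs := cs) (hN := R.nsys) ht).mul (rp_simple cs R.nsys i)
    rwa [one_mul] at this
  have h2 := conj_unique R C h1 (rp_simple cs R.nsys i)
  calc t * (n i * τ * (n i)⁻¹) * t⁻¹ = t * n i * τ * (t * n i)⁻¹ := by group
    _ = _ := h2

include R C in
/-- two nodes whose involutions do not commute -/
theorem exists_pair [Finite W] [Finite Y] (hV : ∀ i, RGD.Sup X (RGD.PosNe cs h i) ≠ ⊥) :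
    ∃ j i, (n j * τ * (n j)⁻¹) * (n i * τ * (n i)⁻¹) * (n j * τ * (n j)⁻¹)⁻¹ * (n i * τ * (n i)⁻¹)⁻¹ = τ := by
  classical
  -- a minimal counterexample
  have hex : ∃ m, ∃ w k, cs.length w = m ∧ Rp cs R.nsys w k ∧ k * τ * k⁻¹ ∉ RGD.Sup X (RGD.Pos cs h) := by
    obtain ⟨k, hk⟩ := exists_rp cs R.nsys (w0 cs)
    refine ⟨_, w0 cs, k, rfl, hk, fun hcon => ?_⟩
    have h1 : k * τ * k⁻¹ ∈ UN cs h X := by
      rw [← cj_U R hk]; exact conj_mem_cj.2 C.mem
    have h2 : k * τ * k⁻¹ ∈ RGD.Sup X (RGD.Pos cs h) ⊓ UN cs h X := ⟨hcon, h1⟩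
    rw [U_inf_UN R, mem_bot] at h2
    apply C.ne
    calc τ = k⁻¹ * (k * τ * k⁻¹) * k := by group
      _ = 1 := by rw [h2]; group
  obtain ⟨w, k, hm, hk, hkn⟩ := Nat.find_spec hex
  have hmin : ∀ {w' k'}, Rp cs R.nsys w' k' → cs.length w' < cs.length w →
      k' * τ * k'⁻¹ ∈ RGD.Sup X (RGD.Pos cs h) := by
    intro w' k' hk' hlt
    by_contra hcon
    rw [hm] at hlt
    exact Nat.find_min hex hlt ⟨w', k', rfl, hk', hcon⟩
  have hw1 : w ≠ 1 := by
    rintro rfl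
    have h1 := conj_unique R C hk rp_one
    rw [h1] at hkn
    apply hkn
    rw [one_mul, inv_one, mul_one]; exact C.mem
  obtain ⟨j, hj⟩ := cs.exists_leftDescent_of_ne_one hw1
  have hj' : cs.length (cs.simple j * w) < cs.length w := hj
  have hjl := cs.length_simple_mul w j
  set w' := cs.simple j * w with hw'
  have hww : w = cs.simple j * w' := by rw [hw', simple_mul_simple_cancel_left]
  have hw'1 : w' ≠ 1 := by
    intro h1
    rw [h1, mul_one] at hww
    rw [hww] at hk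
    rw [conj_unique R C hk (rp_simple cs R.nsys j)] at hkn
    exact hkn (V_le_U j (sigma_mem_V R C j (hV j)))
  obtain ⟨i, hi⟩ := cs.exists_rightDescent_of_ne_one hw'1
  have hi' : cs.length (w' * cs.simple i) < cs.length w' := hi
  have hil := cs.length_mul_simple w' i
  set u := w' * cs.simple i with hu
  have hw'u : w' = u * cs.simple i := by rw [hu, simple_mul_simple_cancel_right]
  have hju := cs.length_simple_mul u j
  obtain ⟨ku, hku⟩ := exists_rp cs R.nsys u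
  -- positivity
  have hpi : 0 ≤ rep cs h u (sr i) := nonneg_of_lt cs h u i (by rw [← hw'u]; exact hi')
  have hwl : cs.length w ≤ cs.length (cs.simple j * u) + 1 := by
    rw [hww, hw'u, ← mul_assoc]
    have := cs.length_mul_simple (cs.simple j * u) i
    omega
  have hpj : 0 ≤ rep cs h u⁻¹ (sr j) := by
    apply nonneg_of_lt cs h u⁻¹ j
    rw [cs.length_inv, ← cs.length_inv (u⁻¹ * cs.simple j), mul_inv_rev, inv_inv, cs.inv_simple]
    omega
  have hne : rep cs h u (sr i) ≠ sr j := by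
    intro he
    have h1 : 0 ≤ rep cs h w (sr i) := by
      rw [hww, hw'u, rep_mul_apply, rep_mul_apply, rep_simple_sr, map_neg, map_neg, he, rep_simple_sr, neg_neg]
      exact sr_nonneg j
    have h2 := (lt_iff' cs h w i).2 h1
    have h3 : w * cs.simple i = cs.simple j * u := by
      rw [hww, hw'u, ← mul_assoc, simple_mul_simple_cancel_right]
    rw [h3] at h2
    omega
  have hne' : rep cs h u⁻¹ (sr j) ≠ sr i := by
    intro he
    apply hne
    rw [← he, rep_apply_inv]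
  -- the two involutions
  set a := n j * τ * (n j)⁻¹ with ha
  set si := n i * τ * (n i)⁻¹ with hsi
  have haV := sigma_mem_V R C j (hV j)
  have hsV := sigma_mem_V R C i (hV i)
  have haU := V_le_U j haV
  have hsU := V_le_U i hsV
  rw [← ha] at haV haU
  rw [← hsi] at hsV hsU
  set b := ku * si * ku⁻¹ with hb
  have hbU : b ∈ RGD.Sup X (RGD.Pos cs h) := by
    have h1 : Rp cs R.nsys w' (ku * n i) := by rw [hw'u]; exact hku.mul (rp_simple cs R.nsys i)
    have h2 := hmin h1 hj'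
    have e : b = ku * n i * τ * (ku * n i)⁻¹ := by rw [hb, hsi]; group
    rw [e]; exact h2
  have haU' : ku⁻¹ * a * ku ∈ RGD.Sup X (RGD.Pos cs h) := by
    have h1 : Rp cs R.nsys (u⁻¹ * cs.simple j) (ku⁻¹ * n j) := hku.inv.mul (rp_simple cs R.nsys j)
    have hl : cs.length (u⁻¹ * cs.simple j) < cs.length w := by
      rw [← cs.length_inv (u⁻¹ * cs.simple j), mul_inv_rev, inv_inv, cs.inv_simple]
      omega
    have h2 := hmin h1 hl
    have e : ku⁻¹ * a * ku = ku⁻¹ * n j * τ * (ku⁻¹ * n j)⁻¹ := by rw [ha]; group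
    rw [e]; exact h2
  set z := a * b * a⁻¹ * b⁻¹ with hz
  have hz1 : z ≠ 1 := by
    intro h1
    have hab : a * b = b * a := by
      calc a * b = (a * b * a⁻¹ * b⁻¹) * b * a := by group
        _ = b * a := by rw [← hz, h1, one_mul]
    apply hkn
    have h2 : Rp cs R.nsys w ((n j)⁻¹ * ku * n i) := by
      have := ((rp_simple cs R.nsys j).inv.mul hku).mul (rp_simple cs R.nsys i)
      rwa [cs.inv_simple, mul_assoc (cs.simple j), ← hw'u, ← hww] at this
    rw [conj_unique R C hk h2]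
    apply C.max
    · have e : (n j)⁻¹ * ku * n i * τ * ((n j)⁻¹ * ku * n i)⁻¹ = (n j)⁻¹ * b * n j := by rw [hb, hsi]; group
      rw [e]
      calc (n j)⁻¹ * b * n j * τ = (n j)⁻¹ * (b * a) * n j := by rw [ha]; group
        _ = (n j)⁻¹ * (a * b) * n j := by rw [hab]
        _ = τ * ((n j)⁻¹ * b * n j) := by rw [ha]; group
    · exact conj_sq C _
  have hac : ∀ v ∈ RGD.Sup X (RGD.PosNe cs h j), v * a = a * v := fun v hv => sigma_comm R C j hv
  have hsc : ∀ v ∈ RGD.Sup X (RGD.PosNe cs h i), v * si = si * v := fun v hv => sigma_comm R C i hv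
  -- general fact
  have gen : ∀ (l : I) {p q : Y}, (∀ v ∈ RGD.Sup X (RGD.PosNe cs h l), v * p = p * v) →
      p ∈ RGD.Sup X (RGD.PosNe cs h l) → q ∈ RGD.Sup X (RGD.Pos cs h) →
      q * p * q⁻¹ ∈ RGD.Sup X (RGD.PosNe cs h l) ∧ ∀ v ∈ RGD.Sup X (RGD.PosNe cs h l), v * (q * p * q⁻¹) =
        q * p * q⁻¹ * v := by
    intro l p q h1 h2 h3
    refine ⟨conj_V R l h3 h2, fun v hv => ?_⟩
    have h4 := conj_V R l (inv_mem h3) hv
    rw [inv_inv] at h4
    have h5 := h1 _ h4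
    calc v * (q * p * q⁻¹) = q * (q⁻¹ * v * q * p) * q⁻¹ := by group
      _ = q * (p * (q⁻¹ * v * q)) * q⁻¹ := by rw [h5]
      _ = q * p * q⁻¹ * v := by group
  have hai : a⁻¹ = a := by
    rw [inv_eq_iff_mul_eq_one]; exact conj_sq C (n j)
  have hsii : si⁻¹ = si := by
    rw [inv_eq_iff_mul_eq_one]; exact conj_sq C (n i)
  obtain ⟨hg1, hg2⟩ := gen j hac haV hbU
  have hzV : z ∈ RGD.Sup X (RGD.PosNe cs h j) := by
    have e : z = a * (b * a * b⁻¹) := by rw [hz, hai]; group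
    rw [e]; exact mul_mem haV hg1
  have hzc : ∀ v ∈ RGD.Sup X (RGD.PosNe cs h j), v * z = z * v := by
    intro v hv
    have e : z = a * (b * a * b⁻¹) := by rw [hz, hai]; group
    rw [e]
    calc v * (a * (b * a * b⁻¹)) = (v * a) * (b * a * b⁻¹) := by group
      _ = a * (v * (b * a * b⁻¹)) := by rw [hac v hv]; group
      _ = a * (b * a * b⁻¹) * v := by rw [hg2 v hv]; group
  obtain ⟨hg3, hg4⟩ := gen i hsc hsV haU'
  set z' := ku⁻¹ * z * ku with hz'
  have ez' : z' = (ku⁻¹ * a * ku) * si * (ku⁻¹ * a * ku)⁻¹ * si := by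
    have e : z' = (ku⁻¹ * a * ku) * si * (ku⁻¹ * a * ku)⁻¹ * si⁻¹ := by
      rw [hz', hz, hb]
      group
    rw [e, hsii]
  have hzV' : z' ∈ RGD.Sup X (RGD.PosNe cs h i) := by
    rw [ez']; exact mul_mem hg3 hsV
  have hzc' : ∀ v ∈ RGD.Sup X (RGD.PosNe cs h i), v * z' = z' * v := by
    intro v hv
    rw [ez', ← mul_assoc, hg4 v hv, mul_assoc, hsc v hv, ← mul_assoc]
  have hzX : ∀ x ∈ X (sr j), x * z = z * x := by
    intro x hx
    have h1 : ku⁻¹ * x * ku ∈ RGD.Sup X (RGD.PosNe cs h i) :=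
      RGD.le_Sup (S := RGD.PosNe cs h i) ⟨(isRoot_sr cs h j).act _, hpj, hne'⟩
        (R.conj_mem' hku (isRoot_sr cs h j) hx)
    have h2 := hzc' _ h1
    calc x * z = ku * (ku⁻¹ * x * ku * z') * ku⁻¹ := by rw [hz']; group
      _ = ku * (z' * (ku⁻¹ * x * ku)) * ku⁻¹ := by rw [h2]
      _ = z * x := by rw [hz']; group
  have hzX' : ∀ x ∈ X (sr i), x * z' = z' * x := by
    intro x hx
    have h1 : ku * x * ku⁻¹ ∈ RGD.Sup X (RGD.PosNe cs h j) :=
      RGD.le_Sup (S := RGD.PosNe cs h j) ⟨(isRoot_sr cs h i).act _, hpi, hne⟩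
        (R.conj_mem hku (isRoot_sr cs h i) hx)
    have h2 := hzc _ h1
    calc x * z' = ku⁻¹ * (ku * x * ku⁻¹ * z) * ku := by rw [hz']; group
      _ = ku⁻¹ * (z * (ku * x * ku⁻¹)) * ku := by rw [h2]
      _ = z' * x := by rw [hz']; group
  have hzτ : z = τ := (C.zz z (V_le_U j hzV) (comm_U R j hzX hzc)).resolve_left hz1
  have hz1' : z' ≠ 1 := by
    intro h1
    apply hz1
    calc z = ku * z' * ku⁻¹ := by rw [hz']; group
      _ = 1 := by rw [h1]; group
  have hzτ' : z' = τ := (C.zz z' (V_le_U i hzV') (comm_U R i hzX' hzc')).resolve_left hz1'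
  have hu1 : u = 1 := by
    refine eq_one_of_comm R C hku ?_
    calc ku * τ = ku * z' := by rw [hzτ']
      _ = z * ku := by rw [hz']; group
      _ = τ * ku := by rw [hzτ]
  refine ⟨j, i, ?_⟩
  have hkT : ku ∈ T := by
    rw [hu1] at hku
    exact hku.mem_of_one
  have hbs : b = si := T_sigma R C i hkT
  rw [← ha, ← hsi, ← hbs, ← hz, hzτ]

/-! ### the node groups have order two -/

include R C in
theorem neg_conj [Finite W] (j : I) {y : Y} (hy : y ∈ X (-sr j)) (hy1 : y ≠ 1) :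
    ∃ x ∈ X (sr j), y * τ * y⁻¹ = x * (n j * τ * (n j)⁻¹) * x⁻¹ := by
  obtain ⟨a, ha, t, ht, b, hb, rfl⟩ := R.rk1 j y hy hy1
  refine ⟨a, ha, ?_⟩
  have h1 := C.cen b (X_le_U (isRoot_sr cs h j) (sr_nonneg j) hb)
  have h2 := T_sigma R C j ht
  calc a * t * n j * b * τ * (a * t * n j * b)⁻¹ = a * t * n j * (b * τ) * b⁻¹ * (n j)⁻¹ * t⁻¹ * a⁻¹ := by group
    _ = a * (t * (n j * τ * (n j)⁻¹) * t⁻¹) * a⁻¹ := by rw [h1]; group
    _ = _ := by rw [h2]

include R C in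
theorem neg_comm [Finite W] (j : I) {y : Y} (hy : y ∈ X (-sr j)) (hc : y * τ = τ * y) : y = 1 := by
  by_contra hy1
  obtain ⟨x, hx, e⟩ := neg_conj R C j hy hy1
  apply n_not_comm R C j
  have h1 := C.cen x (X_le_U (isRoot_sr cs h j) (sr_nonneg j) hx)
  have h2 : n j * τ * (n j)⁻¹ = τ := by
    calc n j * τ * (n j)⁻¹ = x⁻¹ * (x * (n j * τ * (n j)⁻¹) * x⁻¹) * x := by group
      _ = x⁻¹ * (y * τ * y⁻¹) * x := by rw [e]
      _ = x⁻¹ * (τ * x) := by rw [hc]; group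
      _ = τ := by rw [← h1]; group
  calc n j * τ = n j * τ * (n j)⁻¹ * n j := by group
    _ = τ * n j := by rw [h2]

/-- the conjugates of `τ` under the minimal parabolic -/
def Kl (n : I → Y) (X : (I → ℤ) → Subgroup Y) (τ : Y) (j : I) (g : Y) : Prop :=
  g = τ ∨ ∃ x ∈ X (sr j), g = x * (n j * τ * (n j)⁻¹) * x⁻¹

include C in
theorem Kl.conj_x {j : I} {g x : Y} (hg : Kl n X τ j g) (hx : x ∈ X (sr j)) : Kl n X τ j (x * g * x⁻¹) := by
  rcases hg with rfl | ⟨y, hy, rfl⟩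
  · left
    rw [C.cen x (X_le_U (isRoot_sr cs h j) (sr_nonneg j) hx)]; group
  · right
    exact ⟨x * y, mul_mem hx hy, by group⟩

include R C in
theorem Kl.conj_neg [Finite W] {j : I} {y : Y} (hy : y ∈ X (-sr j)) : Kl n X τ j (y * τ * y⁻¹) := by
  by_cases hy1 : y = 1
  · left; rw [hy1]; group
  · right; exact neg_conj R C j hy hy1

include R C in
theorem n_sq (j : I) : n j * (n j * τ * (n j)⁻¹) * (n j)⁻¹ = τ := by
  have h1 := T_comm R C (R.sq_mem_T j)
  calc n j * (n j * τ * (n j)⁻¹) * (n j)⁻¹ = n j * n j * τ * (n j * n j)⁻¹ := by group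
    _ = τ := by rw [h1]; group

include R C in
theorem n_inv (j : I) : (n j)⁻¹ * τ * n j = n j * τ * (n j)⁻¹ := by
  have h1 := n_sq R C j
  calc (n j)⁻¹ * τ * n j = (n j)⁻¹ * (n j * (n j * τ * (n j)⁻¹) * (n j)⁻¹) * n j := by rw [h1]
    _ = _ := by group

include R C in
theorem Kl.conj_n [Finite W] {j : I} {g : Y} (hg : Kl n X τ j g) : Kl n X τ j (n j * g * (n j)⁻¹) := by
  rcases hg with rfl | ⟨y, hy, rfl⟩
  · right; exact ⟨1, one_mem _, by group⟩
  · have h1 : n j * y * (n j)⁻¹ ∈ X (-sr j) := by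
      have := R.conj_mem (rp_simple cs R.nsys j) (isRoot_sr cs h j) hy
      rwa [rep_simple_sr] at this
    have e : n j * (y * (n j * τ * (n j)⁻¹) * y⁻¹) * (n j)⁻¹ =
        (n j * y * (n j)⁻¹) * τ * (n j * y * (n j)⁻¹)⁻¹ := by
      nth_rewrite 2 [← n_sq R C j]
      group
    rw [e]
    exact Kl.conj_neg R C h1

include R C in
theorem Kl.conj_n' [Finite W] {j : I} {g : Y} (hg : Kl n X τ j g) : Kl n X τ j ((n j)⁻¹ * g * n j) := by
  rcases hg with rfl | ⟨y, hy, rfl⟩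
  · right; exact ⟨1, one_mem _, by rw [n_inv R C j]; group⟩
  · have h1 : (n j)⁻¹ * y * n j ∈ X (-sr j) := by
      have := R.conj_mem' (rp_simple cs R.nsys j) (isRoot_sr cs h j) hy
      rwa [cs.inv_simple, rep_simple_sr] at this
    have e : (n j)⁻¹ * (y * (n j * τ * (n j)⁻¹) * y⁻¹) * n j =
        ((n j)⁻¹ * y * n j) * τ * ((n j)⁻¹ * y * n j)⁻¹ := by group
    rw [e]
    exact Kl.conj_neg R C h1

include R C in
theorem Kl.mul [Finite W] {j : I} {x₀ : Y} (hx₀ : x₀ ∈ X (sr j))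
    (he : x₀ * (n j * τ * (n j)⁻¹) * x₀⁻¹ = n j * τ * (n j)⁻¹ * τ) {g g' : Y} (hg : Kl n X τ j g)
    (hg' : Kl n X τ j g') (hne : g ≠ g') : Kl n X τ j (g * g') := by
  -- multiplication by `τ`
  have key : ∀ {g}, Kl n X τ j g → g ≠ τ → Kl n X τ j (g * τ) := by
    rintro g (rfl | ⟨x, hx, rfl⟩) hgn
    · exact absurd rfl hgn
    · right
      refine ⟨x * x₀, mul_mem hx hx₀, ?_⟩
      have h1 := C.cen _ (inv_mem (X_le_U (isRoot_sr cs h j) (sr_nonneg j) hx))
      calc x * (n j * τ * (n j)⁻¹) * x⁻¹ * τ = x * (n j * τ * (n j)⁻¹) * (x⁻¹ * τ) := by group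
        _ = x * (n j * τ * (n j)⁻¹ * τ) * x⁻¹ := by rw [h1]; group
        _ = x * (x₀ * (n j * τ * (n j)⁻¹) * x₀⁻¹) * x⁻¹ := by rw [he]
        _ = _ := by group
  rcases hg' with rfl | ⟨x, hx, rfl⟩
  · exact key hg hne
  · set σ := n j * τ * (n j)⁻¹ with hσ
    have h1 := Kl.conj_n' R C (Kl.conj_x C hg (inv_mem hx))
    have h2 : (n j)⁻¹ * (x⁻¹ * g * x⁻¹⁻¹) * n j ≠ τ := by
      intro h3
      apply hne
      calc g = x * (n j * ((n j)⁻¹ * (x⁻¹ * g * x⁻¹⁻¹) * n j) * (n j)⁻¹) * x⁻¹ := by group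
        _ = x * σ * x⁻¹ := by rw [h3]
    have h3 := Kl.conj_x C (Kl.conj_n R C (key h1 h2)) hx
    have e : x * (n j * ((n j)⁻¹ * (x⁻¹ * g * x⁻¹⁻¹) * n j * τ) * (n j)⁻¹) * x⁻¹ = g * (x * σ * x⁻¹) := by
      rw [hσ]; group
    rwa [e] at h3

include R C in
theorem card_X [Finite W] [Finite Y] (j : I) (hV : RGD.Sup X (RGD.PosNe cs h j) ≠ ⊥) {g : Y}
    (hg : g ∈ RGD.Sup X (RGD.Pos cs h)) (he : g * (n j * τ * (n j)⁻¹) * g⁻¹ = n j * τ * (n j)⁻¹ * τ) :
    Nat.card (X (sr j)) = 2 := by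
  have : Fact (Nat.Prime 2) := ⟨Nat.prime_two⟩
  set σ := n j * τ * (n j)⁻¹ with hσ
  obtain ⟨x₀, hx₀, v, hv, rfl⟩ := U_mul R j hg
  have he' : x₀ * σ * x₀⁻¹ = σ * τ := by
    have h1 := sigma_comm R C j hv
    rw [← hσ] at h1
    rw [← he]
    calc x₀ * σ * x₀⁻¹ = x₀ * (σ * v) * v⁻¹ * x₀⁻¹ := by group
      _ = x₀ * (v * σ) * v⁻¹ * x₀⁻¹ := by rw [h1]
      _ = _ := by group
  have hσU : σ ∈ RGD.Sup X (RGD.Pos cs h) := V_le_U j (sigma_mem_V R C j hV)
  have hXU := X_le_U (X := X) (isRoot_sr cs h j) (sr_nonneg j)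
  have hsq : ∀ {g}, Kl n X τ j g → g * g = 1 := by
    rintro g (rfl | ⟨x, hx, rfl⟩)
    · exact C.sq
    · calc x * (n j * τ * (n j)⁻¹) * x⁻¹ * (x * (n j * τ * (n j)⁻¹) * x⁻¹) = x * n j * (τ * τ) * (n j)⁻¹ * x⁻¹ := by group
        _ = 1 := by rw [C.sq]; group
  let S : Subgroup Y :=
    { carrier := {g | g = 1 ∨ Kl n X τ j g}
      one_mem' := Or.inl rfl
      mul_mem' := by
        rintro a b (rfl | ha) (rfl | hb)
        · left; rw [one_mul]
        · right; rwa [one_mul]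
        · right; rwa [mul_one]
        · by_cases hab : a = b
          · left; rw [hab]; exact hsq hb
          · right; exact Kl.mul R C hx₀ he' ha hb hab
      inv_mem' := by
        rintro a (rfl | ha)
        · left; exact inv_one
        · right
          rw [inv_eq_of_mul_eq_one_left (hsq ha)]; exact ha }
  have hSU : S ≤ RGD.Sup X (RGD.Pos cs h) := by
    rintro g (rfl | rfl | ⟨x, hx, rfl⟩)
    · exact one_mem _
    · exact C.mem
    · exact mul_mem (mul_mem (hXU hx) hσU) (inv_mem (hXU hx))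
  have hne : ∀ x ∈ X (sr j), x * σ * x⁻¹ ≠ τ := by
    intro x hx h1
    apply n_not_comm R C j
    have h2 := C.cen x (hXU hx)
    have h3 : σ = τ := by
      calc σ = x⁻¹ * (x * σ * x⁻¹) * x := by group
        _ = x⁻¹ * (τ * x) := by rw [h1]; group
        _ = τ := by rw [← h2]; group
    calc n j * τ = σ * n j := by rw [hσ]; group
      _ = τ * n j := by rw [h3]
  have hne1 : ∀ x : Y, x * σ * x⁻¹ ≠ 1 := by
    intro x h1
    apply C.ne
    calc τ = (n j)⁻¹ * x⁻¹ * (x * σ * x⁻¹) * x * n j := by rw [hσ]; group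
      _ = 1 := by rw [h1]; group
  let f : Option (Option (X (sr j))) → S := fun o => match o with
    | none => 1
    | some none => ⟨τ, Or.inr (Or.inl rfl)⟩
    | some (some x) => ⟨x * σ * (x : Y)⁻¹, Or.inr (Or.inr ⟨x, x.2, rfl⟩)⟩
  have hf : Function.Bijective f := by
    constructor
    · rintro (_ | _ | x) (_ | _ | y) hxy
      · rfl
      · exact absurd (congrArg Subtype.val hxy).symm C.ne
      · exact absurd (congrArg Subtype.val hxy).symm (hne1 y)
      · exact absurd (congrArg Subtype.val hxy) C.ne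
      · rfl
      · exact absurd (congrArg Subtype.val hxy).symm (hne y y.2)
      · exact absurd (congrArg Subtype.val hxy) (hne1 x)
      · exact absurd (congrArg Subtype.val hxy) (hne x x.2)
      · have h1 : (x : Y) * σ * (x : Y)⁻¹ = y * σ * (y : Y)⁻¹ := congrArg Subtype.val hxy
        have h2 : (n j)⁻¹ * ((y : Y)⁻¹ * x) * n j ∈ X (-sr j) := by
          have := R.conj_mem' (rp_simple cs R.nsys j) (isRoot_sr cs h j) (mul_mem (inv_mem y.2) x.2)
          rwa [cs.inv_simple, rep_simple_sr] at this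
        have h3 := neg_comm R C j h2 (by
          calc (n j)⁻¹ * ((y : Y)⁻¹ * x) * n j * τ = (n j)⁻¹ * (y : Y)⁻¹ * (x * σ * (x : Y)⁻¹) * x * n j := by
                rw [hσ]; group
            _ = (n j)⁻¹ * (y : Y)⁻¹ * (y * σ * (y : Y)⁻¹) * x * n j := by rw [h1]
            _ = τ * ((n j)⁻¹ * ((y : Y)⁻¹ * x) * n j) := by rw [hσ]; group)
        have h4 : (y : Y)⁻¹ * x = 1 := by
          calc (y : Y)⁻¹ * x = n j * ((n j)⁻¹ * ((y : Y)⁻¹ * x) * n j) * (n j)⁻¹ := by group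
            _ = 1 := by rw [h3]; group
        have h5 : x = y := Subtype.ext (inv_mul_eq_one.1 h4).symm
        rw [h5]
    · rintro ⟨g, rfl | rfl | ⟨x, hx, rfl⟩⟩
      · exact ⟨none, rfl⟩
      · exact ⟨some none, rfl⟩
      · exact ⟨some (some ⟨x, hx⟩), rfl⟩
  have hcard : Nat.card S = Nat.card (X (sr j)) + 2 := by
    rw [← Nat.card_congr (Equiv.ofBijective f hf), Finite.card_option, Finite.card_option]
  obtain ⟨a, ha⟩ := (IsPGroup.iff_card (p := 2)).1 (R.isPGroup_Upos.to_le hSU)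
  obtain ⟨b, hb⟩ := (IsPGroup.iff_card (p := 2)).1 (R.pgrp j)
  rw [ha, hb] at hcard
  have hb0 : b ≠ 0 := by
    rintro rfl
    obtain ⟨u, hu, hu1⟩ := exists_ne_one R j
    rw [pow_zero, Nat.card_eq_one_iff_unique] at hb
    have := hb.1
    exact hu1 (congrArg Subtype.val (Subsingleton.elim (⟨u, hu⟩ : X (sr j)) 1))
  have hb1 : b = 1 := by
    by_contra hcon
    obtain ⟨c, rfl⟩ : ∃ c, b = c + 2 := ⟨b - 2, by omega⟩
    have h1 : 2 ^ (c + 2) = 4 * 2 ^ c := by ring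
    have h2 := Nat.one_le_two_pow (n := c)
    rw [h1] at hcard
    rcases a with _ | _ | a
    · rw [pow_zero] at hcard
      omega
    · rw [zero_add, pow_one] at hcard
      omega
    · have h3 : 2 ^ (a + 2) = 4 * 2 ^ a := by ring
      rw [h3] at hcard
      omega
  rw [hb, hb1, pow_one]

/-! ### the bound -/

include R in
/-- two elements of `U` outside `V_i` differ by an element of `V_i` when `|X_i| = 2` -/
theorem mul_inv_mem_V [Finite W] (i : I) (h2 : Nat.card (X (sr i)) = 2) {g g' : Y}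
    (hg : g ∈ RGD.Sup X (RGD.Pos cs h)) (hg' : g' ∈ RGD.Sup X (RGD.Pos cs h))
    (hn : g ∉ RGD.Sup X (RGD.PosNe cs h i)) (hn' : g' ∉ RGD.Sup X (RGD.PosNe cs h i)) :
    g * g'⁻¹ ∈ RGD.Sup X (RGD.PosNe cs h i) := by
  obtain ⟨x, hx, v, hv, rfl⟩ := U_mul R i hg
  obtain ⟨x', hx', v', hv', rfl⟩ := U_mul R i hg'
  have hx1 : x ≠ 1 := by
    rintro rfl; exact hn (by rwa [one_mul])
  have hx1' : x' ≠ 1 := by
    rintro rfl; exact hn' (by rwa [one_mul])
  have hxx : x = x' := by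
    have hf : Finite (X (sr i)) := Nat.finite_of_card_ne_zero (by rw [h2]; decide)
    obtain ⟨a, b, hab, huniv⟩ := Nat.card_eq_two_iff.1 h2
    have h3 : ∀ z : X (sr i), z = a ∨ z = b := by
      intro z
      have : z ∈ ({a, b} : Set (X (sr i))) := by rw [huniv]; trivial
      simpa using this
    have h4 : ∀ {z : Y} (hz : z ∈ X (sr i)), z ≠ 1 → (⟨z, hz⟩ : X (sr i)) ≠ 1 := fun hz h5 h6 =>
      h5 (congrArg Subtype.val h6)
    have e1 := h4 hx hx1
    have e2 := h4 hx' hx1'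
    apply congrArg Subtype.val (a₁ := (⟨x, hx⟩ : X (sr i))) (a₂ := ⟨x', hx'⟩)
    rcases h3 1 with h5 | h5 <;> rcases h3 ⟨x, hx⟩ with h6 | h6 <;> rcases h3 ⟨x', hx'⟩ with h7 | h7 <;>
      simp_all only [_root_.ne_eq, _root_.Subtype.forall, _root_.not_true_eq_false, _root_.OneMemClass.coe_eq_one, _root_.not_false_eq_true]
  rw [hxx]
  have e : x' * v * (x' * v')⁻¹ = x' * (v * v'⁻¹) * x'⁻¹ := by group
  rw [e]
  exact conj_V R i (X_le_U (isRoot_sr cs h i) (sr_nonneg i) hx') (mul_mem hv (inv_mem hv'))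

open scoped commutatorElement in
include R C in
theorem card_U_le [Finite W] [Finite Y] (hV : ∀ i, RGD.Sup X (RGD.PosNe cs h i) ≠ ⊥) :
    Nat.card (RGD.Sup X (RGD.Pos cs h)) ≤ 8 := by
  obtain ⟨j, i, hji⟩ := exists_pair R C hV
  have hsj := sigma_mem_V R C j (hV j)
  have hsi := sigma_mem_V R C i (hV i)
  have hcj : ∀ v ∈ RGD.Sup X (RGD.PosNe cs h j), v * (n j * τ * (n j)⁻¹) = n j * τ * (n j)⁻¹ * v :=
    fun v hv => sigma_comm R C j hv
  have hci : ∀ v ∈ RGD.Sup X (RGD.PosNe cs h i), v * (n i * τ * (n i)⁻¹) = n i * τ * (n i)⁻¹ * v :=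
    fun v hv => sigma_comm R C i hv
  have hsqj := conj_sq C (n j)
  have hsqi := conj_sq C (n i)
  have hnj : ∀ v ∈ RGD.Sup X (RGD.PosNe cs h j), n j * v * (n j)⁻¹ ∈ RGD.Sup X (RGD.PosNe cs h j) :=
    fun v hv => conj_n_V R j hv
  generalize hσj : n j * τ * (n j)⁻¹ = a at hji hsj hcj hsqj
  generalize hσi : n i * τ * (n i)⁻¹ = b at hji hsi hci hsqi
  set U := RGD.Sup X (RGD.Pos cs h) with hU
  set Vj := RGD.Sup X (RGD.PosNe cs h j) with hVj
  set Vi := RGD.Sup X (RGD.PosNe cs h i) with hVi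
  have haU : a ∈ U := V_le_U j hsj
  have hbU : b ∈ U := V_le_U i hsi
  have ha1 : a⁻¹ = a := by rw [inv_eq_iff_mul_eq_one]; exact hsqj
  have hb1 : b⁻¹ = b := by rw [inv_eq_iff_mul_eq_one]; exact hsqi
  have hab : ¬ a * b = b * a := by
    intro h1
    apply C.ne
    rw [← hji, h1]; group
  have hjX : Nat.card (X (sr j)) = 2 := by
    refine card_X R C j (hV j) hbU ?_
    rw [hσj]
    have h1 := C.cen a haU
    calc b * a * b⁻¹ = a * (a⁻¹ * b * a * b⁻¹) := by group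
      _ = a * (a * b * a⁻¹ * b⁻¹) := by rw [ha1]
      _ = a * τ := by rw [hji]
  have hiX : Nat.card (X (sr i)) = 2 := by
    refine card_X R C i (hV i) haU ?_
    rw [hσi]
    calc a * b * a⁻¹ = (a * b * a⁻¹ * b⁻¹) * b := by group
      _ = τ * b := by rw [hji]
      _ = b * τ := (C.cen b hbU).symm
  have haVi : a ∉ Vi := fun h1 => hab (hci a h1)
  have hbVj : b ∉ Vj := fun h1 => hab (hcj b h1).symm
  -- `Q = V_i ∩ V_j`
  have hdj : ∀ v ∈ Vj, v ∈ Vj ⊓ Vi ∨ v * a⁻¹ ∈ Vj ⊓ Vi := by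
    intro v hv
    by_cases h1 : v ∈ Vi
    · exact Or.inl ⟨hv, h1⟩
    · exact Or.inr (mem_inf.2 ⟨mul_mem hv (inv_mem hsj), mul_inv_mem_V R i hiX (V_le_U j hv) haU h1 haVi⟩)
  have hdi : ∀ v ∈ Vi, v ∈ Vj ⊓ Vi ∨ v * b⁻¹ ∈ Vj ⊓ Vi := by
    intro v hv
    by_cases h1 : v ∈ Vj
    · exact Or.inl ⟨h1, hv⟩
    · exact Or.inr (mem_inf.2 ⟨mul_inv_mem_V R j hjX (V_le_U i hv) hbU h1 hbVj, mul_mem hv (inv_mem hsi)⟩)
  have hdU : ∀ u ∈ U, u ∈ Vj ∨ u * b⁻¹ ∈ Vj := by
    intro u hu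
    by_cases h1 : u ∈ Vj
    · exact Or.inl h1
    · exact Or.inr (mul_inv_mem_V R j hjX hu hbU h1 hbVj)
  -- commutators
  have hcomm : ∀ {V : Subgroup Y} {c : Y}, (∀ v ∈ V, v * c = c * v) → (∀ v ∈ V, v ∈ Vj ⊓ Vi ∨ v * c⁻¹ ∈ Vj ⊓ Vi) →
      c ∈ V → ⁅V, V⁆ ≤ ⁅Vj ⊓ Vi, Vj ⊓ Vi⁆ := by
    intro V c hc hd hcV
    rw [commutator_le]
    intro p hp q hq
    have e1 : ∀ {p q : Y}, p ∈ V → q ∈ V → ⁅p * c⁻¹, q⁆ = ⁅p, q⁆ := by
      intro p q hp hq
      have h2 := hc _ (inv_mem hp)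
      have h3 := hc _ hq
      rw [commutatorElement_def, commutatorElement_def]
      calc p * c⁻¹ * q * (p * c⁻¹)⁻¹ * q⁻¹ = p * c⁻¹ * (q * c) * p⁻¹ * q⁻¹ := by group
        _ = p * c⁻¹ * (c * q) * p⁻¹ * q⁻¹ := by rw [h3]
        _ = _ := by group
    have e2 : ∀ {p q : Y}, p ∈ V → q ∈ V → ⁅p, q * c⁻¹⁆ = ⁅p, q⁆ := by
      intro p q hp hq
      rw [← commutatorElement_inv, e1 hq hp, commutatorElement_inv]
    have e3 : ∃ p' ∈ Vj ⊓ Vi, ∃ q' ∈ Vj ⊓ Vi, ⁅p, q⁆ = ⁅p', q'⁆ := by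
      rcases hd p hp with h1 | h1 <;> rcases hd q hq with h2 | h2
      · exact ⟨p, h1, q, h2, rfl⟩
      · exact ⟨p, h1, _, h2, (e2 hp hq).symm⟩
      · exact ⟨_, h1, q, h2, (e1 hp hq).symm⟩
      · exact ⟨_, h1, _, h2, by rw [e1 hp (mul_mem hq (inv_mem hcV)), e2 hp hq]⟩
    obtain ⟨p', hp', q', hq', e⟩ := e3
    rw [e]
    exact commutator_mem_commutator hp' hq'
  have hNj : ⁅Vj, Vj⁆ = ⁅Vj ⊓ Vi, Vj ⊓ Vi⁆ :=
    le_antisymm (hcomm hcj hdj hsj) (commutator_mono inf_le_left inf_le_left)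
  have hQab : ⁅Vj ⊓ Vi, Vj ⊓ Vi⁆ = ⊥ := by
    by_contra hN0
    have hNU : ⁅Vj ⊓ Vi, Vj ⊓ Vi⁆ ≤ Vj ⊓ Vi := by
      rw [commutator_le]
      intro p hp q hq
      rw [commutatorElement_def]
      exact mul_mem (mul_mem (mul_mem hp hq) (inv_mem hp)) (inv_mem hq)
    have hτN : τ ∈ ⁅Vj ⊓ Vi, Vj ⊓ Vi⁆ := by
      refine mem_of_normal R C (hNU.trans (inf_le_left.trans (V_le_U j))) hN0 ?_
      intro u hu x hx
      rw [← hNj] at hx ⊢
      have h1 : u * x * u⁻¹ ∈ cj u ⁅Vj, Vj⁆ := conj_mem_cj.2 hx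
      unfold cj at h1
      rw [map_commutator] at h1
      refine commutator_mono ?_ ?_ h1
      all_goals
        rintro _ ⟨y, hy, rfl⟩
        exact conj_V R j hu hy
    have hσN : a ∈ ⁅Vj ⊓ Vi, Vj ⊓ Vi⁆ := by
      rw [← hNj] at hτN ⊢
      have h1 : n j * τ * (n j)⁻¹ ∈ cj (n j) ⁅Vj, Vj⁆ := conj_mem_cj.2 hτN
      rw [hσj] at h1
      unfold cj at h1
      rw [map_commutator] at h1
      refine commutator_mono ?_ ?_ h1
      all_goals
        rintro _ ⟨y, hy, rfl⟩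
        exact hnj y hy
    exact haVi (hNU hσN).2
  -- `Q` is central in `U`
  have hQc : ∀ q ∈ Vj ⊓ Vi, ∀ u ∈ U, u * q = q * u := by
    intro q hq u hu
    have h1 : ∀ v ∈ Vj ⊓ Vi, v * q = q * v := by
      intro v hv
      have h2 := commutator_mem_commutator hv hq
      rw [hQab, mem_bot, commutatorElement_eq_one_iff_mul_comm] at h2
      exact h2
    have h2 : ∀ v ∈ Vj, v * q = q * v := by
      intro v hv
      rcases hdj v hv with h3 | h3
      · exact h1 v h3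
      · have h4 := h1 _ h3
        have h5 := hcj q hq.1
        calc v * q = v * a⁻¹ * (a * q) := by group
          _ = (v * a⁻¹ * q) * a := by rw [← h5]; group
          _ = q * v := by rw [h4]; group
    rcases hdU u hu with h3 | h3
    · exact h2 u h3
    · have h4 := h2 _ h3
      have h5 := hci q hq.2
      calc u * q = u * b⁻¹ * (b * q) := by group
        _ = (u * b⁻¹ * q) * b := by rw [← h5]; group
        _ = q * u := by rw [h4]; group
  have hQ2 : ∀ q ∈ Vj ⊓ Vi, q = 1 ∨ q = τ := fun q hq => C.zz q (V_le_U j hq.1) (hQc q hq)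
  -- counting
  classical
  have hsub : (U : Set Y) ⊆ ((({1, τ, a, τ * a, b, τ * b, a * b, τ * a * b} : Finset Y)) : Set Y) := by
    intro u hu
    have h1 : ∀ v ∈ Vj, v = 1 ∨ v = τ ∨ v = a ∨ v = τ * a := by
      intro v hv
      rcases hdj v hv with h3 | h3
      · rcases hQ2 v h3 with h4 | h4
        · exact Or.inl h4
        · exact Or.inr (Or.inl h4)
      · rcases hQ2 _ h3 with h4 | h4
        · exact Or.inr (Or.inr (Or.inl (mul_inv_eq_one.1 h4)))
        · exact Or.inr (Or.inr (Or.inr (mul_inv_eq_iff_eq_mul.1 h4)))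
    rcases hdU u hu with h3 | h3
    · rcases h1 u h3 with h4 | h4 | h4 | h4 <;> simp only [h4, _root_.Finset.coe_insert, _root_.Finset.coe_singleton, _root_.Set.mem_insert_iff, _root_.Set.mem_singleton_iff, _root_.true_or, _root_.left_eq_mul, _root_.or_true, _root_.right_eq_mul, _root_.mul_eq_left, _root_.mul_eq_right, _root_.mul_right_inj]
    · rcases h1 _ h3 with h4 | h4 | h4 | h4 <;> rw [mul_inv_eq_iff_eq_mul] at h4 <;> simp only [h4, _root_.Finset.coe_insert, _root_.Finset.coe_singleton, _root_.one_mul, _root_.Set.mem_insert_iff, _root_.right_eq_mul, _root_.Set.mem_singleton_iff, _root_.true_or, _root_.or_true, _root_.mul_eq_left, _root_.mul_right_inj, _root_.mul_eq_right, _root_.mul_left_inj, _root_.left_eq_mul]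
  have h1 := Set.ncard_le_ncard hsub (Finset.finite_toSet _)
  rw [Set.ncard_coe_finset] at h1
  have h2 : (U : Set Y).ncard = Nat.card U := rfl
  rw [h2] at h1
  exact h1.trans ((Finset.card_insert_le _ _).trans (Nat.succ_le_succ ((Finset.card_insert_le _ _).trans
    (Nat.succ_le_succ Finset.card_le_six))))

end Cfsg.Agent.H762.Closed
end

-- part: H762/Closed
section
/-!
helper762 (for S3217): `closed_small` : if `Z(S) = ⟨τ⟩` for a Sylow 2-subgroup `S` of a group of Lie type of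
characteristic two and `C(τ)` normalises `S` then `|S| ≤ 8`.
-/

set_option autoImplicit false

namespace Cfsg.Agent.H762

open CoxeterSystem Cfsg.Agent.ChevalleyStructure.CoxeterGeom Cfsg.Agent.Tits.Roots Cfsg.Agent.Tits.Core
  Cfsg.Agent.Tits.RootComb Cfsg.Agent.Nodes.Comb Cfsg.Agent.Nodes.Reps Cfsg.Agent.Nodes.BNOf
  Cfsg.Agent.Nodes.StabComb Cfsg.Agent.Nodes.Bruhat Cfsg.Agent.Nodes.LeviDec Cfsg.Agent.Nodes.OppDec
open Subgroup Closed

namespace Closed

/-- two involutions are conjugate, or some involution commutes with both -/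
theorem dihedral {G : Type*} [Group G] [Finite G] {s t : G} (hs : s * s = 1) (ht : t * t = 1) :
    (∃ g, g * s * g⁻¹ = t) ∨ ∃ z, z ≠ 1 ∧ z * z = 1 ∧ z * s = s * z ∧ z * t = t * z := by
  set r := t * s with hr
  have hs1 : s⁻¹ = s := by rw [inv_eq_iff_mul_eq_one]; exact hs
  have ht1 : t⁻¹ = t := by rw [inv_eq_iff_mul_eq_one]; exact ht
  have hri : r⁻¹ = s * t := by rw [hr, mul_inv_rev, hs1, ht1]
  have h1 : SemiconjBy s r⁻¹ r := by
    show s * r⁻¹ = r * s
    rw [hri, hr, ← mul_assoc, hs, one_mul, mul_assoc, hs, mul_one]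
  have htr : t = r * s := by rw [hr, mul_assoc, hs, mul_one]
  have hpos := orderOf_pos r
  rcases Nat.even_or_odd' (orderOf r) with ⟨k, hk | hk⟩
  · right
    have hk0 : k ≠ 0 := by rintro rfl; omega
    have h2 : r ^ k * r ^ k = 1 := by rw [← pow_add, ← two_mul, ← hk, pow_orderOf_eq_one]
    have h3 : s * (r⁻¹) ^ k = r ^ k * s := h1.pow_right k
    have h4 : (r⁻¹) ^ k = r ^ k := by
      rw [inv_pow, inv_eq_iff_mul_eq_one]; exact h2
    rw [h4] at h3
    refine ⟨r ^ k, pow_ne_one_of_lt_orderOf hk0 (by omega), h2, h3.symm, ?_⟩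
    have h5 : r ^ k * r = r * r ^ k := (pow_mul_comm' r k)
    calc r ^ k * t = r ^ k * r * s := by rw [htr]; group
      _ = r * (r ^ k * s) := by rw [h5]; group
      _ = r * (s * r ^ k) := by rw [h3]
      _ = t * r ^ k := by rw [htr]; group
  · left
    refine ⟨r ^ (k + 1), ?_⟩
    have h3 : s * (r⁻¹) ^ (k + 1) = r ^ (k + 1) * s := h1.pow_right (k + 1)
    have h4 : r ^ (k + 1) * r ^ (k + 1) = r := by
      rw [← pow_add]
      have e : k + 1 + (k + 1) = orderOf r + 1 := by omega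
      rw [e, pow_succ, pow_orderOf_eq_one, one_mul]
    rw [mul_assoc, ← inv_pow, h3, ← mul_assoc, h4, ← htr]

variable {I W Y : Type*} [Fintype I] [DecidableEq I] [Group W] [Group Y] {M : CoxeterMatrix I}
  {cs : CoxeterSystem M W} {A : I → I → ℤ} {h : IsCartan M A} {T : Subgroup Y} {n : I → Y}
  {X : (I → ℤ) → Subgroup Y}

/-- rank one -/
theorem rank_one [Finite W] [Finite Y] (R : RGD cs h 2 T n X) {τ : Y} (C : Ctx cs h X τ)
    (hGG : GG cs h T X = ⊤) (j : I) (hV : RGD.Sup X (RGD.PosNe cs h j) = ⊥) {t : Y}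
    (ht : t ∈ RGD.Sup X (RGD.Pos cs h)) (ht2 : t * t = 1) (ht1 : t ≠ 1) (htτ : t ≠ τ) : False := by
  have hU : RGD.Sup X (RGD.Pos cs h) = X (sr j) := by rw [R.Upos_eq j, hV, sup_bot_eq]
  have hI : ∀ i, i = j := by
    intro i
    by_contra hij
    apply X_ne_bot R (isRoot_sr cs h i)
    rw [eq_bot_iff, ← hV]
    refine RGD.le_Sup (S := RGD.PosNe cs h j) ⟨isRoot_sr cs h i, sr_nonneg i, fun he => ?_⟩
    have h1 := congrFun he i
    rw [sr_self, sr_ne hij] at h1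
    exact one_ne_zero h1
  have hW : ∀ w : W, w = 1 ∨ w = cs.simple j := by
    intro w
    by_cases hw : w = 1
    · exact Or.inl hw
    right
    obtain ⟨i, hi⟩ := cs.exists_leftDescent_of_ne_one hw
    rw [hI i] at hi
    have hi' : cs.length (cs.simple j * w) < cs.length w := hi
    by_contra hcon
    have h1 : cs.simple j * w ≠ 1 := by
      intro h1
      apply hcon
      rw [← simple_mul_simple_cancel_left cs (w := w) j, h1, mul_one]
    obtain ⟨i', hi2⟩ := cs.exists_leftDescent_of_ne_one h1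
    rw [hI i'] at hi2
    have hi3 : cs.length (cs.simple j * (cs.simple j * w)) < cs.length (cs.simple j * w) := hi2
    rw [simple_mul_simple_cancel_left] at hi3
    omega
  have hneg : ∀ {y}, y ∈ X (sr j) → n j * y * (n j)⁻¹ ∈ X (-sr j) := by
    intro y hy
    have := R.conj_mem (rp_simple cs R.nsys j) (isRoot_sr cs h j) hy
    rwa [rep_simple_sr] at this
  have hinf : ∀ {y}, y ∈ RGD.Sup X (RGD.Pos cs h) → y ∈ X (-sr j) → y = 1 := by
    intro y h1 h2
    refine eq_one_of_mem_U_of_mem_BN R h1 (X_le_BN (isRoot_sr cs h j).neg ?_ h2)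
    exact neg_nonpos.2 (sr_nonneg j)
  have hBn : ∀ {b y}, b ∈ RGD.B cs h T X → y ∈ RGD.Sup X (RGD.Pos cs h) →
      b * y * b⁻¹ ∈ RGD.Sup X (RGD.Pos cs h) := fun hb hy =>
    (mem_normalizer_iff.1 (R.B_le_normalizer_U hb) _).1 hy
  have hBτ : ∀ {b}, b ∈ RGD.B cs h T X → b * τ * b⁻¹ = τ := by
    intro b hb
    obtain ⟨t', ht', u, hu, rfl⟩ := R.mem_B.1 hb
    have e1 := T_comm R C ht'
    have e2 := C.cen u hu
    calc t' * u * τ * (t' * u)⁻¹ = t' * (u * τ) * u⁻¹ * t'⁻¹ := by group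
      _ = t' * τ * t'⁻¹ := by rw [e2]; group
      _ = τ := by rw [e1]; group
  have hσ : n j * τ * (n j)⁻¹ ∈ X (-sr j) := hneg (by rw [← hU]; exact C.mem)
  have hσ1 : n j * τ * (n j)⁻¹ ≠ 1 := by
    intro h1
    apply C.ne
    calc τ = (n j)⁻¹ * (n j * τ * (n j)⁻¹) * n j := by group
      _ = 1 := by rw [h1]; group
  rcases dihedral (conj_sq C (n j)) ht2 with ⟨g, hg⟩ | ⟨z, hz1, hz2, hzs, hzt⟩
  · -- `t` is conjugate to `τ`
    have hg2 : (g * n j) * τ * (g * n j)⁻¹ = t := by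
      rw [← hg]; group
    obtain ⟨w, hw⟩ := (mem_GG R).1 (show g * n j ∈ GG cs h T X by rw [hGG]; exact mem_top _)
    rcases hW w with rfl | rfl
    · apply htτ
      rw [← hg2]
      exact hBτ hw.mem_of_one
    · obtain ⟨b₁, hb₁, k, hk, b₂, hb₂, e⟩ := hw
      rw [e] at hg2
      have h1 : b₁ * (k * τ * k⁻¹) * b₁⁻¹ = t := by
        rw [← hg2]
        nth_rewrite 1 [← hBτ hb₂]
        group
      rw [conj_unique R C hk (rp_simple cs R.nsys j)] at h1
      have h2 : b₁⁻¹ * t * b₁⁻¹⁻¹ ∈ RGD.Sup X (RGD.Pos cs h) := hBn (inv_mem hb₁) ht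
      have h3 : b₁⁻¹ * t * b₁⁻¹⁻¹ = n j * τ * (n j)⁻¹ := by rw [← h1]; group
      rw [h3] at h2
      exact hσ1 (hinf h2 hσ)
  · -- an involution commuting with `t` and a conjugate of `τ`
    have h1 : (n j)⁻¹ * z * n j ∈ RGD.Sup X (RGD.Pos cs h) := by
      apply C.max
      · calc (n j)⁻¹ * z * n j * τ = (n j)⁻¹ * (z * (n j * τ * (n j)⁻¹)) * n j := by group
          _ = (n j)⁻¹ * (n j * τ * (n j)⁻¹ * z) * n j := by rw [hzs]
          _ = τ * ((n j)⁻¹ * z * n j) := by group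
      · calc (n j)⁻¹ * z * n j * ((n j)⁻¹ * z * n j) = (n j)⁻¹ * (z * z) * n j := by group
          _ = 1 := by rw [hz2]; group
    rw [hU] at h1
    have h2 : z ∈ X (-sr j) := by
      have := hneg h1
      have e : n j * ((n j)⁻¹ * z * n j) * (n j)⁻¹ = z := by group
      rwa [e] at this
    obtain ⟨a, ha, t', ht', b, hb, e⟩ := R.rk1 j z h2 hz1
    rw [hU] at ht
    have h3 : b * t * b⁻¹ ∈ X (sr j) := mul_mem (mul_mem hb ht) (inv_mem hb)
    have h4 := hneg h3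
    have h5 : t' * (n j * (b * t * b⁻¹) * (n j)⁻¹) * t'⁻¹ ∈ X (-sr j) := by
      have h6 := R.tor _ (isRoot_sr cs h j).neg t' ht'
      rw [← h6]
      exact conj_mem_cj.2 h4
    have h6 : a⁻¹ * t * a = t' * (n j * (b * t * b⁻¹) * (n j)⁻¹) * t'⁻¹ := by
      calc a⁻¹ * t * a = a⁻¹ * (z * t * z⁻¹) * a := by rw [hzt]; group
        _ = _ := by rw [e]; group
    rw [← h6] at h5
    have h7 : a⁻¹ * t * a ∈ RGD.Sup X (RGD.Pos cs h) := by
      rw [hU]; exact mul_mem (mul_mem (inv_mem ha) ht) ha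
    have h8 := hinf h7 h5
    apply ht1
    calc t = a * (a⁻¹ * t * a) * a⁻¹ := by group
      _ = 1 := by rw [h8]; group

end Closed

theorem closed_small {M : Type*} [Group M] [Finite M] (h : HasThree M) (S : Sylow 2 M) {τ : M} (h1 : τ ≠ 1)
    (hτ : τ ∈ (S : Subgroup M)) (hτc : ∀ s ∈ (S : Subgroup M), s * τ = τ * s)
    (hZ : ∀ x ∈ (S : Subgroup M), (∀ s ∈ (S : Subgroup M), s * x = x * s) → x = 1 ∨ x = τ)
    (hnorm : ∀ g, g * τ = τ * g → ∀ s ∈ (S : Subgroup M), g * s * g⁻¹ ∈ (S : Subgroup M))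
    (hinv : ∃ t ∈ (S : Subgroup M), t * t = 1 ∧ t ≠ 1 ∧ t ≠ τ) : Nat.card (S : Subgroup M) ≤ 8 := by
  have hfact : Fact (Nat.Prime 2) := ⟨Nat.prime_two⟩
  obtain ⟨l, Mx, A, h, T, n, X, hW, R, hX, -⟩ := h
  have hGG : GG Mx.toCoxeterSystem h T X = ⊤ := by
    rw [eq_top_iff, ← hX]
    exact le_sup_right
  have hUp : IsPGroup 2 (RGD.Sup X (RGD.Pos Mx.toCoxeterSystem h)) := R.isPGroup_Upos
  have hUi : ¬ 2 ∣ (RGD.Sup X (RGD.Pos Mx.toCoxeterSystem h)).index := by
    have h1 := KFacts.RgdSyl.not_dvd_relIndex R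
    rwa [hGG, relIndex_top_right] at h1
  let P : Sylow 2 M := hUp.toSylow hUi
  obtain ⟨g, hg⟩ := MulAction.exists_smul_eq M S P
  have hmem : ∀ x, x ∈ RGD.Sup X (RGD.Pos Mx.toCoxeterSystem h) ↔ g⁻¹ * x * g ∈ (S : Subgroup M) := by
    intro x
    show x ∈ (P : Subgroup M) ↔ _
    rw [← hg, Sylow.coe_subgroup_smul, Subgroup.mem_pointwise_smul_iff_inv_smul_mem]
    rw [← map_inv]
    show (MulAut.conj g⁻¹) x ∈ _ ↔ _
    rw [MulAut.conj_apply, inv_inv]
  have hmem' : ∀ x, x ∈ (S : Subgroup M) ↔ g * x * g⁻¹ ∈ RGD.Sup X (RGD.Pos Mx.toCoxeterSystem h) := by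
    intro x
    rw [hmem]
    have e : g⁻¹ * (g * x * g⁻¹) * g = x := by group
    rw [e]
  have hconj : ∀ x, x * (g * τ * g⁻¹) = (g * τ * g⁻¹) * x ↔ (g⁻¹ * x * g) * τ = τ * (g⁻¹ * x * g) := by
    intro x
    constructor
    · intro h1
      calc g⁻¹ * x * g * τ = g⁻¹ * (x * (g * τ * g⁻¹)) * g := by group
        _ = g⁻¹ * ((g * τ * g⁻¹) * x) * g := by rw [h1]
        _ = τ * (g⁻¹ * x * g) := by group
    · intro h1
      calc x * (g * τ * g⁻¹) = g * (g⁻¹ * x * g * τ) * g⁻¹ := by group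
        _ = g * (τ * (g⁻¹ * x * g)) * g⁻¹ := by rw [h1]
        _ = (g * τ * g⁻¹) * x := by group
  have hsq : τ * τ = 1 := by
    rcases hZ (τ * τ) (mul_mem hτ hτ) (fun s hs => by
      rw [← mul_assoc, hτc s hs, mul_assoc, hτc s hs, ← mul_assoc]) with h2 | h2
    · exact h2
    · exact absurd (mul_eq_left.1 h2) h1
  have C : Ctx Mx.toCoxeterSystem h X (g * τ * g⁻¹) := by
    refine ⟨?_, ?_, (hmem' τ).1 hτ, ?_, ?_, ?_, ?_⟩
    · intro h2
      apply h1
      calc τ = g⁻¹ * (g * τ * g⁻¹) * g := by group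
        _ = 1 := by rw [h2]; group
    · calc g * τ * g⁻¹ * (g * τ * g⁻¹) = g * (τ * τ) * g⁻¹ := by group
        _ = 1 := by rw [hsq]; group
    · intro u hu
      exact (hconj u).2 (hτc _ ((hmem u).1 hu))
    · intro z hz hzc
      have h2 := hZ _ ((hmem z).1 hz) (fun s hs => by
        have h3 := hzc _ ((hmem' s).1 hs)
        calc s * (g⁻¹ * z * g) = g⁻¹ * (g * s * g⁻¹ * z) * g := by group
          _ = g⁻¹ * (z * (g * s * g⁻¹)) * g := by rw [h3]
          _ = g⁻¹ * z * g * s := by group)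
      rcases h2 with h2 | h2
      · left
        calc z = g * (g⁻¹ * z * g) * g⁻¹ := by group
          _ = 1 := by rw [h2]; group
      · right
        rw [← h2]; group
    · intro k hk u hu
      rw [hmem]
      have h2 := hnorm _ ((hconj k).1 hk) _ ((hmem u).1 hu)
      have e : g⁻¹ * k * g * (g⁻¹ * u * g) * (g⁻¹ * k * g)⁻¹ = g⁻¹ * (k * u * k⁻¹) * g := by group
      rwa [e] at h2
    · intro k hk hk2
      rw [hmem]
      set c := g⁻¹ * k * g with hc
      have hc2 : c * c = 1 := by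
        rw [hc]
        calc g⁻¹ * k * g * (g⁻¹ * k * g) = g⁻¹ * (k * k) * g := by group
          _ = 1 := by rw [hk2]; group
      have hcn : zpowers c ≤ normalizer ((S : Subgroup M) : Set M) := by
        rw [zpowers_le, mem_normalizer_iff]
        have h2 := hnorm c ((hconj k).1 hk)
        intro s
        refine ⟨h2 s, fun hs => ?_⟩
        have h3 := h2 _ hs
        have hci : c⁻¹ = c := by rw [inv_eq_iff_mul_eq_one]; exact hc2
        have e : c * (c * s * c⁻¹) * c⁻¹ = (c * c) * s * (c * c)⁻¹ := by group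
        rw [e, hc2] at h3
        simpa using h3
      have hcp : IsPGroup 2 (zpowers c) := by
        apply IsPGroup.of_card_dvd_pow (n := 1)
        rw [Nat.card_zpowers, pow_one]
        apply orderOf_dvd_of_pow_eq_one
        rw [pow_two]; exact hc2
      have h2 : IsPGroup 2 ((S : Subgroup M) ⊔ zpowers c : Subgroup M) :=
        IsPGroup.to_sup_of_normal_left' S.isPGroup' hcp hcn
      have h3 := S.is_maximal' h2 le_sup_left
      have h4 : c ∈ ((S : Subgroup M) ⊔ zpowers c : Subgroup M) := mem_sup_right (mem_zpowers c)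
      rw [h3] at h4
      exact h4
  have hcard : Nat.card (S : Subgroup M) = Nat.card (RGD.Sup X (RGD.Pos Mx.toCoxeterSystem h)) :=
    Nat.card_congr
      { toFun := fun x => ⟨g * x * g⁻¹, (hmem' x).1 x.2⟩
        invFun := fun x => ⟨g⁻¹ * x * g, (hmem x).1 x.2⟩
        left_inv := fun x => Subtype.ext (by show g⁻¹ * (g * x * g⁻¹) * g = x; group)
        right_inv := fun x => Subtype.ext (by show g * (g⁻¹ * x * g) * g⁻¹ = x; group) }
  rw [hcard]
  by_cases hV : ∀ i, RGD.Sup X (RGD.PosNe Mx.toCoxeterSystem h i) ≠ ⊥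
  · exact card_U_le R C hV
  · push Not at hV
    obtain ⟨j, hj⟩ := hV
    obtain ⟨t, ht, ht2, ht1, htτ⟩ := hinv
    exfalso
    refine rank_one R C hGG j hj ((hmem' t).1 ht) ?_ ?_ ?_
    · calc g * t * g⁻¹ * (g * t * g⁻¹) = g * (t * t) * g⁻¹ := by group
        _ = 1 := by rw [ht2]; group
    · intro h2
      apply ht1
      calc t = g⁻¹ * (g * t * g⁻¹) * g := by group
        _ = 1 := by rw [h2]; group
    · intro h2
      apply htτ
      calc t = g⁻¹ * (g * t * g⁻¹) * g := by group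
        _ = τ := by rw [h2]; group

end Cfsg.Agent.H762
end

-- part: H221/TitsAut
section
/-!
# Almost simple groups with socle the Tits group and even index are `²F₄(2)` (helper221, for S3217)
-/

set_option autoImplicit false

namespace Cfsg.Agent.H221.TitsAut

open Subgroup Cfsg Cfsg.Lie Cfsg.Lie.ChevalleyDatum
open Cfsg.Agent.TypeD4Two.FieldIso (mapW genSubgroup_map map_injective')
open Cfsg.Agent.TitsK

section Congr

variable {F K : Type*} [Field F] [Field K] (σ : F ≃+* K)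

theorem f4Words_map (e : ℕ) : mapW σ '' f4Words F e = f4Words K e := by
  apply Set.eq_of_subset_of_subset
  · rintro _ ⟨w, hw, rfl⟩
    rcases hw with ⟨t, rfl | rfl⟩ | ⟨t, u, rfl | rfl⟩
    · exact Or.inl ⟨σ t, Or.inl (by simp [mapW, f4PairWord])⟩
    · exact Or.inl ⟨σ t, Or.inr (by simp [mapW, f4PairWord])⟩
    · exact Or.inr ⟨σ t, σ u, Or.inl (by simp only [mapW, b2ClassWord, _root_.Cfsg.Agent.TypeD4Two.FieldIso.mapW, _root_.Cfsg.Lie.b2ClassWord, _root_.List.map_cons, _root_.map_pow, _root_.map_add, _root_.List.map_nil])⟩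
    · exact Or.inr ⟨σ t, σ u, Or.inr (by simp [mapW, b2ClassWord])⟩
  · rintro w hw
    rcases hw with ⟨t, rfl | rfl⟩ | ⟨t, u, rfl | rfl⟩
    · exact ⟨f4PairWord e f4p1 f4p4 (σ.symm t), Or.inl ⟨σ.symm t, Or.inl rfl⟩, by simp [mapW, f4PairWord]⟩
    · exact ⟨f4PairWord e f4m1 f4m4 (σ.symm t), Or.inl ⟨σ.symm t, Or.inr rfl⟩, by simp [mapW, f4PairWord]⟩
    · exact ⟨b2ClassWord e f4a f4b f4ab f4aab (σ.symm t) (σ.symm u), Or.inr ⟨σ.symm t, σ.symm u, Or.inl rfl⟩,
        by simp [mapW, b2ClassWord]⟩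
    · exact ⟨b2ClassWord e f4ma f4mb f4mab f4maab (σ.symm t) (σ.symm u), Or.inr ⟨σ.symm t, σ.symm u, Or.inr rfl⟩,
        by simp [mapW, b2ClassWord]⟩

/-- `²F₄` over isomorphic fields. -/
noncomputable def twEquiv (e : ℕ) : ↥(twistedF4 F e) ≃* ↥(twistedF4 K e) :=
  ((twistedF4 F e).equivMapOfInjective _ (map_injective' σ chevF4)).trans
    (MulEquiv.subgroupCongr (by
      unfold twistedF4
      rw [genSubgroup_map, f4Words_map]))

end Congr

theorem equiv_HT {K : Type*} [Field K] [Fintype K] (hK : Fintype.card K = 2) :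
    Nonempty (↥HT ≃* ↥(Cfsg.Lie.twistedF4 K 1)) := by
  have h2 : Fintype.card (ZMod 2) = Fintype.card K := by rw [hK, ZMod.card]
  have σ : ZMod 2 ≃+* K := FiniteField.ringEquivOfCardEq h2
  have e1 : ↥HT ≃* ↥(HT.map (chevF4.group (ZMod 2)).subtype) :=
    HT.equivMapOfInjective _ (Subgroup.subtype_injective _)
  exact ⟨(e1.trans (MulEquiv.subgroupCongr map_HT)).trans (twEquiv σ 1)⟩

theorem tits_aut {G : Type*} [Group G] [Finite G] {M : Subgroup G} (hM : M.Normal)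
    (hc : Subgroup.centralizer (M : Set G) = ⊥) (hT : Cfsg.Lie.IsoTits ↥M) (h2 : 2 ∣ M.index)
    {K : Type*} [Field K] [Fintype K] (m : ℕ) (hm : m = 0) (hK : Fintype.card K = 2 ^ (2 * m + 1)) :
    Nonempty (G ≃* ↥(Cfsg.Lie.twistedF4 K (2 ^ m))) := by
  subst hm
  rw [pow_zero]
  obtain ⟨e⟩ := equiv_HT (K := K) (by rw [hK]; norm_num)
  have hle : M.index ≤ 2 := index_le hT M ⟨MulEquiv.refl _⟩ hc
  have hne : M.index ≠ 0 := Subgroup.index_ne_zero_of_finite
  have hi : M.index = 2 := by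
    obtain ⟨k, hk⟩ := h2
    omega
  obtain ⟨f⟩ := hT
  obtain ⟨e0⟩ := exists_equiv
  obtain ⟨Φ, hinj, hH⟩ := tdata.exists_embed M ⟨f.trans e0⟩ hc
  have hcard : Nat.card G = Nat.card ↥HT := by
    rw [← M.card_mul_index, hi, Nat.card_congr (f.trans e0).toEquiv]
    exact card_of_relIndex TT_le 2 relIndex_TT
  have hr : Φ.range = HT := by
    have h1 : Φ.range ≤ HT := by
      rintro _ ⟨x, rfl⟩
      exact hH x
    refine Subgroup.eq_of_le_of_card_ge h1 ?_
    rw [← hcard]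
    exact (Nat.card_congr (Φ.ofInjective hinj).toEquiv).le
  exact ⟨((Φ.ofInjective hinj).trans (MulEquiv.subgroupCongr hr)).trans e⟩

end Cfsg.Agent.H221.TitsAut
end

-- part: H221/SporOut
section
/-!
# Almost simple groups with sporadic socle have no 2-part between `2^11` and `2^13` (helper221, for S3217)
-/

set_option autoImplicit false

namespace Cfsg.Agent.H221

open Cfsg Cfsg.Agent.NotCT

/-- A normal subgroup with trivial centralizer: the index is at most `|Aut(N) : Inn(N)|`. -/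
theorem index_le_out {G : Type*} [Group G] [Finite G] {N : Subgroup G} (hN : N.Normal)
    (hc : Subgroup.centralizer (N : Set G) = ⊥) : N.index ≤ (MulAut.conj : ↥N →* MulAut ↥N).range.index := by
  have h1 : Function.Injective (MulAut.conjNormal : G →* MulAut ↥N) := by
    rw [injective_iff_map_eq_one]
    intro g hg
    have h2 : g ∈ Subgroup.centralizer (N : Set G) := by
      rw [Subgroup.mem_centralizer_iff]
      intro n hn
      have h3 := congrArg (fun f : MulAut ↥N => ((f ⟨n, hn⟩ : ↥N) : G)) hg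
      simp only [MulAut.conjNormal_apply, MulAut.one_apply] at h3
      rw [mul_inv_eq_iff_eq_mul] at h3
      exact h3.symm
    rw [hc] at h2
    exact h2
  have h2 : Nat.card G ≤ Nat.card (MulAut ↥N) := Nat.card_le_card_of_injective _ h1
  have h3 : Nat.card ↥(MulAut.conj : ↥N →* MulAut ↥N).range ≤ Nat.card ↥N :=
    Nat.card_le_card_of_surjective _ (MulAut.conj : ↥N →* MulAut ↥N).rangeRestrict_surjective
  have h4 := N.card_mul_index
  have h5 := (MulAut.conj : ↥N →* MulAut ↥N).range.card_mul_index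
  have h6 : 0 < Nat.card ↥N := Nat.card_pos
  have h7 : Nat.card ↥N * N.index ≤ Nat.card ↥N * (MulAut.conj : ↥N →* MulAut ↥N).range.index := by
    rw [h4]
    refine h2.trans ?_
    rw [← h5]
    exact Nat.mul_le_mul_right _ h3
  exact Nat.le_of_mul_le_mul_left h7 h6

/-- the sporadic orders are not divisible exactly by `2^11` or `2^12` -/
theorem spor_two_part {M : Type*} [Group M] (h : Cfsg.IsSporadicGroup M) (h11 : 2 ^ 11 ∣ Nat.card M)
    (h13 : ¬ 2 ^ 13 ∣ Nat.card M) : False := by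
  have key : ∀ {N : ℕ}, Nat.card M = N → ((¬ 2 ^ 11 ∣ N) ∨ 2 ^ 13 ∣ N) → False := by
    rintro N rfl (c | c)
    · exact c h11
    · exact h13 c
  rcases h with (h | h | h | h | h | h | h | h | h | h | h | h | h | h | h | h | h | h | h | h | h | h |
    h | h | h | h)
  · exact key (Orders.m11 h) (by norm_num)
  · exact key (Orders.m12 h) (by norm_num)
  · exact key (Orders.m22 h) (by norm_num)
  · exact key (Orders.m23 h) (by norm_num)
  · exact key (Orders.m24 h) (by norm_num)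
  · exact key (Orders.j1 h) (by norm_num)
  · exact key (Orders.j2 h) (by norm_num)
  · exact key (Orders.j3 h) (by norm_num)
  · exact key (Orders.j4 h) (by norm_num)
  · exact key (Orders.co1 h) (by norm_num)
  · exact key (Orders.co2 h) (by norm_num)
  · exact key (Orders.co3 h) (by norm_num)
  · exact key (Orders.mcl h) (by norm_num)
  · exact key (Orders.hs h) (by norm_num)
  · exact key (Orders.suz h) (by norm_num)
  · exact key (Orders.he h) (by norm_num)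
  · exact key (Orders.ru h) (by norm_num)
  · exact key (Orders.on h) (by norm_num)
  · exact key (Orders.ly h) (by norm_num)
  · exact key (Orders.fi22 h) (by norm_num)
  · exact key (Orders.fi23 h) (by norm_num)
  · exact key (Orders.fi24 h) (by norm_num)
  · exact key (Orders.hn h) (by norm_num)
  · exact key (Orders.th h) (by norm_num)
  · exact key (Orders.b h) (by norm_num)
  · exact key (Orders.m h) (by norm_num)

theorem spor_out {G : Type*} [Group G] [Finite G] {M : Subgroup G} (hM : M.Normal)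
    (hc : Subgroup.centralizer (M : Set G) = ⊥) (hs : Cfsg.IsSporadicGroup ↥M) (_h9 : 2 ^ 9 ∣ Nat.card ↥M)
    (h13 : ¬ 2 ^ 13 ∣ Nat.card ↥M) (h12 : 2 ^ 12 ∣ Nat.card G) : False := by
  have h1 : M.index ≤ 2 := (index_le_out hM hc).trans (H498.SporOut.index_le_two hs)
  have h2 : M.index ≠ 0 := Subgroup.index_ne_zero_of_finite
  have h3 := M.card_mul_index
  refine spor_two_part hs ?_ h13
  rw [← h3] at h12
  rcases (by omega : M.index = 1 ∨ M.index = 2) with h | h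
  · rw [h, mul_one] at h12
    exact (pow_dvd_pow 2 (by norm_num)).trans h12
  · rw [h, show (2 : ℕ) ^ 12 = 2 ^ 11 * 2 by norm_num] at h12
    exact Nat.dvd_of_mul_dvd_mul_right (by norm_num) h12

end Cfsg.Agent.H221
end

-- part: H221/SzInv
section
/-!
# Involutions in a Sylow 2-subgroup of `Sz(q)` are central in it (helper221, for S3217)
-/

set_option autoImplicit false

namespace Cfsg.Agent.H221

/-- All elements of square one of a Sylow 2-subgroup of `Sz(q)` are central in it. -/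
theorem sz_inv {M : Type*} [Group M] [Finite M] (hs : Cfsg.Lie.IsoSuzuki M) (S : Sylow 2 M) {t : M} (ht : t ∈ S)
    (h2 : t * t = 1) : ∀ s ∈ S, s * t = t * s := by
  obtain ⟨F, _, _, m, hm, hF, ⟨e⟩⟩ := hs
  intro s hs
  have h := (Cfsg.Agent.Cit.Nil.CVA2.benS_of_sz hm hF e S).1 ⟨t, ht⟩ ⟨s, hs⟩ (Subtype.ext h2)
  exact (congrArg Subtype.val h).symm

end Cfsg.Agent.H221
end

-- part: H312/ReeSmall
section
/-!
# S3217 for `q = 2` (helper312)

* `small_simple` : `O(G) = O_2(G) = 1` : `G ≅ ²F₄(2)`;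
* `small` : `G = O(G) C` or `G ≅ ²F₄(2)`.
-/

set_option autoImplicit false

namespace Cfsg.Agent.H312.Ree

open Cfsg.Agent.SplitTwo Cfsg.Agent.SplitTwo.ZS Cfsg.Agent.TitsThree.RankTwoZ Cfsg.Agent.SplitTwo.RootSysZ
open Cfsg.Agent.KFacts.TwF4 Cfsg.Agent.KFacts.TwF4.Arc Cfsg.Agent.KFacts.TwF4.Irr
open Subgroup
open scoped commutatorElement Pointwise

universe u

variable {K : Type*} [Field K] [Fintype K]

theorem two_elems (hK : Fintype.card K = 2 ^ (2 * 0 + 1)) (x : K) : x = 0 ∨ x = 1 :=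
  H762.two_elems (by rw [Nat.card_eq_fintype_card, hK]) x

/-- **the almost simple case** -/
theorem small_simple {G : Type u} [Group G] [Finite G] {τ : G} {S : Sylow 2 G} {C : Subgroup G}
    (hK : Fintype.card K = 2 ^ (2 * 0 + 1)) {σ : K →+* K} (S' : Full σ ↥(Lie.twistedF4 K (2 ^ 0)))
    (hR : S'.R.p = 2) (hτ : orderOf τ = 2) (hτS : τ ∈ (S : Subgroup G))
    (hτc : ∀ s ∈ (S : Subgroup G), s * τ = τ * s) (hCle : C ≤ centralizer ({τ} : Set G))
    (hCge : centralizer ({τ} : Set G) ≤ C) (e : ↥C ≃* ↥S'.PL)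
    (hknown : ∀ (H : Type u) [Group H] [Finite H], IsSimpleGroup H → IsKnownSimple' H) :
    ∃ Z : Subgroup G, Nat.card Z = 2 ∧ τ ∈ Z ∧ Z ≤ C ∧
      (Cfsg.oddCore G = ⊥ → Cfsg.pCore 2 G ≠ ⊥ → Z.Normal) ∧
      (Cfsg.oddCore G = ⊥ → Cfsg.pCore 2 G = ⊥ → Nonempty (G ≃* ↥(Lie.twistedF4 K (2 ^ 0)))) := by
  have hfact : Fact (Nat.Prime 2) := ⟨Nat.prime_two⟩
  have hchar := ChevalleyStructure.TwF4.Twisted.charP_two hK
  have hfin : Finite ↥(Lie.twistedF4 K (2 ^ 0)) := inferInstance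
  have hU := sylow_U hK S' hR
  have h01 := two_elems hK
  have hCeq : C = centralizer ({τ} : Set G) := le_antisymm hCle hCge
  have hCn : (C.subgroupOf (centralizer ({τ} : Set G))).Normal := by
    rw [hCeq, subgroupOf_self]; infer_instance
  have hodd : Odd (C.relIndex (centralizer ({τ} : Set G))) := by
    rw [hCeq, relIndex_self]; exact odd_one
  have h := sit_of S' hR hU hτ hτS hτc hCle hCn hodd e
  have k := loc2_of S' hR hU h01 e
  have hC : ∀ g, g * τ = τ * g → g ∈ C := fun g hg => hCge (mem_centralizer_singleton_iff.2 hg)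
  refine ⟨tr e (S'.Zc 2), k.cardZ, h.τZ, h.Z_le_C, fun hO h2 => ?_, fun hO h2 => ?_⟩
  · obtain ⟨E, hEne, hEn, hEZ⟩ := h.exists_E (V := Cfsg.pCore 2 G) (Cfsg.Agent.Lib.Cores.pCore_normal 2)
      (Cfsg.Agent.Lib.Cores.pCore_isPGroup 2) h2
    have h3 : E = tr e (S'.Zc 2) := by
      apply eq_of_le_of_card_ge hEZ
      rw [k.cardZ]
      exact Finite.one_lt_card_iff_nontrivial.2 ((nontrivial_iff_ne_bot E).2 hEne)
    rw [← h3]; exact hEn
  · obtain ⟨M, hM, hMs, hQM, hMc, hMna⟩ := h.exists_simple hO h2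
    have hna : ¬ IsMulCommutative M := by
      intro hc
      apply hMna
      intro x hx y hy
      exact congrArg Subtype.val (hc.is_comm.comm (⟨x, hx⟩ : M) ⟨y, hy⟩)
    have hns := h.not_small k hC hO h2 hM hQM
    obtain ⟨hT, hi⟩ := h.tits k hτ hC hM hMs hna (hknown M hMs) hQM hns
      (fun P t ht htP htc hZ hn hex hH => H762.closed_small hH P ht htP htc hZ hn hex)
      (fun hs h9 h13 h12 => H221.spor_out hM hMc hs h9 h13 h12)
      (fun hs P t ht htt => H221.sz_inv hs P ht htt)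
    exact H221.TitsAut.tits_aut hM hMc hT hi 0 rfl hK

/-- conjugates of `z` in `²F₄(2)` with product conjugate to `z` -/
theorem exists_triple {Γ : Type u} [Group Γ] [Finite Γ] {F : Type*} [Field F] [Finite F] {σ : F →+* F} (S' : Full σ Γ)
    (h01 : ∀ x : F, x = 0 ∨ x = 1) (hU : ∃ P : Sylow 2 Γ, (P : Subgroup Γ) = J S'.XZ 1 8) {z : Γ} (hz : z ≠ 1)
    {P : Sylow 2 Γ} (hzP : z ∈ (P : Subgroup Γ)) (hzc : ∀ u ∈ (P : Subgroup Γ), u * z = z * u) :
    ∃ a b c : Γ, (a * z * a⁻¹) * (b * z * b⁻¹) = c * z * c⁻¹ := by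
  have hone : ∀ x ∈ S'.Zc 2, x ≠ 1 → x = S'.e 2 0 1 := by
    rintro _ ⟨u, rfl⟩ hx
    rcases h01 u with rfl | rfl
    · exact absurd (S'.e_zero 2) hx
    · rfl
  obtain ⟨g, hg⟩ := to_Zc S' hU hzP hzc
  have hg1 := hone _ hg (conj_ne_one hz)
  have hcj : ∀ w ∈ S'.W46, w ≠ 1 → ∃ a, a * z * a⁻¹ = w := by
    intro w hw hw1
    obtain ⟨x, -, hx⟩ := Layers.W46_conj_Z S' hw
    have h1 := hone _ hx (conj_ne_one hw1)
    refine ⟨x⁻¹ * g, ?_⟩
    calc x⁻¹ * g * z * (x⁻¹ * g)⁻¹ = x⁻¹ * (g * z * g⁻¹) * x := by group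
      _ = x⁻¹ * (x * w * x⁻¹) * x := by rw [hg1, h1]
      _ = w := by group
  have w1 : S'.e 2 0 1 ∈ S'.W46 := ⟨1, 0, by rw [S'.e_zero, mul_one]⟩
  have w2 : S'.e 3 0 1 ∈ S'.W46 := ⟨0, 1, by rw [S'.e_zero, one_mul]⟩
  have w3 : S'.e 2 0 1 * S'.e 3 0 1 ∈ S'.W46 := ⟨1, 1, rfl⟩
  have n1 : S'.e 2 0 1 ≠ 1 := fun h1 => one_ne_zero (S'.e_eq_one h1).2
  have n2 : S'.e 3 0 1 ≠ 1 := fun h1 => one_ne_zero (S'.e_eq_one h1).2
  have n3 : S'.e 2 0 1 * S'.e 3 0 1 ≠ 1 := by
    intro h1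
    have h2 : S'.e 2 0 1 = S'.e 3 0 1 := by
      have h3 := eq_inv_of_mul_eq_one_left h1
      rw [e_inv, map_zero, mul_zero, add_zero] at h3
      exact h3
    have m4 : S'.e 2 0 1 ∈ S'.XZ 4 := (mem_X4 S').2 ⟨0, 1, rfl⟩
    have m6 : S'.e 2 0 1 ∈ S'.XZ 6 := by rw [h2]; exact (mem_X6 S').2 ⟨0, 1, rfl⟩
    exact n1 (S'.X_inf_near (i := 4) (j := 6) (by norm_num) (by norm_num) m4 m6)
  obtain ⟨a, ha⟩ := hcj _ w1 n1
  obtain ⟨b, hb⟩ := hcj _ w2 n2
  obtain ⟨c, hc⟩ := hcj _ w3 n3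
  exact ⟨a, b, c, by rw [ha, hb, hc]⟩

/-- **S3217 for `q = 2`** -/
theorem small {G : Type u} [Group G] [Finite G] {τ : G} {S : Sylow 2 G} {C : Subgroup G}
    (hK : Fintype.card K = 2 ^ (2 * 0 + 1)) {σ : K →+* K} (S' : Full σ ↥(Lie.twistedF4 K (2 ^ 0)))
    (hR : S'.R.p = 2) (hτ : orderOf τ = 2) (hτS : τ ∈ (S : Subgroup G))
    (hτc : ∀ s ∈ (S : Subgroup G), s * τ = τ * s) (hCle : C ≤ centralizer ({τ} : Set G))
    (hCn : (C.subgroupOf (centralizer ({τ} : Set G))).Normal)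
    (hodd : Odd (C.relIndex (centralizer ({τ} : Set G)))) (e : ↥C ≃* ↥S'.PL)
    (hO : Cfsg.oddCore ↥(centralizer ({τ} : Set G)) = ⊥)
    (hknown : ∀ (H : Type u) [Group H] [Finite H], IsSimpleGroup H → IsKnownSimple' H) :
    Cfsg.oddCore G ⊔ C = ⊤ ∨ Nonempty (G ≃* ↥(Lie.twistedF4 K (2 ^ 0))) := by
  have hfact : Fact (Nat.Prime 2) := ⟨Nat.prime_two⟩
  have hchar := ChevalleyStructure.TwF4.Twisted.charP_two hK
  have hfin : Finite ↥(Lie.twistedF4 K (2 ^ 0)) := inferInstance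
  have hU := sylow_U hK S' hR
  have h01 := two_elems hK
  have hCge := rho_one S' hR hU h01 hτ hτS hτc hCle hCn hodd e hO
  have hτC : τ ∈ C := hCge (mem_centralizer_singleton_iff.2 rfl)
  have hτ1 : τ ≠ 1 := by
    rintro rfl
    rw [orderOf_one] at hτ
    omega
  have hC : ∀ g, g * τ = τ * g → g ∈ C := fun g hg => hCge (mem_centralizer_singleton_iff.2 hg)
  set N : Subgroup G := Cfsg.oddCore G with hN
  have hNn : N.Normal := Cfsg.Agent.Lib.Cores.pPrimeCore_normal 2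
  have hNodd : Odd (Nat.card N) := Nat.coprime_two_right.1 (Cfsg.Agent.Lib.Cores.pPrimeCore_coprime 2)
  have hfpf : ∀ n ∈ N, n * τ = τ * n → n = 1 := by
    intro n hn hnτ
    have h1 : (N.subgroupOf (centralizer ({τ} : Set G))) ≤ Cfsg.oddCore ↥(centralizer ({τ} : Set G)) := by
      apply Cfsg.Agent.Lib.Cores.le_pPrimeCore inferInstance
      rw [Nat.coprime_two_right]
      have h2 : Nat.card (N.subgroupOf (centralizer ({τ} : Set G))) ∣ Nat.card N := by
        rw [← card_map_of_injective (centralizer ({τ} : Set G)).subtype_injective, subgroupOf_map_subtype]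
        exact card_dvd_of_le inf_le_left
      exact hNodd.of_dvd_nat h2
    have h2 : (⟨n, mem_centralizer_singleton_iff.2 hnτ⟩ : ↥(centralizer ({τ} : Set G))) ∈
        N.subgroupOf (centralizer ({τ} : Set G)) := hn
    have h3 := h1 h2
    rw [hO, mem_bot] at h3
    exact congrArg Subtype.val h3
  have hI : Inv τ N := ⟨by rw [← pow_two, ← hτ, pow_orderOf_eq_one], hNn, hfpf⟩
  -- the quotient
  set π : G →* G ⧸ N := QuotientGroup.mk' N with hπ
  have hπs : Function.Surjective π := QuotientGroup.mk'_surjective N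
  have hπ1 : ∀ x, π x = 1 ↔ x ∈ N := fun x => QuotientGroup.eq_one_iff x
  have hCN : ∀ x ∈ C, x ∈ N → x = 1 := fun x hx hxN => hfpf x hxN (mem_centralizer_singleton_iff.1 (hCle hx))
  have hinj : Function.Injective (π.comp C.subtype) := by
    rw [injective_iff_map_eq_one]
    intro x hx
    exact Subtype.ext (hCN x x.2 ((hπ1 _).1 hx))
  have hrange : (π.comp C.subtype).range = C.map π := by
    rw [MonoidHom.range_comp, range_subtype]
  have e' : ↥(C.map π) ≃* ↥S'.PL :=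
    ((MulEquiv.subgroupCongr hrange).symm.trans (MonoidHom.ofInjective hinj).symm).trans e
  have hτN : τ ∉ N := fun h1 => hτ1 (hCN τ hτC h1)
  have hτ' : orderOf (π τ) = 2 := by
    apply orderOf_eq_prime
    · rw [← map_pow, pow_two, hI.tt, map_one]
    · exact fun h1 => hτN ((hπ1 τ).1 h1)
  have hcge : centralizer ({π τ} : Set (G ⧸ N)) ≤ C.map π := by
    intro y hy
    obtain ⟨g, rfl⟩ := hπs y
    have h1 := mem_centralizer_singleton_iff.1 hy
    have h2 : g * τ * g⁻¹ * τ⁻¹ ∈ N := by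
      rw [← hπ1, map_mul, map_mul, map_mul, map_inv, map_inv, h1]; group
    obtain ⟨n, hn, h3⟩ := hI.cent h2
    refine ⟨n * g, hC _ h3, ?_⟩
    rw [map_mul, (hπ1 n).2 hn, one_mul]
  have hcle : C.map π ≤ centralizer ({π τ} : Set (G ⧸ N)) := by
    rintro _ ⟨c, hc, rfl⟩
    rw [mem_centralizer_singleton_iff, ← map_mul, ← map_mul, mem_centralizer_singleton_iff.1 (hCle hc)]
  have hτS' : π τ ∈ ((S.mapSurjective hπs : Sylow 2 (G ⧸ N)) : Subgroup (G ⧸ N)) := ⟨τ, hτS, rfl⟩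
  have hτc' : ∀ s ∈ ((S.mapSurjective hπs : Sylow 2 (G ⧸ N)) : Subgroup (G ⧸ N)), s * π τ = π τ * s := by
    rintro _ ⟨s, hs, rfl⟩
    change π s * π τ = π τ * π s
    rw [← map_mul, hτc s hs, map_mul]
  have hO' : Cfsg.oddCore (G ⧸ N) = ⊥ := Cfsg.Agent.Lib.Cores.pPrimeCore_quotient_pPrimeCore 2
  obtain ⟨Z, hZ2, hτZ, -, hA, hB⟩ := small_simple hK S' hR hτ' hτS' hτc' hcle hcge e' hknown
  by_cases h2 : Cfsg.pCore 2 (G ⧸ N) = ⊥
  · -- `G / N ≅ ²F₄(2)`
    right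
    obtain ⟨ψ⟩ := hB hO' h2
    have hψ1 : ψ (π τ) ≠ 1 := fun h1 => hτN ((hπ1 τ).1 ((MulEquiv.map_eq_one_iff ψ).1 h1))
    obtain ⟨a, b, c, habc⟩ := exists_triple S' h01 hU hψ1
      (P := (S.mapSurjective hπs : Sylow 2 (G ⧸ N)).mapSurjective (f := ψ.toMonoidHom) ψ.surjective)
      ⟨π τ, hτS', rfl⟩ (by
        rintro _ ⟨y, hy, rfl⟩
        change ψ y * ψ (π τ) = ψ (π τ) * ψ y
        rw [← map_mul, hτc' y hy, map_mul])
    obtain ⟨a', ha'⟩ := hπs (ψ.symm a)
    obtain ⟨b', hb'⟩ := hπs (ψ.symm b)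
    obtain ⟨c', hc'⟩ := hπs (ψ.symm c)
    have hNbot : N = ⊥ := by
      refine hI.trick hNodd (a := a') (b := b') (c := c') ?_
      rw [← hπ1]
      apply ψ.injective
      simp only [map_mul, map_inv, map_one, ha', hb', hc', ψ.apply_symm_apply]
      rw [habc, mul_inv_cancel]
    exact ⟨((QuotientGroup.quotientMulEquivOfEq hNbot).trans QuotientGroup.quotientBot).symm.trans ψ⟩
  · -- `Z` is normal
    left
    have hZn := hA hO' h2
    have hcen : ∀ y : G ⧸ N, y ∈ C.map π := by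
      intro y
      apply hcge
      rw [mem_centralizer_singleton_iff]
      have h3 : y * π τ * y⁻¹ ∈ Z := hZn.conj_mem _ hτZ y
      have h4 : y * π τ * y⁻¹ = π τ := by
        refine Cfsg.Agent.H316.Red.eq_of_card_le_two hZ2.le h3 hτZ (conj_ne_one ?_) ?_
        · exact fun h1 => hτN ((hπ1 τ).1 h1)
        · exact fun h1 => hτN ((hπ1 τ).1 h1)
      exact mul_inv_eq_iff_eq_mul.1 h4
    rw [eq_top_iff]
    intro g _
    obtain ⟨c, hc, hcg⟩ := hcen (π g)
    have h3 : g * c⁻¹ ∈ N := by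
      rw [← hπ1, map_mul, map_inv, hcg, mul_inv_cancel]
    have e1 : g = (g * c⁻¹) * c := by group
    rw [e1]
    exact mul_mem (mem_sup_left h3) (mem_sup_right hc)

end Cfsg.Agent.H312.Ree
end
end
end
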